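import Cfsg.Agent.Lib.J4Local.Cover
import Cfsg.Agent.Lib.JankoTwo.Three

/-!
# Janko four type: involution lifts and the Sylow 3-subgroup

Involutions of M22 lift to involutions of `C(z) ∩ C(P)`; a subgroup of order 27 of that group is
extraspecial of exponent 3 and has normalizer of order 864 in `C(z) ∩ N(P)`.
-/

set_option autoImplicit false
set_option linter.style.haveILetI false
set_option linter.unusedSectionVars false

namespace Cfsg.Agent.J4Local

open Subgroup
open scoped commutatorElement Pointwise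

universe u

theorem conj_m22_injective :
    Function.Injective (MulAut.conj : ↥Spor.M22 →* MulAut ↥Spor.M22) := by
  haveI := Cfsg.Agent.Golay.M22TwoBlock.isSimple
  rw [injective_iff_map_eq_one]
  intro a ha
  have hac : a ∈ center ↥Spor.M22 := mem_center_iff.2 fun b => by
    have := DFunLike.congr_fun ha b
    rw [MulAut.conj_apply, MulAut.one_apply, mul_inv_eq_iff_eq_mul] at this
    exact this.symm
  rcases (inferInstance : (center ↥Spor.M22).Normal).eq_bot_or_eq_top with h | h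
  · rwa [h, mem_bot] at hac
  · exfalso
    refine M22Order.not_comm Cfsg.Agent.Golay.M22Involution.card_M22 ⟨⟨fun x y => ?_⟩⟩
    exact (mem_center_iff.1 (h ▸ mem_top x) y).symm

theorem card_mulAut_m22 : Nat.card (MulAut ↥Spor.M22) = 887040 := by
  rw [← (Cfsg.Inn ↥Spor.M22).card_mul_index, Cfsg.Agent.Golay.AutM22.index_inn]
  have : Nat.card ↥(Cfsg.Inn ↥Spor.M22) = 443520 := by
    rw [← Cfsg.Agent.Golay.M22Involution.card_M22]
    exact (Nat.card_congr (MonoidHom.ofInjective conj_m22_injective).toEquiv).symm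
  rw [this]

theorem fac_887040 : (887040 : ℕ).factorization 3 = 2 := by
  haveI : Fact (Nat.Prime 3) := ⟨Nat.prime_three⟩
  rw [Nat.factorization_def _ Nat.prime_three, show (887040 : ℕ) = 3 ^ 2 * 98560 by norm_num,
    padicValNat.mul (by norm_num) (by norm_num), padicValNat.prime_pow,
    padicValNat.eq_zero_of_not_dvd (by norm_num), add_zero]

/-- A subgroup of order 9 of `Aut M22` has normalizer of order 144. -/
theorem card_normalizer_nine (Q : Subgroup (MulAut ↥Spor.M22)) (hQ : Nat.card Q = 9) :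
    Nat.card (normalizer (Q : Set (MulAut ↥Spor.M22))) = 144 := by
  classical
  haveI := Cfsg.Agent.Golay.M22TwoBlock.isSimple
  haveI : Fact (Nat.Prime 3) := ⟨Nat.prime_three⟩
  have hM := Cfsg.Agent.Golay.M22Involution.card_M22
  have hI := Cfsg.Agent.Golay.AutM22.index_inn
  haveI hn : (Cfsg.Inn ↥Spor.M22).Normal := normal_of_index_eq_two hI
  have hle : Q ≤ Cfsg.Inn ↥Spor.M22 := fun q hq => by
    have h9 : q ^ 9 = 1 := orderOf_dvd_iff_pow_eq_one.1 (hQ ▸ Subgroup.orderOf_dvd_natCard Q hq)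
    have h2 : (q * q) ^ 5 = q := by
      rw [← pow_two, ← pow_mul, show 2 * 5 = 9 + 1 by norm_num, pow_succ, h9, one_mul]
    rw [← h2]
    exact pow_mem (mul_self_mem_of_index_two hI q) 5
  set c : ↥Spor.M22 →* MulAut ↥Spor.M22 := MulAut.conj with hc
  have hcinj : Function.Injective c := conj_m22_injective
  have hrange : Q ≤ c.range := hle
  set Q₀ := Q.comap c with hQ₀
  have hQ₀c : Nat.card Q₀ = 9 := by
    rw [← card_map_of_injective hcinj (K := Q₀), hQ₀, map_comap_eq_self hrange, hQ]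
  let S : Sylow 3 ↥Spor.M22 := Sylow.ofCard Q₀ (by
    rw [hQ₀c, M22Order.factorization_three hM]; norm_num)
  have hinf : Nat.card ↥(normalizer (Q : Set (MulAut ↥Spor.M22)) ⊓ Cfsg.Inn ↥Spor.M22) = 72 := by
    have h1 : (normalizer (Q : Set (MulAut ↥Spor.M22))).comap c = normalizer (Q₀ : Set ↥Spor.M22) :=
      comap_normalizer_eq_of_le_range hrange
    have h2 : ((normalizer (Q : Set (MulAut ↥Spor.M22))).comap c).map c =
        normalizer (Q : Set (MulAut ↥Spor.M22)) ⊓ Cfsg.Inn ↥Spor.M22 := by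
      rw [map_comap_eq, inf_comm]
    rw [← h2, card_map_of_injective hcinj, h1]
    exact three_card_normalizer hM S
  have hsup : normalizer (Q : Set (MulAut ↥Spor.M22)) ⊔ Cfsg.Inn ↥Spor.M22 = ⊤ :=
    Sylow.normalizer_sup_eq_top' (Sylow.ofCard Q (by
      rw [hQ, card_mulAut_m22, fac_887040]; norm_num)) hle
  have hrel : (Cfsg.Inn ↥Spor.M22).relIndex (normalizer (Q : Set (MulAut ↥Spor.M22))) = 2 := by
    rw [← relIndex_sup_right, hsup, relIndex_top_right, hI]
  have h := ((Cfsg.Inn ↥Spor.M22).subgroupOf (normalizer (Q : Set (MulAut ↥Spor.M22)))).card_mul_index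
  rw [← Subgroup.relIndex, hrel, ← inf_subgroupOf_right,
    Nat.card_congr (subgroupOfEquivOfLe inf_le_right).toEquiv, inf_comm, hinf] at h
  exact h.symm

variable {G : Type u} [Group G] [Finite G] {z : G} {P : Subgroup G}
  (hJ : Cfsg.IsOfJankoFourTypeWith z P)

include hJ

theorem six_cube {y : G} (hy : y ∈ P ⊔ zpowers z) : y ^ 3 ∈ zpowers z := by
  have hn : P ≤ normalizer ((zpowers z : Subgroup G) : Set G) := fun p hp => by
    refine (centralizer_le_normalizer _) (mem_centralizer_iff.2 fun w hw => ?_)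
    exact (six_central hJ (mem_sup_right hw) (P_le_CP hJ hp)).eq
  have hy' : y ∈ ((P ⊔ zpowers z : Subgroup G) : Set G) := hy
  rw [coe_mul_of_left_le_normalizer_right P _ hn] at hy'
  obtain ⟨p, hp, c, hc, rfl⟩ := hy'
  have hp3 : p ^ 3 = 1 := orderOf_dvd_iff_pow_eq_one.1 (card_P hJ ▸ Subgroup.orderOf_dvd_natCard P hp)
  rw [(six_central hJ (mem_sup_right hc) (P_le_CP hJ hp)).symm.mul_pow, hp3, one_mul]
  exact pow_mem hc 3

theorem z_cases {c : G} (hc : c ∈ zpowers z) : c = 1 ∨ c = z := by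
  obtain ⟨i, rfl⟩ := mem_zpowers_iff.1 hc
  rw [← zpow_mod_orderOf, orderOf_z hJ]
  rcases Int.emod_two_eq_zero_or_one i with h | h
  · exact Or.inl (by rw [show i % ((2 : ℕ) : ℤ) = 0 from h, zpow_zero])
  · exact Or.inr (by rw [show i % ((2 : ℕ) : ℤ) = 1 from h, zpow_one])

theorem z_mul_z : z * z = 1 := by
  rw [← pow_two, ← orderOf_z hJ, pow_orderOf_eq_one]

/-- Every involution of M22 lifts to an involution. -/
theorem exists_involution_lift {π : ↥(CP z P) →* ↥Spor.M22} (hπ : Function.Surjective π)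
    (hker : π.ker = (P ⊔ zpowers z).subgroupOf (CP z P)) {m : ↥Spor.M22} (hm : orderOf m = 2) :
    ∃ u : ↥(CP z P), orderOf u = 2 ∧ π u = m := by
  classical
  haveI := Cfsg.Agent.Golay.M22TwoBlock.isSimple
  have hM := Cfsg.Agent.Golay.M22Involution.card_M22
  suffices h : ∃ u : ↥(CP z P), u * u = 1 ∧ π u ≠ 1 by
    obtain ⟨u, hu, hu1⟩ := h
    have hu2 : orderOf (π u) = 2 := orderOf_eq_prime (by rw [pow_two, ← map_mul, hu, map_one]) hu1
    obtain ⟨x, hx⟩ := isConj_iff.1 (M22Order.isConj_involution hM hu2 hm)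
    obtain ⟨c, rfl⟩ := hπ x
    refine ⟨c * u * c⁻¹, orderOf_eq_prime ?_ (fun h => hu1 ?_), by rw [map_mul, map_mul, map_inv, hx]⟩
    · rw [pow_two]
      calc c * u * c⁻¹ * (c * u * c⁻¹) = c * (u * u) * c⁻¹ := by group
        _ = 1 := by rw [hu]; group
    · rw [conj_eq_one_iff.1 h, map_one]
  by_contra hno
  push Not at hno
  have hlift : ∀ e : ↥Spor.M22, e * e = 1 → ∃ a : ↥(CP z P), π a = e ∧ (e ≠ 1 → ((a * a : ↥(CP z P)) : G) = z) := by
    intro e he
    obtain ⟨a₀, rfl⟩ := hπ e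
    have hk : a₀ * a₀ ∈ π.ker := by rw [MonoidHom.mem_ker, map_mul, he]
    rw [hker, mem_subgroupOf] at hk
    refine ⟨a₀ ^ 3, by rw [map_pow, pow_succ, pow_two, he, one_mul], fun hne => ?_⟩
    have h3 : ((a₀ ^ 3 * a₀ ^ 3 : ↥(CP z P)) : G) ∈ zpowers z := by
      have := six_cube hJ hk
      rwa [coe_mul, coe_pow, ← pow_add, show 3 + 3 = 2 * 3 from rfl, pow_mul, pow_two,
        ← coe_mul] at *
    refine (z_cases hJ h3).resolve_left fun h1 => hne ?_
    have := hno (a₀ ^ 3) (Subtype.ext h1)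
    rwa [map_pow, pow_succ, pow_two, he, one_mul] at this
  choose! lift hlift1 hlift2 using hlift
  obtain ⟨E, hE, hsq, hcomm⟩ := exists_elementary_sixteen hM
  obtain ⟨e₁, he₁, h₁⟩ := E.bot_or_exists_ne_one.resolve_left fun h => by
    rw [h, Subgroup.card_bot] at hE; omega
  obtain ⟨e₂, he₂, h₂⟩ := SetLike.not_le_iff_exists.1 (show ¬ E ≤ zpowers e₁ from fun h => by
    have := Nat.le_of_dvd (by rw [Nat.card_zpowers]; exact orderOf_pos e₁) (card_dvd_of_le h)
    rw [hE, Nat.card_zpowers, orderOf_eq_prime (by rw [pow_two]; exact hsq e₁ he₁) h₁] at this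
    omega)
  obtain ⟨e₃, he₃, h₃⟩ : ∃ e₃ ∈ E, e₃ ∉ ({1, e₁, e₂, e₁ * e₂} : Finset ↥Spor.M22) := by
    by_contra h
    push Not at h
    have hsub : (E : Set ↥Spor.M22) ⊆ ↑({1, e₁, e₂, e₁ * e₂} : Finset ↥Spor.M22) := h
    have h4 := Set.ncard_le_ncard hsub (Finset.finite_toSet _)
    rw [Set.ncard_coe_finset, ← Nat.card_coe_set_eq] at h4
    have : Nat.card E ≤ 4 := h4.trans ((Finset.card_insert_le _ _).trans (Nat.succ_le_succ
      ((Finset.card_insert_le _ _).trans (Nat.succ_le_succ ((Finset.card_insert_le _ _).trans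
        (by simp))))))
    omega
  simp only [Finset.mem_insert, Finset.mem_singleton, not_or] at h₃
  have hinv : ∀ e ∈ E, e⁻¹ = e := fun e he => inv_eq_of_mul_eq_one_right (hsq e he)
  -- two commuting lifts give an involution
  have hnc : ∀ (e f : ↥Spor.M22) (a b : ↥(CP z P)), π a = e → π b = f →
      ((a * a : ↥(CP z P)) : G) = z → ((b * b : ↥(CP z P)) : G) = z → e * f ≠ 1 → a * b ≠ b * a := by
    intro e f a b ha hb haa hbb hef hab
    refine hef ?_
    rw [← ha, ← hb, ← map_mul]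
    refine hno _ (Subtype.ext ?_)
    have h4 : a * b * (a * b) = (a * a) * (b * b) := by
      calc a * b * (a * b) = a * (b * a) * b := by group
        _ = _ := by rw [← hab]; group
    rw [h4, coe_mul, haa, hbb, z_mul_z hJ, OneMemClass.coe_one]
  -- the commutator of two lifts is `z`
  have hcz : ∀ e ∈ E, ∀ f ∈ E, e ≠ 1 → f ≠ 1 → e * f ≠ 1 →
      ((⁅lift e, lift f⁆ : ↥(CP z P)) : G) = z := by
    intro e he f hf he1 hf1 hef
    have haz := hlift2 e (hsq e he) he1
    have hbz := hlift2 f (hsq f hf) hf1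
    set a := lift e
    set b := lift f
    have hk : ⁅a, b⁆ ∈ π.ker := by
      rw [MonoidHom.mem_ker, map_commutatorElement, hlift1 e (hsq e he), hlift1 f (hsq f hf),
        commutatorElement_eq_one_iff_mul_comm]
      exact hcomm e he f hf
    rw [hker, mem_subgroupOf] at hk
    have hcc : ∀ w : ↥(CP z P), Commute ⁅a, b⁆ w := fun w => Subtype.ext (six_central hJ hk w.2).eq
    have hzw : ∀ w : ↥(CP z P), Commute (a * a) w := fun w => Subtype.ext (by
      show ((a * a : ↥(CP z P)) : G) * (w : G) = (w : G) * ((a * a : ↥(CP z P)) : G)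
      rw [haz]
      exact (six_central hJ (mem_sup_right (mem_zpowers z)) w.2).eq)
    have hsq2 : ⁅a, b⁆ * ⁅a, b⁆ = 1 := by
      have h5 : a * a * b * (a * a)⁻¹ = ⁅a, b⁆ * ⁅a, b⁆ * b := by
        calc a * a * b * (a * a)⁻¹ = a * (⁅a, b⁆ * b) * a⁻¹ := by rw [commutatorElement_def]; group
          _ = (⁅a, b⁆ * a) * b * a⁻¹ := by rw [(hcc a).eq]; group
          _ = ⁅a, b⁆ * ⁅a, b⁆ * b := by rw [commutatorElement_def]; group
      rw [(hzw b).eq, mul_inv_cancel_right] at h5
      exact (mul_eq_right.1 h5.symm)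
    have h3 : ((⁅a, b⁆ : ↥(CP z P)) : G) ∈ zpowers z := by
      have := six_cube hJ hk
      rwa [pow_succ, pow_two, ← coe_mul, hsq2, OneMemClass.coe_one, one_mul] at this
    refine (z_cases hJ h3).resolve_left fun h1 => ?_
    exact hnc e f a b (hlift1 e (hsq e he)) (hlift1 f (hsq f hf)) haz hbz hef
      (commutatorElement_eq_one_iff_mul_comm.1 (Subtype.ext h1))
  have ne_one : ∀ e ∈ E, ∀ f ∈ E, e ≠ f → e * f ≠ 1 := fun e _ f hf hne h =>
    hne ((eq_inv_of_mul_eq_one_left h).trans (hinv f hf))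
  have h₂' : e₂ ≠ 1 := fun h => h₂ (h ▸ one_mem _)
  have h12 : e₁ ≠ e₂ := fun h => h₂ (h ▸ mem_zpowers e₁)
  have c12 := hcz e₁ he₁ e₂ he₂ h₁ h₂' (ne_one _ he₁ _ he₂ h12)
  have c13 := hcz e₁ he₁ e₃ he₃ h₁ h₃.1 (ne_one _ he₁ _ he₃ (Ne.symm h₃.2.1))
  have c23 := hcz e₂ he₂ e₃ he₃ h₂' h₃.1 (ne_one _ he₂ _ he₃ (Ne.symm h₃.2.2.1))
  have haz := hlift2 e₁ (hsq _ he₁) h₁
  have hbz := hlift2 e₂ (hsq _ he₂) h₂'
  have hcz' := hlift2 e₃ (hsq _ he₃) h₃.1
  set a := lift e₁ with ha
  set b := lift e₂ with hb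
  set c := lift e₃ with hc
  have hze : ∀ w : ↥(CP z P), Commute z (w : G) := fun w => six_central hJ (mem_sup_right (mem_zpowers z)) w.2
  rw [commutatorElement_def] at c12 c13 c23
  simp only [coe_mul, InvMemClass.coe_inv] at c12 c13 c23 haz hbz hcz'
  have k12 : (a : G) * b = z * (b * a) := Eq.trans (by group) (congrArg (· * ((b : G) * a)) c12)
  have k13 : (a : G) * c = z * (c * a) := Eq.trans (by group) (congrArg (· * ((c : G) * a)) c13)
  have k23 : (b : G) * c = z * (c * b) := Eq.trans (by group) (congrArg (· * ((c : G) * b)) c23)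
  refine hnc e₁ (e₂ * e₃) a (b * c) (hlift1 e₁ (hsq _ he₁)) (by rw [map_mul, hlift1 e₂ (hsq _ he₂), hlift1 e₃ (hsq _ he₃)])
    (by rw [coe_mul]; exact haz) ?_ (ne_one _ he₁ _ (mul_mem he₂ he₃) fun h => h₃.2.2.2 ?_) (Subtype.ext ?_)
  · simp only [coe_mul]
    have hcb : (c : G) * b = z * (b * c) := by rw [k23, ← mul_assoc, z_mul_z hJ, one_mul]
    calc (b : G) * c * (b * c) = b * (c * b) * c := by group
      _ = b * (z * (b * c)) * c := by rw [hcb]
      _ = z * ((b * b) * (c * c)) := by rw [← mul_assoc (b : G) z, ← (hze b).eq]; group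
      _ = z := by rw [hbz, hcz', z_mul_z hJ, mul_one]
  · rw [h, mul_assoc, (hcomm e₃ he₃ e₂ he₂).eq, ← mul_assoc, hsq e₂ he₂, one_mul]
  · simp only [coe_mul]
    calc (a : G) * (b * c) = a * b * c := by group
      _ = z * b * (a * c) := by rw [k12]; group
      _ = z * (b * z) * (c * a) := by rw [k13]; group
      _ = (z * z) * b * (c * a) := by rw [← (hze b).eq]; group
      _ = b * c * a := by rw [z_mul_z hJ]; group

theorem card_Hz : Nat.card ↥(Hz z) = 2 ^ 13 * 3 * 887040 := by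
  obtain ⟨-, -, hE, -, ⟨N, -, hNH, -, hN, ⟨hn, ⟨ψ⟩⟩, -⟩, -⟩ := hJ
  haveI := hn
  rw [card_eq_card_quotient_mul_card_subgroup (N.subgroupOf (centralizer ({z} : Set G))),
    Nat.card_congr ψ.toEquiv, card_mulAut_m22, Nat.card_congr (subgroupOfEquivOfLe hNH).toEquiv, hN, hE]
  ring

theorem exists_twenty_seven : ∃ T : Subgroup G, T ≤ CP z P ∧ Nat.card T = 27 := by
  haveI : Fact (Nat.Prime 3) := ⟨Nat.prime_three⟩
  obtain ⟨K, hK⟩ := Sylow.exists_subgroup_card_pow_prime (G := ↥(CP z P)) 3 (n := 3)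
    (by rw [card_CP hJ]; norm_num)
  exact ⟨K.map (CP z P).subtype, map_subtype_le _,
    by rw [card_map_of_injective (CP z P).subtype_injective, hK]; norm_num⟩

/-- A Sylow 3-subgroup of the group lying in `C(z)` is conjugate in `C(z)` into `C(P)`. -/
theorem exists_conj_sylow [Fact (Nat.Prime 3)] (R : Sylow 3 G) (hR : (R : Subgroup G) ≤ Hz z) :
    ∃ T : Subgroup G, T ≤ CP z P ∧ Nat.card T = 27 ∧
      ∃ h ∈ Hz z, (R : Subgroup G) = T.map (MulAut.conj h).toMonoidHom := by
  obtain ⟨T, hT, hT27⟩ := exists_twenty_seven hJ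
  refine ⟨T, hT, hT27, ?_⟩
  have hf : (Nat.card ↥(Hz z)).factorization 3 = 3 := by
    rw [card_Hz hJ, Nat.factorization_mul (by norm_num) (by norm_num), Finsupp.add_apply, fac_887040,
      Nat.factorization_mul (by norm_num) (by norm_num), Finsupp.add_apply,
      Nat.Prime.factorization_self Nat.prime_three, Nat.Prime.factorization_pow Nat.prime_two,
      Finsupp.single_eq_of_ne (by norm_num)]
  have hTH : T ≤ Hz z := hT.trans inf_le_left
  let T' : Sylow 3 ↥(Hz z) := Sylow.ofCard (T.subgroupOf (Hz z)) (by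
    rw [Nat.card_congr (subgroupOfEquivOfLe hTH).toEquiv, hT27, hf]; norm_num)
  obtain ⟨h, hh⟩ := MulAction.exists_smul_eq ↥(Hz z) T' (R.subtype hR)
  refine ⟨h, h.2, ?_⟩
  have h1 := congrArg (fun S : Sylow 3 ↥(Hz z) => (S : Subgroup ↥(Hz z)).map (Hz z).subtype) hh
  simp only [Sylow.coe_subtype, subgroupOf_map_subtype, inf_of_le_left hR] at h1
  rw [← h1]
  ext x
  constructor
  · rintro ⟨y, hy, rfl⟩
    obtain ⟨w, hw, rfl⟩ := hy
    exact ⟨(w : G), hw, rfl⟩
  · rintro ⟨w, hw, rfl⟩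
    exact ⟨h * ⟨w, hTH hw⟩ * h⁻¹, ⟨⟨w, hTH hw⟩, hw, rfl⟩, rfl⟩

section twentyseven

variable {T : Subgroup G} (hT : T ≤ CP z P) (hT27 : Nat.card T = 27)

include hT hT27

theorem P_le_T : P ≤ T := by
  haveI : Fact (Nat.Prime 3) := ⟨Nat.prime_three⟩
  have hTp : IsPGroup 3 T := IsPGroup.of_card (n := 3) (by rw [hT27]; norm_num)
  have hPp : IsPGroup 3 P := IsPGroup.of_card (n := 1) (by rw [card_P hJ]; norm_num)
  have hn : T ≤ normalizer (P : Set G) := (hT.trans inf_le_right).trans (centralizer_le_normalizer _)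
  obtain ⟨k, hk⟩ := IsPGroup.iff_card.1 (hTp.to_sup_of_normal_right' hPp hn)
  have hd : 3 ^ k ∣ 6 * 443520 := by
    rw [← hk, ← card_CP hJ]; exact card_dvd_of_le (sup_le hT (P_le_CP hJ))
  have hk3 : k ≤ 3 := by
    by_contra h
    have : 3 ^ 4 ∣ 6 * 443520 := (Nat.pow_dvd_pow 3 (by omega)).trans hd
    norm_num at this
  have e : T = T ⊔ P := eq_of_le_of_card_ge le_sup_left (by
    rw [hT27, hk]; exact (Nat.pow_le_pow_right (by norm_num) hk3).trans (by norm_num))
  rw [e]; exact le_sup_right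

theorem T_inf_zpowers : T ⊓ zpowers z = ⊥ :=
  (disjoint_of_coprime_natCard (by rw [hT27, Nat.card_zpowers, orderOf_z hJ]; norm_num)).eq_bot

theorem not_comm_T : ¬ ∀ a b : ↥T, a * b = b * a := by
  intro hcomm
  obtain ⟨g, hg, hgP⟩ := exists_gen hJ
  have hgm : g ∈ P := hgP ▸ mem_zpowers g
  let T' := T.subgroupOf (CP z P)
  letI : CommGroup ↥T' := { T'.toGroup with
    mul_comm := fun a b => by
      have h := congrArg Subtype.val
        (hcomm ⟨((a : ↥(CP z P)) : G), a.2⟩ ⟨((b : ↥(CP z P)) : G), b.2⟩)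
      apply Subtype.ext
      apply Subtype.ext
      simpa using h }
  let g' : ↥(CP z P) := ⟨g, P_le_CP hJ hgm⟩
  have hc : ∀ w : ↥(CP z P), Commute g' w := fun w => Subtype.ext (six_central hJ (mem_sup_left hgm) w.2).eq
  have hidx : T'.index = 98560 := by
    have := T'.card_mul_index
    rw [card_CP hJ, Nat.card_congr (subgroupOfEquivOfLe hT).toEquiv, hT27] at this
    omega
  have htr := MonoidHom.transfer_eq_pow (MonoidHom.id ↥T') g' fun k g₀ _ => by
    rw [((hc g₀).pow_left k).symm.inv_left.eq, inv_mul_cancel_right]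
  have hmem : g' ∈ commutator ↥(CP z P) := by
    have hP : P ≤ ⁅CP z P, CP z P⁆ := by obtain ⟨-, -, -, -, -, -, -, -, h⟩ := hJ; exact h
    have := hP hgm
    rw [show ⁅CP z P, CP z P⁆ = (commutator ↥(CP z P)).map (CP z P).subtype by
      rw [_root_.commutator_def, map_commutator, ← MonoidHom.range_eq_map, range_subtype]] at this
    obtain ⟨y, hy, e⟩ := this
    rwa [show g' = y from Subtype.ext e.symm]
  have h1 := Abelianization.commutator_subset_ker (MonoidHom.transfer (MonoidHom.id ↥T')) hmem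
  rw [MonoidHom.mem_ker, htr, MonoidHom.id_apply] at h1
  have h2 : g ^ 98560 = 1 := by
    have := congrArg (fun w : ↥T' => ((w : ↥(CP z P)) : G)) h1
    simpa [hidx, g'] using this
  have := orderOf_dvd_of_pow_eq_one h2
  rw [hg] at this
  norm_num at this

theorem T_extraspecial : Cfsg.IsExtraspecial 3 ↥T :=
  JankoTwo.extraspecial_of_card hT27 (not_comm_T hJ hT hT27)

theorem center_T : center ↥T = P.subgroupOf T := by
  refine (eq_of_le_of_card_ge (fun x hx => ?_) ?_).symm
  · exact mem_center_iff.2 fun y => Subtype.ext (six_central hJ (mem_sup_left hx) (hT y.2)).symm.eq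
  · rw [(T_extraspecial hJ hT hT27).2,
      Nat.card_congr (subgroupOfEquivOfLe (P_le_T hJ hT hT27)).toEquiv, card_P hJ]

theorem normalizer_T_le : normalizer (T : Set G) ≤ normalizer (P : Set G) := by
  have hPT := P_le_T hJ hT hT27
  intro n hn
  have key : ∀ m ∈ normalizer (T : Set G), ∀ p ∈ P, m * p * m⁻¹ ∈ P := by
    intro m hm p hp
    have hmem : (⟨m * p * m⁻¹, (mem_normalizer_iff.1 hm p).1 (hPT hp)⟩ : ↥T) ∈ center ↥T := by
      refine mem_center_iff.2 fun y => Subtype.ext ?_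
      have hy : m⁻¹ * (y : G) * m ∈ T := by
        simpa using (mem_normalizer_iff.1 (inv_mem hm) (y : G)).1 y.2
      have hc := (six_central hJ (mem_sup_left hp) (hT hy)).eq
      show (y : G) * (m * p * m⁻¹) = m * p * m⁻¹ * (y : G)
      calc (y : G) * (m * p * m⁻¹) = m * ((m⁻¹ * y * m) * p) * m⁻¹ := by group
        _ = m * (p * (m⁻¹ * y * m)) * m⁻¹ := by rw [hc]
        _ = _ := by group
    rw [center_T hJ hT hT27] at hmem
    exact hmem
  refine mem_normalizer_iff.2 fun p => ⟨key n hn p, fun h => ?_⟩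
  simpa [mul_assoc] using key n⁻¹ (inv_mem hn) _ h

theorem six_inf_T {y : G} (hy : y ∈ P ⊔ zpowers z) (hyT : y ∈ T) : y ∈ P := by
  have hn : P ≤ normalizer ((zpowers z : Subgroup G) : Set G) := fun p hp => by
    refine (centralizer_le_normalizer _) (mem_centralizer_iff.2 fun w hw => ?_)
    exact (six_central hJ (mem_sup_right hw) (P_le_CP hJ hp)).eq
  have hy' : y ∈ ((P ⊔ zpowers z : Subgroup G) : Set G) := hy
  rw [coe_mul_of_left_le_normalizer_right P _ hn] at hy'
  obtain ⟨p, hp, c, hc, rfl⟩ := hy'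
  have hcT : c ∈ T ⊓ zpowers z := ⟨by simpa using mul_mem (inv_mem (P_le_T hJ hT hT27 hp)) hyT, hc⟩
  rw [T_inf_zpowers hJ hT hT27, mem_bot] at hcT
  simpa [hcT] using hp

theorem T_pow_three {x : G} (hx : x ∈ T) : x ^ 3 = 1 := by
  haveI := Cfsg.Agent.Golay.M22TwoBlock.isSimple
  haveI : Fact (Nat.Prime 3) := ⟨Nat.prime_three⟩
  have hM := Cfsg.Agent.Golay.M22Involution.card_M22
  obtain ⟨π, hπ, hker⟩ := exists_pi hJ
  by_cases hxP : x ∈ P
  · exact orderOf_dvd_iff_pow_eq_one.1 (card_P hJ ▸ Subgroup.orderOf_dvd_natCard P hxP)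
  set x' : ↥(CP z P) := ⟨x, hT hx⟩
  have h27 : x ^ 27 = 1 := orderOf_dvd_iff_pow_eq_one.1 (hT27 ▸ Subgroup.orderOf_dvd_natCard T hx)
  have hx27 : x' ^ 27 = 1 := Subtype.ext h27
  have hr3 : π x' ^ 3 = 1 := by
    obtain ⟨k, -, hk⟩ := (Nat.dvd_prime_pow Nat.prime_three).1
      (show orderOf (π x') ∣ 3 ^ 3 from orderOf_dvd_of_pow_eq_one (by
        rw [← map_pow, show (3 : ℕ) ^ 3 = 27 from rfl, hx27, map_one]))
    obtain ⟨S, hS⟩ := (IsPGroup.of_card (p := 3) (n := k) (by rw [Nat.card_zpowers, hk]) :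
      IsPGroup 3 (zpowers (π x'))).exists_le_sylow
    exact three_pow hM S (hS (mem_zpowers _))
  have hr1 : π x' ≠ 1 := fun h => by
    have hk : x' ∈ π.ker := h
    rw [hker, mem_subgroupOf] at hk
    exact hxP (six_inf_T hJ hT hT27 hk hx)
  have hr : orderOf (π x') = 3 := orderOf_eq_prime hr3 hr1
  have hx3 : x ^ 3 ∈ P := by
    have hk : x' ^ 3 ∈ π.ker := by rw [MonoidHom.mem_ker, map_pow, hr3]
    rw [hker, mem_subgroupOf] at hk
    exact six_inf_T hJ hT hT27 hk (pow_mem hx 3)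
  obtain ⟨m, hm⟩ := isConj_iff.1 (M22Order.isConj_three hM hr (by rw [orderOf_inv, hr] :
    orderOf (π x')⁻¹ = 3))
  obtain ⟨c, rfl⟩ := hπ m
  have hk : c * x' * c⁻¹ * x' ∈ π.ker := by
    rw [MonoidHom.mem_ker, map_mul, map_mul, map_mul, map_inv, hm, inv_mul_cancel]
  rw [hker, mem_subgroupOf] at hk
  simp only [coe_mul, InvMemClass.coe_inv] at hk
  change (c : G) * x * (c : G)⁻¹ * x ∈ P ⊔ zpowers z at hk
  set y := (c : G) * x * (c : G)⁻¹ with hy
  set k := y * x with hk'
  have hy3 : y ^ 3 = x ^ 3 := by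
    rw [hy, conj_pow, ← (six_central hJ (mem_sup_left hx3) c.2).eq, mul_inv_cancel_right]
  have hkx : Commute k x⁻¹ := (six_central hJ hk (hT hx)).inv_right
  have hyk : y = k * x⁻¹ := by rw [hk', mul_inv_cancel_right]
  rw [hyk, hkx.mul_pow, inv_pow, mul_inv_eq_iff_eq_mul] at hy3
  have hz' := six_cube hJ hk
  rw [hy3] at hz'
  have h6 : x ^ 3 * x ^ 3 ∈ T ⊓ zpowers z := ⟨mul_mem (pow_mem hx 3) (pow_mem hx 3), hz'⟩
  rw [T_inf_zpowers hJ hT hT27, mem_bot, ← pow_add] at h6
  have := pow_gcd_eq_one.2 ⟨h6, h27⟩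
  norm_num at this
  exact this

theorem T_exponent : Monoid.exponent ↥T = 3 := by
  have h : Monoid.exponent ↥T ∣ 3 := Monoid.exponent_dvd_of_forall_pow_eq_one fun t =>
    Subtype.ext (by rw [coe_pow]; exact T_pow_three hJ hT hT27 t.2)
  rcases (Nat.dvd_prime Nat.prime_three).1 h with h1 | h1
  · exfalso
    haveI : Subsingleton ↥T := Monoid.exp_eq_one_iff.1 h1
    rw [Nat.card_of_subsingleton (1 : ↥T)] at hT27
    omega
  · exact h1

/-- The normalizer of a Sylow 3-subgroup in `C(z) ∩ N(P)` has order 864. -/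
theorem card_normalizer_T :
    Nat.card ↥(NPz z P ⊓ normalizer (T : Set G)) = 864 := by
  obtain ⟨f, hf, hker⟩ := exists_aut_hom hJ
  have hCN : CP z P ≤ NPz z P := inf_le_inf_left _ (centralizer_le_normalizer _)
  have hTN : T ≤ NPz z P := hT.trans hCN
  have hzN : z ∈ NPz z P := hCN (z_mem_CP hJ)
  have hPT := P_le_T hJ hT hT27
  set U := T ⊔ zpowers z with hU
  have hzT : zpowers z ≤ normalizer (T : Set G) := by
    rw [zpowers_le]
    refine (centralizer_le_normalizer _) (mem_centralizer_iff.2 fun t ht => ?_)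
    exact (mem_centralizer_singleton_iff.1 (hT ht).1)
  have hUeq : (U : Set G) = (T : Set G) * (zpowers z : Set G) :=
    coe_mul_of_right_le_normalizer_left T _ hzT
  have hUN : U ≤ NPz z P := sup_le hTN (zpowers_le.2 hzN)
  set U' := U.subgroupOf (NPz z P) with hU'
  have hkU : f.ker ≤ U' := hker ▸ comap_mono (sup_le (hPT.trans le_sup_left) le_sup_right)
  have hUc : Nat.card U' = 54 := by
    rw [Nat.card_congr (subgroupOfEquivOfLe hUN).toEquiv]
    have h1 := card_dvd_of_le (le_sup_left : T ≤ U)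
    have h2 := card_dvd_of_le (le_sup_right : zpowers z ≤ U)
    rw [hT27] at h1
    rw [Nat.card_zpowers, orderOf_z hJ] at h2
    have h54 : 54 ∣ Nat.card U := Nat.Coprime.mul_dvd_of_dvd_of_dvd (by norm_num : Nat.Coprime 27 2) h1 h2
    refine le_antisymm ?_ (Nat.le_of_dvd Nat.card_pos h54)
    calc Nat.card U = (U : Set G).ncard := (Nat.card_coe_set_eq _)
      _ ≤ Nat.card T * Nat.card (zpowers z) := by
        rw [hUeq, ← Nat.card_coe_set_eq]
        exact Set.natCard_mul_le
      _ = 54 := by rw [hT27, Nat.card_zpowers, orderOf_z hJ]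
  set Q := U'.map f with hQ
  have hQU : Q.comap f = U' := by rw [hQ, comap_map_eq, sup_eq_left.2 hkU]
  have hkc : Nat.card f.ker = 6 := by
    rw [hker, Nat.card_congr (subgroupOfEquivOfLe ((six_le hJ).trans hCN)).toEquiv, card_six hJ]
  have hN : Nat.card ↥(NPz z P) = 6 * 887040 := by
    have := f.ker.card_mul_index
    rw [index_ker, MonoidHom.range_eq_top.2 hf, Nat.card_congr topEquiv.toEquiv, hkc,
      card_mulAut_m22] at this
    exact this.symm
  have hQc : Nat.card Q = 9 := by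
    have h := U'.card_mul_index
    rw [hUc, ← hQU, index_comap_of_surjective _ hf, hN] at h
    have h' := Q.card_mul_index
    rw [card_mulAut_m22] at h'
    have hi : Q.index = 98560 := by omega
    rw [hi] at h'
    omega
  have hK : (normalizer (Q : Set (MulAut ↥Spor.M22))).comap f =
      (normalizer (T : Set G)).subgroupOf (NPz z P) := by
    rw [comap_normalizer_eq_of_surjective _ hf, hQU]
    ext ⟨n, hn⟩
    rw [mem_subgroupOf, mem_normalizer_iff]
    constructor
    · intro h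
      have key : ∀ t ∈ T, n * t * n⁻¹ ∈ T := by
        intro t ht
        have := (h ⟨t, hTN ht⟩).1 (mem_sup_left ht : t ∈ U)
        have hm : n * t * n⁻¹ ∈ (U : Set G) := this
        have h3 : (n * t * n⁻¹) ^ 3 = 1 := by rw [conj_pow, T_pow_three hJ hT hT27 ht]; group
        rw [hUeq] at hm
        obtain ⟨s, hs, c, hc, e⟩ := hm
        have e' : s * c = n * t * n⁻¹ := e
        have hsc : Commute s c := by
          have hh : zpowers z ≤ P ⊔ zpowers z := le_sup_right
          exact (six_central hJ (hh hc) (hT hs)).symm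
        rw [← e', hsc.mul_pow, T_pow_three hJ hT hT27 hs, one_mul] at h3
        rcases z_cases hJ hc with rfl | rfl
        · rw [← e', mul_one]; exact hs
        · exfalso
          have := orderOf_dvd_of_pow_eq_one h3
          rw [orderOf_z hJ] at this
          norm_num at this
      have hle : T.map (MulAut.conj n).toMonoidHom ≤ T := by
        rintro _ ⟨t, ht, rfl⟩
        exact key t ht
      have heq := eq_of_le_of_card_ge hle (le_of_eq (card_map_of_injective (MulAut.conj _).injective).symm)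
      refine mem_normalizer_iff.2 fun x => ⟨key x, fun hx => ?_⟩
      rw [← heq] at hx
      obtain ⟨y, hy, e⟩ := hx
      rwa [← (MulAut.conj n).injective (e : MulAut.conj n y = MulAut.conj n x)]
    · intro h x
      have hnz : n * z * n⁻¹ = z := by rw [mem_centralizer_singleton_iff.1 hn.1, mul_inv_cancel_right]
      have hmap : U.map (MulAut.conj n).toMonoidHom = U := by
        rw [hU, Subgroup.map_sup, MonoidHom.map_zpowers]
        congr 1
        · refine eq_of_le_of_card_ge ?_ (le_of_eq (card_map_of_injective (MulAut.conj _).injective).symm)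
          rintro _ ⟨t, ht, rfl⟩
          exact (mem_normalizer_iff.1 h t).1 ht
        · exact congrArg zpowers hnz
      show (x : G) ∈ U ↔ n * (x : G) * n⁻¹ ∈ U
      conv_rhs => rw [← hmap]
      exact (mem_map_iff_mem (MulAut.conj n).injective).symm
  have hidx : ((normalizer (T : Set G)).subgroupOf (NPz z P)).index = 887040 / 144 := by
    rw [← hK, index_comap_of_surjective _ hf]
    have h' := (normalizer (Q : Set (MulAut ↥Spor.M22))).card_mul_index
    rw [card_mulAut_m22, card_normalizer_nine Q hQc] at h'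
    omega
  have h := ((normalizer (T : Set G)).subgroupOf (NPz z P)).card_mul_index
  rw [hidx, hN, ← inf_subgroupOf_left, Nat.card_congr (subgroupOfEquivOfLe inf_le_left).toEquiv] at h
  omega

end twentyseven

end Cfsg.Agent.J4Local
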