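import Cfsg.Agent.Lib.J4Local.M22Outer

/-!
# The centralizer of an inner element of order three in `Aut M22`

No outer involution centralizes a Sylow 3-subgroup of M22. Hence a 2-subgroup of the centralizer of an
inner element `x` of order three has order at most 8 and is nonabelian if it has order 8; odd-order
elements of that centralizer are inner of exponent three.
-/

set_option autoImplicit false
set_option linter.style.haveILetI false
set_option linter.unusedSectionVars false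
set_option maxRecDepth 20000

namespace Cfsg.Agent.J4Local

open Cfsg Cfsg.Agent.Golay.Basic Cfsg.Agent.Golay.Design Cfsg.Agent.Golay.Perm Cfsg.Agent.Golay.M24
  Cfsg.Agent.Golay.OctadStab Cfsg.Agent.Golay.AutM22
open scoped Pointwise

local notation "pG" => Equiv.Perm GolayPt

/-- The fixed points of a 3-group among an invariant set are congruent to the set modulo three. -/
theorem fixed_mod_three (X : Subgroup pG) (hX : IsPGroup 3 X) (S : Finset GolayPt)
    (hS : ∀ k ∈ X, ∀ q ∈ S, k q ∈ S) (F : Finset GolayPt)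
    (hF : ∀ q, q ∈ F ↔ q ∈ S ∧ ∀ k ∈ X, k q = q) : F.card % 3 = S.card % 3 := by
  classical
  haveI : Fact (Nat.Prime 3) := ⟨Nat.prime_three⟩
  letI : MulAction X ↥S :=
    { smul := fun k q => ⟨(k : pG) q, hS k k.2 q q.2⟩
      one_smul := fun q => Subtype.ext rfl
      mul_smul := fun k l q => Subtype.ext rfl }
  have h := hX.card_modEq_card_fixedPoints ↥S
  rw [Nat.card_eq_fintype_card, Fintype.card_coe] at h
  have e : Nat.card (MulAction.fixedPoints X ↥S) = F.card := by
    rw [← Fintype.card_coe, ← Nat.card_eq_fintype_card]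
    exact Nat.card_congr
      { toFun := fun q => ⟨q.1.1, (hF _).2 ⟨q.1.2, fun k hk => congrArg Subtype.val (q.2 ⟨k, hk⟩)⟩⟩
        invFun := fun q => ⟨⟨q.1, ((hF _).1 q.2).1⟩, fun k => Subtype.ext (((hF _).1 q.2).2 k k.2)⟩
        left_inv := fun q => rfl
        right_inv := fun q => rfl }
  rw [e] at h
  exact h.symm

/-- A subgroup of order nine of M24 fixes at most five points. -/
theorem not_six_fixed (X : Subgroup pG) (hX : X ≤ Cfsg.M24) (h9 : Nat.card X = 9)
    {U : Finset GolayPt} (hU : 6 ≤ U.card) (hfix : ∀ k ∈ X, ∀ q ∈ U, k q = q) : False := by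
  classical
  haveI : Fact (Nat.Prime 3) := ⟨Nat.prime_three⟩
  have hX3 : IsPGroup 3 X := IsPGroup.of_card (n := 2) (by rw [h9]; norm_num)
  obtain ⟨s, hsU, hs⟩ := Finset.exists_subset_card_eq (show 5 ≤ U.card by omega)
  obtain ⟨o, ho, hso⟩ := exists_octad_five s hs
  by_cases hUo : U ⊆ o
  · have hok : ∀ k ∈ X, ∀ q ∈ o, k q ∈ o := fun k hk q hq => by
      rw [← smul_eq_of_fix_five (hX hk) ho hs.ge hso (fun x hx => hfix k hk x (hsU hx))]
      exact (mem_smul_iff k o q).2 hq
    set F := o.filter fun q => ∀ k ∈ X, k q = q with hF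
    have hm := fixed_mod_three X hX3 o hok F fun q => by rw [hF, Finset.mem_filter]
    have hUF : U ⊆ F := fun q hq => Finset.mem_filter.2 ⟨hUo hq, fun k hk => hfix k hk q hq⟩
    have hc1 := Finset.card_le_card hUF
    have hc2 : F.card ≤ o.card := Finset.card_le_card (Finset.filter_subset _ _)
    rw [octad_card ho] at hm hc2
    have hFo : F = o := Finset.eq_of_subset_of_card_le (Finset.filter_subset _ _)
      (by rw [octad_card ho]; omega)
    have hle : X ≤ FK o := fun k hk => mem_FK.2 ⟨hX hk, fun q hq => by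
      rw [← hFo] at hq; exact (Finset.mem_filter.1 hq).2 k hk⟩
    have := Subgroup.card_dvd_of_le hle
    rw [h9, card_FK ho] at this
    norm_num at this
  · obtain ⟨w, hwU, hwo⟩ := Finset.not_subset.1 hUo
    have := card_fix_six X hX ho hs hso hwo fun k hk =>
      ⟨fun x hx => hfix k hk x (hsU hx), hfix k hk w hwU⟩
    omega

/-- No involution of M24 interchanging the two points centralizes a subgroup of order nine of M22. -/
theorem not_commute_nine {g : pG} (hg : g ∈ Cfsg.M24) (h2 : g * g = 1) (hab : g ea = eb)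
    (X : Subgroup pG) (hX : ∀ k ∈ X, k ∈ K22 ∧ k * g = g * k) (h9 : Nat.card X = 9) : False := by
  classical
  haveI : Fact (Nat.Prime 3) := ⟨Nat.prime_three⟩
  have hX3 : IsPGroup 3 X := IsPGroup.of_card (n := 2) (by rw [h9]; norm_num)
  have hne : (ea : GolayPt) ≠ eb := by decide
  have hXM : X ≤ Cfsg.M24 := fun k hk => (mem_K22.1 (hX k hk).1).1
  have hcg : ∀ k ∈ X, ∀ y, k (g y) = g (k y) := fun k hk y => by
    rw [← Equiv.Perm.mul_apply, (hX k hk).2, Equiv.Perm.mul_apply]
  have hgb := app_b h2 hab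
  set F := Finset.univ.filter fun q : GolayPt => ∀ k ∈ X, k q = q with hF
  have hmemF : ∀ q, q ∈ F ↔ ∀ k ∈ X, k q = q := fun q => by simp [hF]
  have haF : ea ∈ F := (hmemF _).2 fun k hk => (mem_K22.1 (hX k hk).1).2.1
  have hbF : eb ∈ F := (hmemF _).2 fun k hk => (mem_K22.1 (hX k hk).1).2.2
  refine not_six_fixed X hXM h9 (U := F) ?_ fun k hk q hq => (hmemF q).1 hq k hk
  have hord : orderOf (⟨g, hg⟩ : ↥Cfsg.M24) = 2 := by
    haveI : Fact (Nat.Prime 2) := ⟨Nat.prime_two⟩
    refine orderOf_eq_prime (by rw [pow_two]; exact Subtype.ext h2) fun e => ?_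
    have e' : g = 1 := congrArg Subtype.val e
    rw [e', Equiv.Perm.one_apply] at hab
    exact hne hab
  rcases Cfsg.Agent.Golay.M24Involution.involution_cases hord with ⟨O, hO, hfixO⟩ | ⟨c, hc⟩
  · replace hfixO : ∀ q, g q = q ↔ q ∈ O := hfixO
    have haO : ea ∉ O := fun h => hne (by rw [← hab]; exact ((hfixO ea).2 h).symm)
    have hbO : eb ∉ O := fun h => hne (by rw [← hgb]; exact (hfixO eb).2 h)
    have hkO : ∀ k ∈ X, ∀ q ∈ O, k q ∈ O := fun k hk q hq =>
      (hfixO _).1 (by rw [← hcg k hk, (hfixO q).2 hq])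
    have hkOc : ∀ k ∈ X, ∀ q ∈ Oᶜ, k q ∈ Oᶜ := fun k hk q hq => by
      rw [Finset.mem_compl] at hq ⊢
      intro h
      have := hkO k⁻¹ (inv_mem hk) _ h
      rw [Equiv.Perm.coe_inv, Equiv.symm_apply_apply] at this
      exact hq this
    have h1 := fixed_mod_three X hX3 O hkO (F.filter (· ∈ O)) fun q => by
      rw [Finset.mem_filter, hmemF, and_comm]
    have h2' := fixed_mod_three X hX3 Oᶜ hkOc (F.filter (· ∉ O)) fun q => by
      rw [Finset.mem_filter, hmemF, Finset.mem_compl, and_comm]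
    rw [octad_card hO] at h1
    rw [Finset.card_compl, octad_card hO,
      show Fintype.card GolayPt = 24 by decide] at h2'
    have h3 : 2 ≤ (F.filter (· ∉ O)).card := by
      rw [← Finset.card_pair hne]
      exact Finset.card_le_card (by simp [Finset.insert_subset_iff, haF, hbF, haO, hbO])
    have := Finset.card_filter_add_card_filter_not (s := F) (· ∈ O)
    omega
  · have hfree : ∀ q, g q ≠ q := by
      intro q h
      have e : g = (c : pG) * (Cfsg.Agent.Golay.M24Involution.freeInv : pG) * (c : pG)⁻¹ :=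
        congrArg Subtype.val hc
      rw [e, Equiv.Perm.mul_apply, Equiv.Perm.mul_apply] at h
      refine Cfsg.Agent.Golay.M24Involution.freeInv_ne ((c : pG)⁻¹ q) ?_
      exact (c : pG).injective (h.trans (Equiv.apply_symm_apply (c : pG) q).symm)
    have h1 := fixed_mod_three X hX3 Finset.univ (fun k _ q _ => Finset.mem_univ _) F fun q => by
      rw [hmemF]; simp
    rw [Finset.card_univ, show Fintype.card GolayPt = 24 by decide] at h1
    obtain ⟨x, hx, hxab⟩ : ∃ x ∈ F, x ∉ ({ea, eb} : Finset GolayPt) := by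
      by_contra h
      push Not at h
      have h2'' := Finset.card_le_card h
      have h3 : 2 ≤ F.card := by
        rw [← Finset.card_pair hne]; exact Finset.card_le_card (by simp [Finset.insert_subset_iff, haF, hbF])
      rw [Finset.card_pair hne] at h2''
      omega
    simp only [Finset.mem_insert, Finset.mem_singleton, not_or] at hxab
    have hgx : g x ∈ F := (hmemF _).2 fun k hk => by rw [hcg k hk, (hmemF x).1 hx k hk]
    have hga : g x ≠ ea := fun h => hxab.2 (g.injective (h.trans hgb.symm))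
    have hgb' : g x ≠ eb := fun h => hxab.1 (g.injective (h.trans hab.symm))
    have h4 : [ea, eb, x, g x].Nodup := by
      simp [hne, Ne.symm hxab.1, Ne.symm hxab.2, Ne.symm hga, Ne.symm hgb', Ne.symm (hfree x)]
    have h5 : 4 ≤ F.card := by
      refine le_of_eq_of_le ?_ (Finset.card_le_card (s := [ea, eb, x, g x].toFinset) ?_)
      · rw [List.toFinset_card_of_nodup h4]; rfl
      · simp [Finset.insert_subset_iff, haF, hbF, hx, hgx]
    omega

/-- No outer involutory automorphism fixes a subgroup of order nine of M22 pointwise. -/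
theorem not_fix_nine {φ : MulAut ↥Spor.M22} (h2 : φ * φ = 1) (hout : φ ∉ Cfsg.Inn ↥Spor.M22)
    (Q : Subgroup ↥Spor.M22) (hQ : Q ≤ fixedBy φ) (h9 : Nat.card Q = 9) : False := by
  obtain ⟨g, hg, hg2, hga, hcomm⟩ := exists_outer_perm h2 hout
  refine not_commute_nine hg hg2 hga (Q.map Spor.M22.subtype) ?_
    (by rw [Subgroup.card_map_of_injective Spor.M22.subtype_injective, h9])
  rintro _ ⟨k, hk, rfl⟩
  exact ⟨mem22 k, hcomm k (hQ hk)⟩

open Subgroup

theorem m22_card : Nat.card ↥Spor.M22 = 443520 := Cfsg.Agent.Golay.M22Involution.card_M22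

theorem mem_cent_conj {φ : MulAut ↥Spor.M22} {m : ↥Spor.M22} :
    φ ∈ centralizer ({MulAut.conj m} : Set (MulAut ↥Spor.M22)) ↔ φ m = m := by
  rw [mem_centralizer_singleton_iff, conj_commute]
  constructor
  · intro h
    exact conj_m22_inj (mul_right_cancel h)
  · intro h; rw [h]

theorem orderOf_of_conj {m : ↥Spor.M22} : orderOf (MulAut.conj m : MulAut ↥Spor.M22) = orderOf m :=
  orderOf_injective _ conj_m22_inj m

/-- A 2-subgroup of the centralizer of an inner element of order three has order at most 8; if of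
order 8 it is not abelian. -/
theorem aut_three_two {x : MulAut ↥Spor.M22} (hx : x ∈ Cfsg.Inn ↥Spor.M22) (hx3 : orderOf x = 3)
    (T : Subgroup (MulAut ↥Spor.M22)) (hT : IsPGroup 2 T)
    (hTC : T ≤ centralizer ({x} : Set (MulAut ↥Spor.M22))) :
    Nat.card T ≤ 8 ∧ (Nat.card T = 8 → ∃ a ∈ T, ∃ b ∈ T, a * b ≠ b * a) := by
  classical
  haveI := Cfsg.Agent.Golay.M22TwoBlock.isSimple
  haveI : Fact (Nat.Prime 2) := ⟨Nat.prime_two⟩
  haveI : Fact (Nat.Prime 3) := ⟨Nat.prime_three⟩
  obtain ⟨x, rfl⟩ := hx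
  rw [orderOf_of_conj] at hx3
  set c : ↥Spor.M22 →* MulAut ↥Spor.M22 := MulAut.conj with hcd
  have hcinj : Function.Injective c := conj_m22_inj
  set C := centralizer ({x} : Set ↥Spor.M22) with hC
  have hC36 : Nat.card C = 36 := M22Order.cen_three m22_card hx3
  set V := T.comap c with hV
  have hVC : V ≤ C := fun v hv => by
    have := mem_cent_conj.1 (hTC (mem_comap.1 hv))
    rw [hcd, MulAut.conj_apply, mul_inv_eq_iff_eq_mul] at this
    exact mem_centralizer_singleton_iff.2 this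
  have hVp : IsPGroup 2 V := hT.comap_of_injective c hcinj
  obtain ⟨j, hj⟩ := IsPGroup.iff_card.1 hVp
  have hV4 : Nat.card V ≤ 4 := by
    have hd : 2 ^ j ∣ 36 := by rw [← hj, ← hC36]; exact card_dvd_of_le hVC
    have : j ≤ 2 := by
      by_contra h
      have : 2 ^ 3 ∣ 36 := (Nat.pow_dvd_pow 2 (by omega)).trans hd
      norm_num at this
    rw [hj]
    exact (Nat.pow_le_pow_right (by norm_num) this).trans (by norm_num)
  haveI hn : (Cfsg.Inn ↥Spor.M22).Normal := normal_of_index_eq_two Cfsg.Agent.Golay.AutM22.index_inn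
  set K := (Cfsg.Inn ↥Spor.M22).subgroupOf T with hK
  have hKV : Nat.card K = Nat.card V := by
    rw [← card_map_of_injective hcinj (K := V), hV, map_comap_eq]
    show Nat.card K = Nat.card ↥(Cfsg.Inn ↥Spor.M22 ⊓ T)
    rw [hK, ← inf_subgroupOf_right, Nat.card_congr (subgroupOfEquivOfLe inf_le_right).toEquiv]
  have hidx : K.index ≤ 2 := Nat.le_of_dvd (by norm_num)
    (Cfsg.Agent.Golay.AutM22.index_inn ▸ relIndex_dvd_index_of_normal (Cfsg.Inn ↥Spor.M22) T)
  have hT' : Nat.card V * K.index = Nat.card T := by rw [← hKV]; exact K.card_mul_index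
  refine ⟨by rw [← hT']; exact (Nat.mul_le_mul hV4 hidx).trans (by norm_num), fun h8 => ?_⟩
  by_contra hab
  push Not at hab
  have hV4' : Nat.card V = 4 := by
    have := Nat.mul_le_mul_left (Nat.card V) hidx
    omega
  have hout : ∃ φ ∈ T, φ ∉ Cfsg.Inn ↥Spor.M22 := by
    by_contra h
    push Not at h
    have : K = ⊤ := eq_top_iff.2 fun t _ => mem_subgroupOf.2 (h _ t.2)
    rw [this, index_top, mul_one, hV4', h8] at hT'
    norm_num at hT'
  obtain ⟨φ, hφT, hφ⟩ := hout
  have hfixV : ∀ ψ ∈ T, ∀ v ∈ V, ψ v = v := fun ψ hψ v hv => by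
    have := hab ψ hψ (c v) hv
    rw [hcd, conj_commute] at this
    exact conj_m22_inj (mul_right_cancel this)
  -- a Sylow 3-subgroup containing `x`
  obtain ⟨Q, hQ⟩ := (IsPGroup.of_card (p := 3) (n := 1) (by rw [Nat.card_zpowers, hx3, pow_one]) :
    IsPGroup 3 (zpowers x)).exists_le_sylow
  have hxQ : x ∈ (Q : Subgroup ↥Spor.M22) := hQ (mem_zpowers x)
  have hQC : (Q : Subgroup ↥Spor.M22) ≤ C := fun a ha =>
    mem_centralizer_singleton_iff.2 (three_commute m22_card Q ha hxQ).eq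
  have hx1 : x ≠ 1 := fun e => by rw [e, orderOf_one] at hx3; norm_num at hx3
  have hQ9 := three_card m22_card Q
  have hdisj : Disjoint V (Q : Subgroup ↥Spor.M22) :=
    disjoint_of_coprime_natCard (by rw [hV4', hQ9]; norm_num)
  -- `C = V Q`
  have hdec : ∀ a ∈ C, ∃ u ∈ V, ∃ q ∈ (Q : Subgroup ↥Spor.M22), a = u * q := by
    intro a ha
    let f : ↥V × ↥(Q : Subgroup ↥Spor.M22) → C := fun w => ⟨w.1 * w.2, mul_mem (hVC w.1.2) (hQC w.2.2)⟩
    have hinj : Function.Injective f := fun w w' e => mul_injective_of_disjoint hdisj (congrArg Subtype.val e :)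
    have hsurj := ((Nat.bijective_iff_injective_and_card f).2
      ⟨hinj, by rw [Nat.card_prod, hV4', hQ9, hC36]⟩).2
    obtain ⟨w, hw⟩ := hsurj ⟨a, ha⟩
    exact ⟨_, w.1.2, _, w.2.2, (congrArg Subtype.val hw).symm⟩
  have hφx : φ x = x := mem_cent_conj.1 (hTC hφT)
  -- move `φ` to an element of `T` normalizing `Q`
  obtain ⟨ψ, hψT, hψ, hψQ⟩ : ∃ ψ ∈ T, ψ ∉ Cfsg.Inn ↥Spor.M22 ∧
      ∀ q ∈ (Q : Subgroup ↥Spor.M22), ψ q ∈ (Q : Subgroup ↥Spor.M22) := by
    set Q' := (Q : Subgroup ↥Spor.M22).map φ.toMonoidHom with hQ'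
    have hQ'C : Q' ≤ C := by
      rintro _ ⟨q, hq, rfl⟩
      refine mem_centralizer_singleton_iff.2 ?_
      show φ q * x = x * φ q
      conv_lhs => rw [← hφx, ← map_mul, (three_commute m22_card Q hq hxQ).eq, map_mul, hφx]
    have hfac : (Nat.card C).factorization 3 = 2 := by
      rw [hC36, Nat.factorization_def _ Nat.prime_three, show (36 : ℕ) = 3 ^ 2 * 4 by norm_num,
        padicValNat.mul (by norm_num) (by norm_num), padicValNat.prime_pow,
        padicValNat.eq_zero_of_not_dvd (by norm_num), add_zero]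
    let S₁ : Sylow 3 C := Sylow.ofCard ((Q : Subgroup ↥Spor.M22).subgroupOf C)
      (by rw [Nat.card_congr (subgroupOfEquivOfLe hQC).toEquiv, hQ9, hfac]; norm_num)
    let S₂ : Sylow 3 C := Sylow.ofCard (Q'.subgroupOf C)
      (by rw [Nat.card_congr (subgroupOfEquivOfLe hQ'C).toEquiv, hQ',
        card_map_of_injective φ.injective, hQ9, hfac]; norm_num)
    obtain ⟨a, ha⟩ := MulAction.exists_smul_eq C S₁ S₂
    obtain ⟨u, hu, q₀, hq₀, hauq⟩ := hdec (a : ↥Spor.M22) a.2
    refine ⟨c u⁻¹ * φ, mul_mem (inv_mem (x := c u) hu |> fun h => by rwa [map_inv]) hφT, fun h => hφ ?_, fun q hq => ?_⟩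
    · have : c u * (c u⁻¹ * φ) ∈ Cfsg.Inn ↥Spor.M22 := mul_mem ⟨u, rfl⟩ h
      rwa [← mul_assoc, ← map_mul, mul_inv_cancel, map_one, one_mul] at this
    · have hm : (⟨φ q, hQ'C ⟨q, hq, rfl⟩⟩ : C) ∈ ((a • S₁ : Sylow 3 C) : Subgroup C) := by
        rw [ha]; exact ⟨q, hq, rfl⟩
      obtain ⟨w, hw, e⟩ := hm
      have e' : (a : ↥Spor.M22) * (w : ↥Spor.M22) * (a : ↥Spor.M22)⁻¹ = φ q := congrArg Subtype.val e
      show (MulAut.conj u⁻¹ * φ) q ∈ _
      rw [MulAut.mul_apply, MulAut.conj_apply, ← e', hauq, inv_inv]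
      have : u⁻¹ * (u * q₀ * (w : ↥Spor.M22) * (u * q₀)⁻¹) * u = q₀ * (w : ↥Spor.M22) * q₀⁻¹ := by group
      rw [this]
      exact mul_mem (mul_mem hq₀ hw) (inv_mem hq₀)
  have hψx : ψ x = x := mem_cent_conj.1 (hTC hψT)
  have hstab : ∀ k : ↥Spor.M22, k ∈ C →
      (∀ q ∈ (Q : Subgroup ↥Spor.M22), k * q * k⁻¹ ∈ (Q : Subgroup ↥Spor.M22)) →
      k ∈ (Q : Subgroup ↥Spor.M22) := by
    intro k hk hn
    rw [← three_stabilizer m22_card Q hxQ hx1]
    refine ⟨?_, hk⟩
    have hle : (Q : Subgroup ↥Spor.M22).map (MulAut.conj k).toMonoidHom ≤ Q := by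
      rintro _ ⟨q, hq, rfl⟩; exact hn q hq
    have heq := eq_of_le_of_card_ge hle (le_of_eq (card_map_of_injective (MulAut.conj k).injective).symm)
    refine mem_normalizer_iff.2 fun q => ⟨hn q, fun h => ?_⟩
    rw [← heq] at h
    obtain ⟨y, hy, e⟩ := h
    rwa [← (MulAut.conj k).injective (e : MulAut.conj k y = MulAut.conj k q)]
  -- `ψ` is an involution
  have hψ2 : ψ * ψ = 1 := by
    obtain ⟨w, hw⟩ := mul_self_mem_of_index_two Cfsg.Agent.Golay.AutM22.index_inn ψ
    have hwV : w ∈ V := by rw [hV, mem_comap, hcd, hw]; exact mul_mem hψT hψT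
    have hwQ : w ∈ (Q : Subgroup ↥Spor.M22) := hstab w (hVC hwV) fun q hq => by
      rw [← MulAut.conj_apply, hw, MulAut.mul_apply]
      exact hψQ _ (hψQ q hq)
    rw [← hw, (Subgroup.disjoint_def.1 hdisj) hwV hwQ, map_one]
  obtain ⟨v, hv, hv1⟩ := V.bot_or_exists_ne_one.resolve_left fun e => by
    rw [e, Subgroup.card_bot] at hV4'; omega
  refine not_fix_nine hψ2 hψ (Q : Subgroup ↥Spor.M22) (fun s hs => ?_) hQ9
  rw [mem_fixedBy]
  -- `ψ s` and `s` act alike on the conjugates of `Q`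
  obtain ⟨u, hu, q, hq, hsv⟩ := hdec (s * v) (mul_mem (hQC hs) (hVC hv))
  set k := s⁻¹ * ψ s with hk
  have hkQ : k ∈ (Q : Subgroup ↥Spor.M22) := mul_mem (inv_mem hs) (hψQ s hs)
  have hψv : ψ s * v = u * ψ q := by
    rw [← hfixV ψ hψT v hv, ← map_mul, hsv, map_mul, hfixV ψ hψT u hu]
  have hkv : v⁻¹ * k * v ∈ (Q : Subgroup ↥Spor.M22) := by
    have e : v⁻¹ * k * v = q⁻¹ * ψ q := by
      calc v⁻¹ * k * v = (s * v)⁻¹ * (ψ s * v) := by rw [hk]; group
        _ = (u * q)⁻¹ * (u * ψ q) := by rw [hsv, hψv]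
        _ = _ := by group
    rw [e]
    exact mul_mem (inv_mem hq) (hψQ q hq)
  have hkx : k ∈ zpowers x := by
    by_contra hkx
    set M := zpowers x ⊔ zpowers k with hM
    have hMQ : M ≤ (Q : Subgroup ↥Spor.M22) := sup_le (zpowers_le.2 hxQ) (zpowers_le.2 hkQ)
    have hMeq : M = (Q : Subgroup ↥Spor.M22) := by
      refine eq_of_le_of_card_ge hMQ ?_
      rw [hQ9]
      obtain ⟨i, hi, hci⟩ := (Nat.dvd_prime_pow Nat.prime_three).1
        (show Nat.card M ∣ 3 ^ 2 by rw [show (3 : ℕ) ^ 2 = 9 from rfl, ← hQ9]; exact card_dvd_of_le hMQ)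
      by_contra hlt
      have h3 : zpowers x = M := eq_of_le_of_card_ge le_sup_left (by
        rw [Nat.card_zpowers, hx3, hci]
        interval_cases i <;> simp_all)
      exact hkx (h3 ▸ le_sup_right (a := zpowers x) (mem_zpowers k))
    have hconj : M ≤ (Q : Subgroup ↥Spor.M22).comap (MulAut.conj v⁻¹).toMonoidHom := by
      refine sup_le (zpowers_le.2 ?_) (zpowers_le.2 ?_)
      · show v⁻¹ * x * v⁻¹⁻¹ ∈ (Q : Subgroup ↥Spor.M22)
        rw [mem_centralizer_singleton_iff.1 (inv_mem (hVC hv)), mul_inv_cancel_right]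
        exact hxQ
      · show v⁻¹ * k * v⁻¹⁻¹ ∈ (Q : Subgroup ↥Spor.M22)
        rwa [inv_inv]
    rw [hMeq] at hconj
    have hvQ : v⁻¹ ∈ (Q : Subgroup ↥Spor.M22) := hstab _ (inv_mem (hVC hv)) fun a ha => hconj ha
    exact hv1 (inv_eq_one.1 ((Subgroup.disjoint_def.1 hdisj) (inv_mem hv) hvQ))
  obtain ⟨i, hi⟩ := mem_zpowers_iff.1 hkx
  have hψs : ψ s = s * x ^ i := by rw [hi, hk, mul_inv_cancel_left]
  have h2i : x ^ i * x ^ i = 1 := by
    have := DFunLike.congr_fun hψ2 s
    rw [MulAut.mul_apply, hψs, map_mul, map_zpow, hψx, hψs, MulAut.one_apply, mul_assoc,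
      mul_eq_left] at this
    exact this
  have h3i : (x ^ i) ^ 3 = 1 := by
    rw [← zpow_natCast, ← zpow_mul, mul_comm, zpow_mul, zpow_natCast, ← hx3, pow_orderOf_eq_one, one_zpow]
  have hi1 : x ^ i = 1 := by
    rw [pow_succ, pow_two, h2i, one_mul] at h3i
    exact h3i
  rw [hψs, hi1, mul_one]

/-- Odd-order elements of the centralizer of an inner element of order three are inner of exponent 3. -/
theorem aut_three_odd {x : MulAut ↥Spor.M22} (hx : x ∈ Cfsg.Inn ↥Spor.M22) (hx3 : orderOf x = 3)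
    {w : MulAut ↥Spor.M22} (hw : w ∈ centralizer ({x} : Set (MulAut ↥Spor.M22)))
    (hodd : Odd (orderOf w)) : w ∈ Cfsg.Inn ↥Spor.M22 ∧ w ^ 3 = 1 := by
  haveI := Cfsg.Agent.Golay.M22TwoBlock.isSimple
  haveI : Fact (Nat.Prime 3) := ⟨Nat.prime_three⟩
  obtain ⟨k, hk⟩ := hodd
  have hwin : w ∈ Cfsg.Inn ↥Spor.M22 := by
    have e : w = (w * w) ^ (k + 1) := by
      rw [← pow_two, ← pow_mul, show 2 * (k + 1) = orderOf w + 1 by omega, pow_succ, pow_orderOf_eq_one,
        one_mul]
    rw [e]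
    exact pow_mem (mul_self_mem_of_index_two Cfsg.Agent.Golay.AutM22.index_inn w) _
  refine ⟨hwin, ?_⟩
  obtain ⟨x, rfl⟩ := hx
  obtain ⟨w, rfl⟩ := hwin
  rw [orderOf_of_conj] at hx3 hk
  have hwC : w ∈ centralizer ({x} : Set ↥Spor.M22) := by
    have := mem_cent_conj.1 hw
    rw [MulAut.conj_apply, mul_inv_eq_iff_eq_mul] at this
    exact mem_centralizer_singleton_iff.2 this
  have hd : orderOf w ∣ 3 ^ 2 := by
    refine Nat.Coprime.dvd_of_dvd_mul_right (n := 4) ?_ ?_
    · rw [show (4 : ℕ) = 2 ^ 2 by norm_num]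
      exact Nat.Coprime.pow_right 2 (Odd.coprime_two_right ⟨k, hk⟩)
    · rw [show 3 ^ 2 * 4 = 36 by norm_num, ← M22Order.cen_three m22_card hx3]
      exact Subgroup.orderOf_dvd_natCard _ hwC
  obtain ⟨j, -, hj⟩ := (Nat.dvd_prime_pow Nat.prime_three).1 hd
  obtain ⟨S, hS⟩ := (IsPGroup.of_card (p := 3) (n := j) (by rw [Nat.card_zpowers, hj]) :
    IsPGroup 3 (zpowers w)).exists_le_sylow
  rw [← map_pow, three_pow m22_card S (hS (mem_zpowers w)), map_one]

/-- An inner involution centralizing `x` inverts no further element modulo `⟨x⟩`. -/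
theorem aut_three_invert {x : MulAut ↥Spor.M22} (hx : x ∈ Cfsg.Inn ↥Spor.M22) (hx3 : orderOf x = 3)
    {w : MulAut ↥Spor.M22} (hw : w ∈ centralizer ({x} : Set (MulAut ↥Spor.M22)))
    (hodd : Odd (orderOf w)) {t : MulAut ↥Spor.M22} (ht : t ∈ Cfsg.Inn ↥Spor.M22)
    (htx : t ∈ centralizer ({x} : Set (MulAut ↥Spor.M22))) (ht2 : orderOf t = 2)
    (hinv : w * (t * w * t⁻¹) ∈ zpowers x) : w ∈ zpowers x := by
  haveI := Cfsg.Agent.Golay.M22TwoBlock.isSimple
  haveI : Fact (Nat.Prime 3) := ⟨Nat.prime_three⟩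
  obtain ⟨hwin, hw3⟩ := aut_three_odd hx hx3 hw hodd
  obtain ⟨x, rfl⟩ := hx
  obtain ⟨w, rfl⟩ := hwin
  obtain ⟨t, rfl⟩ := ht
  rw [orderOf_of_conj] at hx3 ht2
  rw [← map_pow, ← map_one MulAut.conj] at hw3
  replace hw3 : w ^ 3 = 1 := conj_m22_inj hw3
  have hwx : Commute w x := by
    have := mem_cent_conj.1 hw
    rw [MulAut.conj_apply, mul_inv_eq_iff_eq_mul] at this
    exact this
  have htxc : Commute t x := by
    have := mem_cent_conj.1 htx
    rw [MulAut.conj_apply, mul_inv_eq_iff_eq_mul] at this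
    exact this
  have hinv' : w * (t * w * t⁻¹) ∈ zpowers x := by
    rw [← MonoidHom.map_zpowers, ← map_inv, ← map_mul, ← map_mul, ← map_mul] at hinv
    exact (mem_map_iff_mem conj_m22_inj).1 hinv
  by_contra hwn0
  have hwn : w ∉ zpowers x := fun h => hwn0 (by
    rw [← MonoidHom.map_zpowers]
    exact mem_map_of_mem _ h)
  have hw' : w⁻¹ * (w * (t * w * t⁻¹)) = t * w * t⁻¹ := inv_mul_cancel_left w _
  set M := zpowers x ⊔ zpowers w with hM
  have hMC : M ≤ centralizer ({x} : Set ↥Spor.M22) := sup_le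
    (zpowers_le.2 (mem_centralizer_singleton_iff.2 rfl))
    (zpowers_le.2 (mem_centralizer_singleton_iff.2 hwx.eq))
  have hn : zpowers w ≤ normalizer ((zpowers x : Subgroup ↥Spor.M22) : Set ↥Spor.M22) := by
    rw [zpowers_le]
    refine (centralizer_le_normalizer _) (mem_centralizer_iff.2 fun y hy => ?_)
    obtain ⟨i, rfl⟩ := mem_zpowers_iff.1 hy
    exact (hwx.symm.zpow_left i).eq
  have hw3' : orderOf w = 3 := orderOf_eq_prime hw3 fun e => hwn (e ▸ one_mem _)
  have hMp : IsPGroup 3 M := IsPGroup.to_sup_of_normal_left'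
    (IsPGroup.of_card (n := 1) (by rw [Nat.card_zpowers, hx3, pow_one]))
    (IsPGroup.of_card (n := 1) (by rw [Nat.card_zpowers, hw3', pow_one])) hn
  obtain ⟨S, hS⟩ := hMp.exists_le_sylow
  have hMeq : M = (S : Subgroup ↥Spor.M22) := by
    refine eq_of_le_of_card_ge hS ?_
    rw [three_card m22_card S]
    obtain ⟨i, hi, hci⟩ := (Nat.dvd_prime_pow Nat.prime_three).1
      (show Nat.card M ∣ 3 ^ 2 by rw [show (3 : ℕ) ^ 2 = 9 from rfl, ← three_card m22_card S]; exact card_dvd_of_le hS)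
    by_contra hlt
    have h3 : zpowers x = M := eq_of_le_of_card_ge le_sup_left (by
      rw [Nat.card_zpowers, hx3, hci]
      interval_cases i <;> simp_all)
    exact hwn (h3 ▸ le_sup_right (a := zpowers x) (mem_zpowers w))
  have hxS : x ∈ (S : Subgroup ↥Spor.M22) := hS (mem_sup_left (mem_zpowers x))
  have hwS : w ∈ (S : Subgroup ↥Spor.M22) := hS (mem_sup_right (mem_zpowers w))
  have hle : M ≤ (S : Subgroup ↥Spor.M22).comap (MulAut.conj t).toMonoidHom := by
    refine sup_le (zpowers_le.2 ?_) (zpowers_le.2 ?_)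
    · show t * x * t⁻¹ ∈ (S : Subgroup ↥Spor.M22)
      rw [htxc.eq, mul_inv_cancel_right]; exact hxS
    · show t * w * t⁻¹ ∈ (S : Subgroup ↥Spor.M22)
      rw [← hw']
      exact mul_mem (inv_mem hwS) ((zpowers_le.2 hxS) hinv')
  rw [hMeq] at hle
  have htN : t ∈ normalizer ((S : Subgroup ↥Spor.M22) : Set ↥Spor.M22) := by
    have htt : t * t = 1 := by rw [← pow_two, ← ht2, pow_orderOf_eq_one]
    refine mem_normalizer_iff.2 fun y => ⟨fun hy => hle hy, fun hy => ?_⟩
    have := hle hy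
    have e : y = t * (t * y * t⁻¹) * t⁻¹ := by
      rw [inv_eq_of_mul_eq_one_right htt]
      calc y = (t * t) * y * (t * t) := by rw [htt, one_mul, mul_one]
        _ = _ := by group
    rw [e]; exact this
  have htS : t ∈ (S : Subgroup ↥Spor.M22) := by
    rw [← three_stabilizer m22_card S hxS (fun e => by rw [e, orderOf_one] at hx3; norm_num at hx3)]
    exact ⟨htN, mem_centralizer_singleton_iff.2 htxc.eq⟩
  have := three_orderOf m22_card S htS (fun e => by rw [e, orderOf_one] at ht2; norm_num at ht2)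
  rw [ht2] at this
  norm_num at this

end Cfsg.Agent.J4Local
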