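import Mathlib
import Cfsg.Prelude.Def_JankoFourType
import Cfsg.Agent.Lib.LargeExtra.Setting

/-!
Janko-four type: basic notation and facts.
-/

set_option autoImplicit false
set_option linter.style.haveILetI false
set_option linter.unusedSectionVars false

namespace Cfsg.Agent.J4Local

open Subgroup

variable {G : Type*} [Group G] [Finite G]

/-- The centraliser of `z`. -/
abbrev HH (z : G) : Subgroup G := centralizer ({z} : Set G)

/-- The largest normal 2-subgroup of the centraliser of `z`. -/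
abbrev EE (z : G) : Subgroup G := Cfsg.twoCoreOfCentralizer z

/-- The centraliser of `P` in the centraliser of `z`. -/
abbrev CC (z : G) (P : Subgroup G) : Subgroup G := HH z ⊓ centralizer (P : Set G)

/-- The inner part of the centraliser of `z`. -/
def H0 (z : G) (P : Subgroup G) : Subgroup G := CC z P ⊔ EE z

theorem mem_HH {z x : G} : x ∈ HH z ↔ x * z = z * x := mem_centralizer_singleton_iff

theorem EE_le_HH (z : G) : EE z ≤ HH z := map_subtype_le _

theorem CC_le_HH (z : G) (P : Subgroup G) : CC z P ≤ HH z := inf_le_left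

theorem H0_le_HH (z : G) (P : Subgroup G) : H0 z P ≤ HH z := sup_le (CC_le_HH z P) (EE_le_HH z)

theorem EE_le_H0 (z : G) (P : Subgroup G) : EE z ≤ H0 z P := le_sup_right

theorem CC_le_H0 (z : G) (P : Subgroup G) : CC z P ≤ H0 z P := le_sup_left

theorem mem_EE_conj (z g w : G) : w ∈ EE (g * z * g⁻¹) ↔ g⁻¹ * w * g ∈ EE z :=
  LargeExtra.pCore_centralizer_conj z g w

theorem mem_HH_conj (z g w : G) : w ∈ HH (g * z * g⁻¹) ↔ g⁻¹ * w * g ∈ HH z := by
  rw [mem_HH, mem_HH]
  constructor <;> intro e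
  · calc g⁻¹ * w * g * z = g⁻¹ * (w * (g * z * g⁻¹)) * g := by group
      _ = _ := by rw [e]; group
  · calc w * (g * z * g⁻¹) = g * (g⁻¹ * w * g * z) * g⁻¹ := by group
      _ = _ := by rw [e]; group

theorem conj_mem_EE {z h x : G} (hh : h ∈ HH z) (hx : x ∈ EE z) : h * x * h⁻¹ ∈ EE z := by
  have e : h * z * h⁻¹ = z := by rw [mem_HH.1 hh, mul_inv_cancel_right]
  have h1 := mem_EE_conj z h (h * x * h⁻¹)
  rw [e] at h1
  exact h1.2 (by simpa [mul_assoc] using hx)

theorem conj_mem_EE' {z h x : G} (hh : h ∈ HH z) (hx : x ∈ EE z) : h⁻¹ * x * h ∈ EE z := by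
  simpa using conj_mem_EE (inv_mem hh) hx

/-- The hypothesis block. -/
abbrev JType (z : G) (P : Subgroup G) : Prop := Cfsg.IsOfJankoFourTypeWith z P

variable {z : G} {P : Subgroup G}

theorem JType.two (h : JType z P) : orderOf z = 2 := h.1

theorem JType.ext (h : JType z P) : Cfsg.IsExtraspecial 2 ↥(EE z) := h.2.1

theorem JType.cardE (h : JType z P) : Nat.card ↥(EE z) = 2 ^ 13 := h.2.2.1

theorem JType.cardP (h : JType z P) : Nat.card ↥P = 3 := h.2.2.2.2.2.1

theorem JType.fix (h : JType z P) : EE z ⊓ centralizer (P : Set G) = zpowers z := h.2.2.2.2.2.2.1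

theorem JType.P_le_derived (h : JType z P) : P ≤ ⁅CC z P, CC z P⁆ := h.2.2.2.2.2.2.2.2

theorem JType.P_le_CC (h : JType z P) : P ≤ CC z P :=
  h.P_le_derived.trans ((Subgroup.commutator_le).2 fun a ha b hb => by
    exact mul_mem (mul_mem (mul_mem ha hb) (inv_mem ha)) (inv_mem hb))

theorem JType.P_le_HH (h : JType z P) : P ≤ HH z := h.P_le_CC.trans (CC_le_HH z P)

theorem JType.cent_le (h : JType z P) {x : G} (hx : x ∈ HH z) (hc : ∀ e ∈ EE z, e * x = x * e) :
    x ∈ EE z :=
  h.2.2.2.1 ⟨hx, mem_centralizer_iff.2 hc⟩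

theorem JType.ctr (h : JType z P) : LargeExtra.Ctr (EE z) z := by
  refine LargeExtra.setting_base (fun x => EE x) (fun x => rfl) h.two h.ext fun x hx => ?_
  have hzc : ∀ e ∈ EE z, e * x = x * e := fun e he => mem_centralizer_iff.1 hx e he
  refine h.cent_le (mem_HH.2 ?_) hzc
  have hzE : z ∈ EE z := by
    have h1 : z ∈ zpowers z := mem_zpowers z
    rw [← h.fix] at h1
    exact h1.1
  exact (hzc z hzE).symm

theorem JType.exists_gen (h : JType z P) : ∃ p ∈ P, p ≠ 1 ∧ P = zpowers p ∧ p ^ 3 = 1 := by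
  haveI : Fact (Nat.Prime 3) := ⟨Nat.prime_three⟩
  obtain ⟨⟨p, hp⟩, hord⟩ := exists_prime_orderOf_dvd_card' (G := ↥P) 3 (by rw [h.cardP])
  rw [Subgroup.orderOf_mk] at hord
  refine ⟨p, hp, fun e => by simp [e] at hord, ?_, hord ▸ pow_orderOf_eq_one p⟩
  refine (eq_of_le_of_card_ge (zpowers_le.2 hp) ?_).symm
  rw [Nat.card_zpowers, hord, h.cardP]

theorem JType.mem_zpowers (h : JType z P) {x : G} (hx : x ∈ zpowers z) : x = 1 ∨ x = z :=
  h.ctr.mem_zpowers_cases hx

/-- A non-trivial element of `P` has no non-trivial fixed point on `E` modulo `⟨z⟩`. -/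
theorem JType.fpf (h : JType z P) {p x : G} (hp : p ∈ P) (hp1 : p ≠ 1) (hx : x ∈ EE z)
    (hc : p * x * p⁻¹ * x⁻¹ ∈ zpowers z) : x ∈ zpowers z := by
  have hC := h.ctr
  have hpz : p * z = z * p := mem_HH.1 (h.P_le_HH hp)
  have hcard := h.cardP
  haveI : Fact (Nat.Prime 3) := ⟨Nat.prime_three⟩
  have hP : zpowers p = P := by
    haveI : Finite ↥P := inferInstance
    refine eq_of_le_of_card_ge (zpowers_le.2 hp) ?_
    have hd : orderOf p ∣ 3 := hcard ▸ P.orderOf_dvd_natCard hp
    rcases (Nat.dvd_prime Nat.prime_three).1 hd with e | e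
    · exact absurd (orderOf_eq_one_iff.1 e) hp1
    · rw [Nat.card_zpowers, e, hcard]
  have hp3 : p ^ 3 = 1 := by
    have h1 : ((⟨p, hp⟩ : ↥P) ^ Nat.card ↥P : ↥P) = 1 := pow_card_eq_one'
    rw [hcard] at h1
    exact congrArg Subtype.val h1
  have hcomm : p * x = x * p := by
    rcases hC.mem_zpowers_cases hc with e | e
    · calc p * x = (p * x * p⁻¹ * x⁻¹) * x * p := by group
        _ = _ := by rw [e, one_mul]
    · exfalso
      have e1 : ∀ w, p * (x * w) = z * x * (p * w) := fun w => by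
        calc p * (x * w) = (p * x * p⁻¹ * x⁻¹) * x * (p * w) := by group
          _ = _ := by rw [e]
      have e2 : ∀ w, p * (z * w) = z * (p * w) := fun w => by rw [← mul_assoc, hpz, mul_assoc]
      have h3 : p * (p * (p * x)) = z * z * z * x * (p * (p * p)) := by
        have a1 : p * x = z * x * p := by simpa using e1 1
        rw [a1]
        simp only [mul_assoc, e2, e1]
      have hp3' : p * (p * p) = 1 := by rw [← hp3, pow_three]
      have h4 : p * (p * (p * x)) = x := by
        rw [← mul_assoc, ← mul_assoc, mul_assoc p p p, hp3', one_mul]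
      rw [h4, hp3', mul_one, hC.zz, one_mul] at h3
      exact hC.ne_one (by simpa using h3.symm)
  rw [← h.fix]
  refine ⟨hx, mem_centralizer_iff.2 fun q hq => ?_⟩
  rw [SetLike.mem_coe, ← hP, mem_zpowers_iff] at hq
  obtain ⟨k, rfl⟩ := hq
  exact ((show Commute p x from hcomm).zpow_left k).eq

end Cfsg.Agent.J4Local
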