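import Mathlib
import Cfsg.Agent.Lib.J4Local.Base

/-!
The symplectic space `E / ⟨z⟩`.
-/

set_option autoImplicit false
set_option linter.style.haveILetI false
set_option linter.unusedSectionVars false

namespace Cfsg.Agent.J4Local

open Subgroup

variable {G : Type*} [Group G] [Finite G]

/-- The space `E / ⟨z⟩`. -/
abbrev VV (z : G) := Additive (Abelianization ↥(EE z))

open Classical in
/-- The projection (zero outside `E`). -/
noncomputable def vk (z x : G) : VV z :=
  if h : x ∈ EE z then Additive.ofMul (Abelianization.of (⟨x, h⟩ : ↥(EE z))) else 0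

variable {z : G} {P : Subgroup G}

theorem vk_eq {x : G} (hx : x ∈ EE z) :
    vk z x = Additive.ofMul (Abelianization.of (⟨x, hx⟩ : ↥(EE z))) := dif_pos hx

theorem vk_mul {x y : G} (hx : x ∈ EE z) (hy : y ∈ EE z) : vk z (x * y) = vk z x + vk z y := by
  rw [vk_eq hx, vk_eq hy, vk_eq (mul_mem hx hy)]
  exact congrArg Additive.ofMul (map_mul (Abelianization.of (G := ↥(EE z))) ⟨x, hx⟩ ⟨y, hy⟩)

theorem vk_one : vk z (1 : G) = 0 := by
  rw [vk_eq (one_mem _)]
  exact congrArg Additive.ofMul (map_one (Abelianization.of (G := ↥(EE z))))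

theorem vk_surj (v : VV z) : ∃ x ∈ EE z, vk z x = v := by
  obtain ⟨a, rfl⟩ := Additive.ofMul.surjective v
  obtain ⟨y, rfl⟩ := QuotientGroup.mk_surjective a
  exact ⟨y.1, y.2, vk_eq y.2⟩

theorem vk_eq_zero_iff (h : JType z P) {x : G} (hx : x ∈ EE z) : vk z x = 0 ↔ x ∈ zpowers z := by
  rw [vk_eq hx, ← h.ctr.ctr]
  show Abelianization.of (⟨x, hx⟩ : ↥(EE z)) = 1 ↔ _
  rw [← MonoidHom.mem_ker, Abelianization.ker_of, h.ext.1.2.2]
  constructor
  · exact fun hc => ⟨_, hc, rfl⟩
  · rintro ⟨y, hy, e⟩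
    have : y = ⟨x, hx⟩ := Subtype.ext e
    exact this ▸ hy

theorem vk_z (h : JType z P) : vk z z = 0 := (vk_eq_zero_iff h h.ctr.z_mem).2 (mem_zpowers z)

theorem vk_inv (h : JType z P) {x : G} (hx : x ∈ EE z) : vk z x⁻¹ = vk z x := by
  have h2 : x * x ∈ zpowers z := by
    rcases h.ctr.sq_cases hx with e | e <;> rw [e]
    exacts [one_mem _, mem_zpowers z]
  have h3 : vk z x + vk z x = 0 := by rw [← vk_mul hx hx]; exact (vk_eq_zero_iff h (mul_mem hx hx)).2 h2
  have h4 : vk z x⁻¹ + vk z x = 0 := by rw [← vk_mul (inv_mem hx) hx, inv_mul_cancel, vk_one]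
  exact add_right_cancel (h4.trans h3.symm)

theorem VV.two (h : JType z P) (v : VV z) : v + v = 0 := by
  obtain ⟨x, hx, rfl⟩ := vk_surj v
  calc vk z x + vk z x = vk z x⁻¹ + vk z x := by rw [vk_inv h hx]
    _ = 0 := by rw [← vk_mul (inv_mem hx) hx, inv_mul_cancel, vk_one]

theorem VV.eq_of_add (h : JType z P) {v w : VV z} (e : v + w = 0) : v = w :=
  add_right_cancel (e.trans (VV.two h w).symm)

theorem vk_eq_vk_iff (h : JType z P) {x y : G} (hx : x ∈ EE z) (hy : y ∈ EE z) :
    vk z x = vk z y ↔ x = y ∨ x = y * z := by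
  constructor
  · intro e
    have h1 : vk z (y⁻¹ * x) = 0 := by rw [vk_mul (inv_mem hy) hx, vk_inv h hy, e, VV.two h]
    rcases h.mem_zpowers ((vk_eq_zero_iff h (mul_mem (inv_mem hy) hx)).1 h1) with e1 | e1
    · exact Or.inl (inv_mul_eq_one.1 e1).symm
    · exact Or.inr (inv_mul_eq_iff_eq_mul.1 e1)
  · rintro (rfl | rfl)
    · rfl
    · rw [vk_mul hy h.ctr.z_mem, vk_z h, add_zero]

theorem card_VV (h : JType z P) : Nat.card (VV z) = 2 ^ 12 := by
  have h1 : Nat.card ↥(EE z) =
      Nat.card (↥(EE z) ⧸ commutator ↥(EE z)) * Nat.card ↥(commutator ↥(EE z)) :=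
    Subgroup.card_eq_card_quotient_mul_card_subgroup _
  rw [h.cardE, h.ext.1.2.2, h.ext.2] at h1
  have h2 : Nat.card (VV z) = Nat.card (↥(EE z) ⧸ Subgroup.center ↥(EE z)) := by
    rw [← h.ext.1.2.2]; rfl
  rw [h2]
  omega

/-- The action of `H` on `E / ⟨z⟩` (the identity outside `H`). -/
theorem exists_act (z h : G) : ∃ f : VV z →+ VV z, ∀ x ∈ EE z, h ∈ HH z → f (vk z x) = vk z (h * x * h⁻¹) := by
  classical
  by_cases hh : h ∈ HH z
  · refine ⟨MonoidHom.toAdditive (Abelianization.map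
      { toFun := fun x => ⟨h * x * h⁻¹, conj_mem_EE hh x.2⟩
        map_one' := by ext; simp
        map_mul' := fun x y => by ext; simp [mul_assoc] }), fun x hx _ => ?_⟩
    rw [vk_eq hx, vk_eq (conj_mem_EE hh hx)]
    rfl
  · exact ⟨0, fun _ _ h' => absurd h' hh⟩

/-- The action of `H` on `E / ⟨z⟩`. -/
noncomputable def act (z h : G) : VV z →+ VV z := (exists_act z h).choose

theorem act_vk {h x : G} (hh : h ∈ HH z) (hx : x ∈ EE z) : act z h (vk z x) = vk z (h * x * h⁻¹) :=
  (exists_act z h).choose_spec x hx hh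

theorem act_mul {g h : G} (hg : g ∈ HH z) (hh : h ∈ HH z) (v : VV z) :
    act z (g * h) v = act z g (act z h v) := by
  obtain ⟨x, hx, rfl⟩ := vk_surj v
  rw [act_vk hh hx, act_vk hg (conj_mem_EE hh hx), act_vk (mul_mem hg hh) hx]
  congr 1
  group

theorem act_one (v : VV z) : act z (1 : G) v = v := by
  obtain ⟨x, hx, rfl⟩ := vk_surj v
  rw [act_vk (one_mem _) hx, one_mul, inv_one, mul_one]

theorem act_inv_act {h : G} (hh : h ∈ HH z) (v : VV z) : act z h⁻¹ (act z h v) = v := by
  rw [← act_mul (inv_mem hh) hh, inv_mul_cancel, act_one]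

theorem act_act_inv {h : G} (hh : h ∈ HH z) (v : VV z) : act z h (act z h⁻¹ v) = v := by
  rw [← act_mul hh (inv_mem hh), mul_inv_cancel, act_one]

theorem act_injective {h : G} (hh : h ∈ HH z) : Function.Injective (act z h) :=
  Function.LeftInverse.injective (act_inv_act hh)

theorem act_EE (hJ : JType z P) {e : G} (he : e ∈ EE z) (v : VV z) : act z e v = v := by
  obtain ⟨x, hx, rfl⟩ := vk_surj v
  rw [act_vk (EE_le_HH z he) hx, vk_mul (mul_mem he hx) (inv_mem he), vk_mul he hx, vk_inv hJ he]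
  rw [add_comm (vk z e), add_assoc, VV.two hJ, add_zero]

theorem act_z (hJ : JType z P) (v : VV z) : act z z v = v := act_EE hJ hJ.ctr.z_mem v

open Classical in
/-- The commutator pairing on elements. -/
noncomputable def cm (x y : G) : ZMod 2 := if x * y = y * x then 0 else 1

theorem cm_eq_zero {x y : G} : cm x y = 0 ↔ x * y = y * x := by
  unfold cm; split_ifs with h <;> simp [h]

theorem cm_comm (x y : G) : cm x y = cm y x := by
  unfold cm
  by_cases h : x * y = y * x <;> simp [h, eq_comm]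

theorem conj_eq (h : JType z P) {x y : G} (hx : x ∈ EE z) (hy : y ∈ EE z) :
    x * y * x⁻¹ = y * z ^ (cm x y).val := by
  unfold cm
  split_ifs with hc
  · simp [hc]
  · rcases h.ctr.comm_cases hx hy with e | e
    · exact absurd (commutatorElement_eq_one_iff_mul_comm.1 e) hc
    · rw [show ((1 : ZMod 2).val) = 1 from rfl, pow_one, h.ctr.comm hy, ← e, commutatorElement_def]
      group

theorem cm_mul_right (h : JType z P) {x y w : G} (hx : x ∈ EE z) (hy : y ∈ EE z) (hw : w ∈ EE z) :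
    cm x (y * w) = cm x y + cm x w := by
  have e1 : x * (y * w) * x⁻¹ = (x * y * x⁻¹) * (x * w * x⁻¹) := by group
  rw [conj_eq h hx (mul_mem hy hw), conj_eq h hx hy, conj_eq h hx hw] at e1
  have hzw : ∀ n : ℕ, z ^ n * w = w * z ^ n := fun n =>
    ((show Commute z w from (h.ctr.comm hw).symm).pow_left n).eq
  have e2 : z ^ (cm x (y * w)).val = z ^ ((cm x y).val + (cm x w).val) := by
    have e3 : y * w * z ^ (cm x (y * w)).val = y * w * (z ^ (cm x y).val * z ^ (cm x w).val) := by
      rw [e1, mul_assoc, ← mul_assoc (z ^ _) w, hzw]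
      simp only [mul_assoc]
    rw [pow_add]
    exact mul_left_cancel e3
  have e4 := pow_eq_pow_iff_modEq.1 e2
  rw [h.two] at e4
  have e5 := (ZMod.natCast_eq_natCast_iff _ _ _).2 e4
  simpa using e5

theorem cm_z (h : JType z P) {x : G} (hx : x ∈ EE z) : cm x z = 0 :=
  cm_eq_zero.2 (h.ctr.comm hx)

theorem cm_congr (h : JType z P) {x y y' : G} (hx : x ∈ EE z) (hy : y ∈ EE z) (hy' : y' ∈ EE z)
    (e : vk z y = vk z y') : cm x y = cm x y' := by
  rcases (vk_eq_vk_iff h hy hy').1 e with rfl | rfl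
  · rfl
  · rw [cm_mul_right h hx hy' h.ctr.z_mem, cm_z h hx, add_zero]

/-- A representative. -/
noncomputable def rep (z : G) (v : VV z) : G := (vk_surj v).choose

theorem rep_mem (v : VV z) : rep z v ∈ EE z := (vk_surj v).choose_spec.1

theorem vk_rep (v : VV z) : vk z (rep z v) = v := (vk_surj v).choose_spec.2

/-- The commutator form. -/
noncomputable def BB (z : G) (v w : VV z) : ZMod 2 := cm (rep z v) (rep z w)

theorem BB_vk (h : JType z P) {x y : G} (hx : x ∈ EE z) (hy : y ∈ EE z) :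
    BB z (vk z x) (vk z y) = cm x y := by
  unfold BB
  rw [cm_congr h (rep_mem _) (rep_mem _) hy (vk_rep _), cm_comm,
    cm_congr h hy (rep_mem _) hx (vk_rep _), cm_comm]

theorem BB_comm (z : G) (v w : VV z) : BB z v w = BB z w v := cm_comm _ _

theorem BB_add_right (h : JType z P) (u v w : VV z) : BB z u (v + w) = BB z u v + BB z u w := by
  obtain ⟨x, hx, rfl⟩ := vk_surj u
  obtain ⟨y, hy, rfl⟩ := vk_surj v
  obtain ⟨t, ht, rfl⟩ := vk_surj w
  rw [← vk_mul hy ht, BB_vk h hx (mul_mem hy ht), BB_vk h hx hy, BB_vk h hx ht, cm_mul_right h hx hy ht]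

theorem BB_add_left (h : JType z P) (u v w : VV z) : BB z (u + v) w = BB z u w + BB z v w := by
  rw [BB_comm, BB_add_right h, BB_comm z w, BB_comm z w]

theorem BB_zero_right (h : JType z P) (u : VV z) : BB z u 0 = 0 := by
  have := BB_add_right h u 0 0
  rw [add_zero] at this
  simpa using this

theorem BB_zero_left (h : JType z P) (u : VV z) : BB z 0 u = 0 := by rw [BB_comm, BB_zero_right h]

theorem BB_self (h : JType z P) (u : VV z) : BB z u u = 0 := by
  obtain ⟨x, hx, rfl⟩ := vk_surj u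
  rw [BB_vk h hx hx, cm_eq_zero]

theorem BB_nondeg (h : JType z P) {u : VV z} (hu : ∀ w, BB z u w = 0) : u = 0 := by
  obtain ⟨x, hx, rfl⟩ := vk_surj u
  rw [vk_eq_zero_iff h hx, ← h.ctr.cent, mem_centralizer_iff]
  intro y hy
  have := hu (vk z y)
  rw [BB_vk h hx hy, cm_eq_zero] at this
  exact this.symm

theorem BB_act (h : JType z P) {g : G} (hg : g ∈ HH z) (u v : VV z) :
    BB z (act z g u) (act z g v) = BB z u v := by
  obtain ⟨x, hx, rfl⟩ := vk_surj u
  obtain ⟨y, hy, rfl⟩ := vk_surj v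
  rw [act_vk hg hx, act_vk hg hy, BB_vk h (conj_mem_EE hg hx) (conj_mem_EE hg hy), BB_vk h hx hy]
  classical
  unfold cm
  refine if_congr ⟨fun e => ?_, fun e => ?_⟩ rfl rfl
  · exact conj_injective (g := g) (by simpa [mul_assoc] using e)
  · simpa [mul_assoc] using congrArg (fun t => g * t * g⁻¹) e
where
  conj_injective {g a b : G} (e : g * a * g⁻¹ = g * b * g⁻¹) : a = b := mul_left_cancel (mul_right_cancel e)

open Classical in
/-- The square map. -/
noncomputable def QQ (z : G) (v : VV z) : ZMod 2 := if rep z v * rep z v = 1 then 0 else 1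

theorem sq_congr (h : JType z P) {x y : G} (hx : x ∈ EE z) (hy : y ∈ EE z) (e : vk z x = vk z y) :
    x * x = y * y := by
  rcases (vk_eq_vk_iff h hx hy).1 e with rfl | rfl
  · rfl
  · calc y * z * (y * z) = y * (z * y) * z := by group
      _ = y * y * (z * z) := by rw [← h.ctr.comm hy]; group
      _ = _ := by rw [h.ctr.zz, mul_one]

theorem QQ_vk_eq_zero (h : JType z P) {x : G} (hx : x ∈ EE z) : QQ z (vk z x) = 0 ↔ x * x = 1 := by
  unfold QQ
  rw [sq_congr h (rep_mem _) hx (vk_rep _)]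
  split_ifs with e <;> simp [e]

theorem sq_eq (h : JType z P) {x : G} (hx : x ∈ EE z) : x * x = z ^ (QQ z (vk z x)).val := by
  rcases h.ctr.sq_cases hx with e | e
  · rw [(QQ_vk_eq_zero h hx).2 e, e]; simp
  · have : QQ z (vk z x) = 1 := by
      unfold QQ
      rw [sq_congr h (rep_mem _) hx (vk_rep _), e, if_neg h.ctr.ne_one]
    rw [this, e]; exact (pow_one z).symm

theorem QQ_add (h : JType z P) (u v : VV z) : QQ z (u + v) = QQ z u + QQ z v + BB z u v := by
  obtain ⟨x, hx, rfl⟩ := vk_surj u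
  obtain ⟨y, hy, rfl⟩ := vk_surj v
  have e1 : x * y * (x * y) = z ^ ((QQ z (vk z x)).val + (QQ z (vk z y)).val + (cm y x).val) := by
    have hz : Commute (z ^ (cm y x).val) (y * y) :=
      Commute.pow_left (h.ctr.comm (mul_mem hy hy)).symm _
    calc x * y * (x * y) = x * (y * x * y⁻¹) * (y * y) := by group
      _ = x * x * (z ^ (cm y x).val * (y * y)) := by rw [conj_eq h hy hx]; group
      _ = x * x * (y * y) * z ^ (cm y x).val := by rw [hz.eq]; group
      _ = _ := by rw [sq_eq h hx, sq_eq h hy, ← pow_add, ← pow_add]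
  rw [sq_eq h (mul_mem hx hy), vk_mul hx hy] at e1
  have e4 := pow_eq_pow_iff_modEq.1 e1
  rw [h.two] at e4
  have e5 := (ZMod.natCast_eq_natCast_iff _ _ _).2 e4
  rw [BB_vk h hx hy, cm_comm]
  simpa using e5

theorem QQ_act (h : JType z P) {g : G} (hg : g ∈ HH z) (u : VV z) : QQ z (act z g u) = QQ z u := by
  obtain ⟨x, hx, rfl⟩ := vk_surj u
  rw [act_vk hg hx]
  have hiff : QQ z (vk z (g * x * g⁻¹)) = 0 ↔ QQ z (vk z x) = 0 := by
    rw [QQ_vk_eq_zero h (conj_mem_EE hg hx), QQ_vk_eq_zero h hx, show g * x * g⁻¹ * (g * x * g⁻¹) = g * (x * x) * g⁻¹ by group, conj_eq_one_iff]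
  have : ∀ a b : ZMod 2, (a = 0 ↔ b = 0) → a = b := by decide
  exact this _ _ hiff

theorem act_eq_id_mem (h : JType z P) {g : G} (hg : g ∈ HH z) (hid : ∀ v, act z g v = v) : g ∈ EE z := by
  have hC := h.ctr
  have hc : ∀ x ∈ EE z, g * x * g⁻¹ = x ∨ g * x * g⁻¹ = x * z := fun x hx => by
    have e := hid (vk z x)
    rw [act_vk hg hx] at e
    exact (vk_eq_vk_iff h (conj_mem_EE hg hx) hx).1 e
  classical
  let f : VV z →+ ZMod 2 := AddMonoidHom.mk'
    (fun v => if g * rep z v * g⁻¹ = rep z v then 0 else 1) (by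
    intro u v
    have hz' : g * z * g⁻¹ = z := by rw [mem_HH.1 hg, mul_inv_cancel_right]
    have hrep : rep z (u + v) = rep z u * rep z v ∨ rep z (u + v) = rep z u * rep z v * z :=
      (vk_eq_vk_iff h (rep_mem _) (mul_mem (rep_mem _) (rep_mem _))).1
        (by rw [vk_rep, vk_mul (rep_mem _) (rep_mem _), vk_rep, vk_rep])
    have hprod : (g * rep z (u + v) * g⁻¹ = rep z (u + v)) ↔
        (g * (rep z u * rep z v) * g⁻¹ = rep z u * rep z v) := by
      rcases hrep with e | e <;> rw [e]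
      rw [show g * (rep z u * rep z v * z) * g⁻¹ = g * (rep z u * rep z v) * g⁻¹ * (g * z * g⁻¹) by group,
        hz', mul_left_inj]
    simp only [hprod]
    rw [show g * (rep z u * rep z v) * g⁻¹ = (g * rep z u * g⁻¹) * (g * rep z v * g⁻¹) by group]
    have hzv : z * rep z v = rep z v * z := (hC.comm (rep_mem v)).symm
    rcases hc _ (rep_mem u) with a | a <;> rcases hc _ (rep_mem v) with b | b <;> rw [a, b] <;>
      simp [mul_assoc, hC.ne_one, hzv, hC.zz, ← mul_assoc z, eq_comm]
    all_goals decide)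
  obtain ⟨w, hw⟩ : ∃ w, ∀ v, BB z w v = f v := by
    let Φ : VV z → (VV z →+ ZMod 2) := fun w => AddMonoidHom.mk' (BB z w) (BB_add_right h w)
    have hinj : Function.Injective Φ := fun a b e => by
      refine VV.eq_of_add h (BB_nondeg h fun x => ?_)
      rw [BB_add_left h, show BB z a x = BB z b x from DFunLike.congr_fun e x, CharTwo.add_self_eq_zero]
    haveI : Finite (VV z →+ ZMod 2) := Finite.of_injective _ DFunLike.coe_injective
    haveI := Fintype.ofFinite (VV z)
    have hle : Nat.card (VV z →+ ZMod 2) ≤ Nat.card (VV z) :=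
      card_addHom_le (VV z) (VV.two h)
    obtain ⟨w, hw⟩ := (hinj.bijective_of_nat_card_le hle).surjective f
    exact ⟨w, fun v => DFunLike.congr_fun hw v⟩
  obtain ⟨e, he, rfl⟩ := vk_surj w
  have hmem : e⁻¹ * g ∈ EE z := by
    refine h.cent_le (mul_mem (inv_mem (EE_le_HH z he)) hg) fun x hx => ?_
    have e1 : g * x * g⁻¹ = e * x * e⁻¹ := by
      have e2 := hw (vk z x)
      rw [BB_vk h he hx] at e2
      have hf : f (vk z x) = if g * x * g⁻¹ = x then 0 else 1 := by
        show (if _ then _ else _) = _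
        refine if_congr ?_ rfl rfl
        rcases (vk_eq_vk_iff h (rep_mem _) hx).1 (vk_rep (vk z x)) with e3 | e3 <;> rw [e3]
        rw [show g * (x * z) * g⁻¹ = g * x * g⁻¹ * (g * z * g⁻¹) by group,
          mem_HH.1 hg, mul_inv_cancel_right, mul_left_inj]
      rw [hf] at e2
      rw [conj_eq h he hx, e2]
      split_ifs with e4
      · rw [e4]; simp
      · rw [(hc x hx).resolve_left e4]; exact congrArg (x * ·) (pow_one z).symm
    calc x * (e⁻¹ * g) = e⁻¹ * (e * x * e⁻¹) * g := by group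
      _ = _ := by rw [← e1]; group
  simpa using mul_mem he hmem
where
  card_addHom_le (V : Type _) [AddCommGroup V] [Finite V] (hV : ∀ v : V, v + v = 0) :
      Nat.card (V →+ ZMod 2) ≤ Nat.card V := by
    letI : Module (ZMod 2) V := AddCommGroup.zmodModule (fun v => by rw [two_nsmul]; exact hV v)
    rw [Nat.card_congr (show (V →+ ZMod 2) ≃ (V →ₗ[ZMod 2] ZMod 2) from
      ⟨fun f => f.toZModLinearMap 2, fun f => f.toAddMonoidHom, fun f => rfl, fun f => rfl⟩)]
    haveI : Module.Finite (ZMod 2) V := Module.Finite.of_finite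
    rw [Module.natCard_eq_pow_finrank (K := ZMod 2), Module.natCard_eq_pow_finrank (K := ZMod 2) (V := V),
      show Module.finrank (ZMod 2) (V →ₗ[ZMod 2] ZMod 2) = Module.finrank (ZMod 2) V from
        Subspace.dual_finrank_eq]

end Cfsg.Agent.J4Local
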