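import Mathlib
import Cfsg.Agent.Lib.J4Local.Space

/-!
Orthogonality in `E / ⟨z⟩` and the fixed-point-free element of order 3.
-/

set_option autoImplicit false
set_option linter.style.haveILetI false
set_option linter.unusedSectionVars false

namespace Cfsg.Agent.J4Local

open Subgroup

variable {G : Type*} [Group G] [Finite G] {z : G} {P : Subgroup G}

theorem card_ker_mul_range {A B : Type*} [AddCommGroup A] [AddCommGroup B] (f : A →+ B) :
    Nat.card ↥f.ker * Nat.card ↥f.range = Nat.card A := by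
  rw [AddSubgroup.card_eq_card_quotient_mul_card_addSubgroup f.ker, mul_comm]
  congr 1
  exact Nat.card_congr (QuotientAddGroup.quotientKerEquivRange f).toEquiv.symm

/-- The orthogonal of a subgroup. -/
def perp (h : JType z P) (W : AddSubgroup (VV z)) : AddSubgroup (VV z) where
  carrier := {v | ∀ w ∈ W, BB z v w = 0}
  zero_mem' w _ := BB_zero_left h w
  add_mem' ha hb w hw := by rw [BB_add_left h, ha w hw, hb w hw, add_zero]
  neg_mem' {a} ha w hw := by
    rw [neg_eq_of_add_eq_zero_left (VV.two h a)]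
    exact ha w hw

theorem mem_perp {h : JType z P} {W : AddSubgroup (VV z)} {v : VV z} :
    v ∈ perp h W ↔ ∀ w ∈ W, BB z v w = 0 := Iff.rfl

theorem card_mul_card_perp (h : JType z P) (W : AddSubgroup (VV z)) :
    Nat.card ↥W * Nat.card ↥(perp h W) = 2 ^ 12 := by
  rw [← card_VV h, AddSubgroup.card_eq_card_quotient_mul_card_addSubgroup (perp h W)]
  congr 1
  let Φ : VV z →+ (↥W →+ ZMod 2) := AddMonoidHom.mk'
    (fun v => AddMonoidHom.mk' (fun w => BB z v w) fun a b => BB_add_right h v a b)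
    fun a b => AddMonoidHom.ext fun w => BB_add_left h a b w
  have hker : Φ.ker = perp h W := by
    ext v
    rw [AddMonoidHom.mem_ker, mem_perp]
    exact ⟨fun e w hw => DFunLike.congr_fun e (⟨w, hw⟩ : ↥W), fun e => AddMonoidHom.ext fun w => e w w.2⟩
  have hW2 : ∀ w : ↥W, w + w = 0 := fun w => Subtype.ext (VV.two h w.1)
  haveI : Finite (↥W →+ ZMod 2) := Finite.of_injective _ DFunLike.coe_injective
  refine le_antisymm ?_ ?_
  · let Ψ : ↥W → (VV z ⧸ perp h W →+ ZMod 2) := fun w =>
      QuotientAddGroup.lift _ (AddMonoidHom.mk' (fun v => BB z v w) fun a b => BB_add_left h a b w)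
        (fun v hv => AddMonoidHom.mem_ker.2 (hv w.1 w.2))
    have hinj : Function.Injective Ψ := fun a b e => by
      refine Subtype.ext (VV.eq_of_add h (BB_nondeg h fun v => ?_))
      have e1 : BB z v a = BB z v b := DFunLike.congr_fun e (QuotientAddGroup.mk v : VV z ⧸ perp h W)
      rw [BB_comm, BB_add_right h, e1, CharTwo.add_self_eq_zero]
    haveI : Finite (VV z ⧸ perp h W →+ ZMod 2) := Finite.of_injective _ DFunLike.coe_injective
    refine (Nat.card_le_card_of_injective Ψ hinj).trans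
      (act_eq_id_mem.card_addHom_le _ fun q => ?_)
    induction q using QuotientAddGroup.induction_on with
    | _ v => rw [← QuotientAddGroup.mk_add, VV.two h]; rfl
  · rw [← hker]
    refine (Nat.card_le_card_of_injective _ (QuotientAddGroup.kerLift_injective Φ)).trans
      (act_eq_id_mem.card_addHom_le _ hW2)

theorem card_isotropic (h : JType z P) {W : AddSubgroup (VV z)}
    (hW : ∀ v ∈ W, ∀ w ∈ W, BB z v w = 0) : Nat.card ↥W ≤ 2 ^ 6 := by
  have h1 := card_mul_card_perp h W
  have h2 : Nat.card ↥W ≤ Nat.card ↥(perp h W) :=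
    AddSubgroup.card_le_of_le fun v hv => hW v hv
  nlinarith [Nat.mul_le_mul_left (Nat.card ↥W) h2]

theorem act_fpf (h : JType z P) {p : G} (hp : p ∈ P) (hp1 : p ≠ 1) {v : VV z}
    (hv : act z p v = v) : v = 0 := by
  obtain ⟨x, hx, rfl⟩ := vk_surj v
  rw [act_vk (h.P_le_HH hp) hx] at hv
  refine (vk_eq_zero_iff h hx).2 (h.fpf hp hp1 hx ?_)
  refine (vk_eq_zero_iff h (mul_mem (conj_mem_EE (h.P_le_HH hp) hx) (inv_mem hx))).1 ?_
  rw [vk_mul (conj_mem_EE (h.P_le_HH hp) hx) (inv_mem hx), hv, vk_inv h hx, VV.two h]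

theorem pow_three_eq_one (h : JType z P) {p : G} (hp : p ∈ P) : p ^ 3 = 1 := by
  have h1 : ((⟨p, hp⟩ : ↥P) ^ Nat.card ↥P : ↥P) = 1 := pow_card_eq_one'
  rw [h.cardP] at h1
  exact congrArg Subtype.val h1

/-- `p² + p + 1 = 0` on `E / ⟨z⟩`. -/
theorem act_act (h : JType z P) {p : G} (hp : p ∈ P) (hp1 : p ≠ 1) (v : VV z) :
    act z p (act z p v) = v + act z p v := by
  have hH := h.P_le_HH hp
  have h3 : act z p (act z p (act z p v)) = v := by
    rw [← act_mul hH hH, ← act_mul (mul_mem hH hH) hH, ← pow_two, ← pow_succ,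
      pow_three_eq_one h hp, act_one]
  have h0 : v + act z p v + act z p (act z p v) = 0 := act_fpf h hp hp1 (by
    rw [map_add, map_add, h3]; abel)
  exact VV.eq_of_add h (by rw [← h0]; abel)

theorem BB_act_self (h : JType z P) {p : G} (hp : p ∈ P) (hp1 : p ≠ 1) (v : VV z) :
    BB z v (act z p v) = QQ z v := by
  have hH := h.P_le_HH hp
  have e := QQ_add h v (act z p v)
  rw [← act_act h hp hp1, QQ_act h hH, QQ_act h hH] at e
  generalize QQ z v = a at e ⊢
  generalize BB z v (act z p v) = b at e ⊢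
  revert e; revert a b; decide

theorem BB_act_inv (h : JType z P) {g : G} (hg : g ∈ HH z) (u v : VV z) :
    BB z (act z g u) v = BB z u (act z g⁻¹ v) := by
  conv_lhs => rw [← act_act_inv hg v]
  rw [BB_act h hg]

/-- An invariant subgroup under an element of order three without fixed points. -/
theorem card_invariant (h : JType z P) {p : G} (hp : p ∈ P) (hp1 : p ≠ 1) {W : AddSubgroup (VV z)}
    (hW : ∀ v ∈ W, act z p v ∈ W) : ∃ k, k ≤ 6 ∧ Nat.card ↥W = 4 ^ k := by
  classical
  haveI : Fintype ↥W := Fintype.ofFinite _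
  let f : Function.End ↥W := fun v => ⟨act z p v, hW v v.2⟩
  have hf : f ^ 3 ^ 1 = 1 := by
    funext v
    refine Subtype.ext ?_
    have hH := h.P_le_HH hp
    show act z p (act z p (act z p (v : VV z))) = v
    rw [← act_mul hH hH, ← act_mul (mul_mem hH hH) hH, ← pow_two, ← pow_succ,
      pow_three_eq_one h hp, act_one]
  haveI : Fact (Nat.Prime 3) := ⟨Nat.prime_three⟩
  have hm := Equiv.Perm.card_fixedPoints_modEq hf
  have hfix : Fintype.card ↑(Function.fixedPoints f) = 1 := by
    rw [Fintype.card_eq_one_iff]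
    refine ⟨⟨0, Subtype.ext (map_zero _)⟩, fun v => Subtype.ext (Subtype.ext ?_)⟩
    exact act_fpf h hp hp1 (congrArg Subtype.val v.2)
  rw [hfix, ← Nat.card_eq_fintype_card] at hm
  have hdvd : Nat.card ↥W ∣ 2 ^ 12 := card_VV h ▸ AddSubgroup.card_addSubgroup_dvd_card W
  obtain ⟨k, hk, hk'⟩ := (Nat.dvd_prime_pow Nat.prime_two).1 hdvd
  refine ⟨k / 2, by omega, ?_⟩
  rw [hk'] at hm ⊢
  have he : 2 * (k / 2) = k := by
    interval_cases k <;> first | rfl | (exfalso; revert hm; decide)
  rw [show (4 : ℕ) = 2 ^ 2 by norm_num, ← pow_mul, he]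

end Cfsg.Agent.J4Local
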