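import Mathlib
import Cfsg.Agent.Lib.J4Local.Orth
import Cfsg.Agent.Lib.Coprime.Basic

/-!
The local facts drawn from the Mathieu group, and the inner and outer elements of `H`.
-/

set_option autoImplicit false
set_option linter.style.haveILetI false
set_option linter.unusedSectionVars false

namespace Cfsg.Agent.J4Local

open Subgroup

variable {G : Type*} [Group G] [Finite G]

/-- The centraliser of `v` in `H` modulo `E`. -/
def centMod (z v : G) : Subgroup G where
  carrier := {h | h ∈ HH z ∧ h * v * h⁻¹ * v⁻¹ ∈ EE z}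
  one_mem' := ⟨one_mem _, by simp⟩
  mul_mem' := fun {a b} ha hb => ⟨mul_mem ha.1 hb.1, by
    have e : a * b * v * (a * b)⁻¹ * v⁻¹ = a * (b * v * b⁻¹ * v⁻¹) * a⁻¹ * (a * v * a⁻¹ * v⁻¹) := by group
    rw [e]; exact mul_mem (conj_mem_EE ha.1 hb.2) ha.2⟩
  inv_mem' := fun {a} ha => ⟨inv_mem ha.1, by
    have e : a⁻¹ * v * a⁻¹⁻¹ * v⁻¹ = a⁻¹ * (a * v * a⁻¹ * v⁻¹)⁻¹ * a := by group
    rw [e]; exact conj_mem_EE' ha.1 (inv_mem ha.2)⟩

theorem mem_centMod {z v h : G} : h ∈ centMod z v ↔ h ∈ HH z ∧ h * v * h⁻¹ * v⁻¹ ∈ EE z := Iff.rfl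

/-- Consequences of the structure of `M₂₂` and its automorphism group for `H`. -/
structure Loc (z : G) (P : Subgroup G) : Prop where
  J : JType z P
  cardH : Nat.card ↥(HH z) = 2 ^ 13 * 2661120
  cardH0 : Nat.card ↥(H0 z P) = 2 ^ 13 * 1330560
  outer_inv : ∀ h ∈ HH z, h ∉ H0 z P → ∀ p ∈ P, h * p * h⁻¹ * p ∈ EE z
  inv_conj : ∀ u ∈ CC z P, ∀ w ∈ CC z P, u * u ∈ zpowers z → w * w ∈ zpowers z → u ∉ EE z → w ∉ EE z →
    ∃ c ∈ CC z P, c * u * c⁻¹ * w⁻¹ ∈ zpowers z
  exists_root : ∃ x ∈ CC z P, x * x ∉ EE z ∧ x * x * (x * x) ∈ zpowers z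
  gen_three : ∃ u₁ ∈ CC z P, ∃ u₂ ∈ CC z P, ∃ u₃ ∈ CC z P, u₁ * u₁ ∈ zpowers z ∧ u₂ * u₂ ∈ zpowers z ∧
    u₃ * u₃ ∈ zpowers z ∧ P ≤ closure ({u₁, u₂, u₃} : Set G)
  elem_le : ∀ A : Subgroup G, EE z ≤ A → A ≤ H0 z P → (∀ a ∈ A, a * a ∈ EE z) →
    Nat.card ↥A ≤ 2 ^ 13 * 16
  cent_inner : ∀ v ∈ H0 z P, v ∉ EE z → v * v ∈ EE z → Nat.card ↥(centMod z v) ≤ 2 ^ 13 * 2304
  cent_outer : ∀ v ∈ HH z, v ∉ H0 z P → v * v ∈ EE z → Nat.card ↥(centMod z v) ≤ 2 ^ 13 * 5194

variable {z : G} {P : Subgroup G}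

theorem JType.CC_inf_EE (h : JType z P) {x : G} (hx : x ∈ CC z P) (hxE : x ∈ EE z) : x ∈ zpowers z := by
  rw [← h.fix]; exact ⟨hxE, hx.2⟩

theorem exists_dec {v : G} (hv : v ∈ H0 z P) : ∃ c ∈ CC z P, ∃ e ∈ EE z, v = c * e := by
  have hn : CC z P ≤ normalizer (EE z : Set G) := fun c hc => by
    rw [mem_normalizer_iff]
    exact fun x => ⟨conj_mem_EE hc.1, fun hx => by simpa [mul_assoc] using conj_mem_EE' hc.1 hx⟩
  have hv' : v ∈ EE z ⊔ CC z P := by rwa [sup_comm]
  obtain ⟨e, he, c, hc, rfl⟩ := (Coprime.mem_sup_of_le_normalizer hn).1 hv'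
  exact ⟨c, hc, c⁻¹ * e * c, conj_mem_EE' hc.1 he, by group⟩

theorem act_mul_EE (h : JType z P) {c e : G} (hc : c ∈ HH z) (he : e ∈ EE z) (x : VV z) :
    act z (c * e) x = act z c x := by
  rw [act_mul hc (EE_le_HH z he), act_EE h he]

theorem commute_CC_P {c p : G} (hc : c ∈ CC z P) (hp : p ∈ P) : c * p = p * c :=
  (mem_centralizer_iff.1 hc.2 p hp).symm

theorem act_inner (h : JType z P) {v : G} (hv : v ∈ H0 z P) {p : G} (hp : p ∈ P) (x : VV z) :
    act z v (act z p x) = act z p (act z v x) := by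
  obtain ⟨c, hc, e, he, rfl⟩ := exists_dec hv
  rw [act_mul_EE h hc.1 he, act_mul_EE h hc.1 he, ← act_mul hc.1 (h.P_le_HH hp),
    ← act_mul (h.P_le_HH hp) hc.1, commute_CC_P hc hp]

theorem act_outer (L : Loc z P) {v : G} (hv : v ∈ HH z) (hv0 : v ∉ H0 z P) {p : G} (hp : p ∈ P)
    (x : VV z) : act z v (act z p x) = act z p (act z p (act z v x)) := by
  have hH := L.J.P_le_HH hp
  have e1 : v * p = (v * p * v⁻¹ * p) * (p * p * v) := by
    have h3 : p * (p * p) = 1 := by rw [← pow_three_eq_one L.J hp, pow_three]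
    calc v * p = v * p * v⁻¹ * (p * (p * p)) * v := by rw [h3]; group
      _ = _ := by group
  rw [← act_mul hv hH, e1, act_mul (mul_mem (mul_mem (mul_mem hv hH) (inv_mem hv)) hH)
    (mul_mem (mul_mem hH hH) hv), act_EE L.J (L.outer_inv v hv hv0 p hp), act_mul (mul_mem hH hH) hv,
    act_mul hH hH]

/-- `act v - 1`. -/
noncomputable def nil (z v : G) : VV z →+ VV z := act z v + AddMonoidHom.id _

theorem nil_apply (v : G) (x : VV z) : nil z v x = act z v x + x := rfl

theorem mem_ker_nil (h : JType z P) {v : G} {x : VV z} : x ∈ (nil z v).ker ↔ act z v x = x :=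
  ⟨fun e => VV.eq_of_add h e, fun e => by rw [AddMonoidHom.mem_ker, nil_apply, e, VV.two h]⟩

theorem nil_nil (h : JType z P) {v : G} (hv : v ∈ HH z) (x : VV z) :
    nil z v (nil z v x) = nil z (v * v) x := by
  rw [nil_apply, nil_apply, nil_apply, map_add, act_mul hv hv]
  calc act z v (act z v x) + act z v x + (act z v x + x)
      = act z v (act z v x) + (act z v x + act z v x) + x := by abel
    _ = _ := by rw [VV.two h, add_zero]

theorem range_le_ker (h : JType z P) {v : G} (hv : v ∈ HH z) (h2 : v * v ∈ EE z) :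
    (nil z v).range ≤ (nil z v).ker := by
  rintro _ ⟨x, rfl⟩
  rw [AddMonoidHom.mem_ker, nil_nil h hv, nil_apply, act_EE h h2, VV.two h]

theorem card_ker_outer (L : Loc z P) {v : G} (hv : v ∈ HH z) (hv0 : v ∉ H0 z P) (h2 : v * v ∈ EE z) :
    Nat.card ↥(nil z v).ker = 2 ^ 6 := by
  obtain ⟨p, hp, hp1, -, -⟩ := L.J.exists_gen
  have hH := L.J.P_le_HH hp
  set K := (nil z v).ker with hK
  have hdis : ∀ a ∈ K, ∀ b ∈ K, a = act z p b → b = 0 := by
    intro a ha b hb e
    have h1 := (mem_ker_nil L.J).1 ha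
    rw [e, act_outer L hv hv0 hp, (mem_ker_nil L.J).1 hb] at h1
    exact act_fpf L.J hp hp1 (act_injective hH h1)
  have hinj : Function.Injective (fun ab : ↥K × ↥K => (ab.1 : VV z) + act z p ab.2) := by
    rintro ⟨a, b⟩ ⟨c, d⟩ e
    have e1 : ((a + c : ↥K) : VV z) = act z p ((b + d : ↥K) : VV z) := by
      refine VV.eq_of_add L.J ?_
      push_cast
      rw [map_add]
      calc (a : VV z) + c + (act z p b + act z p d)
          = ((a : VV z) + act z p b) + (c + act z p d) := by abel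
        _ = 0 := by rw [show (a : VV z) + act z p b = c + act z p d from e, VV.two L.J]
    have hb : ((b + d : ↥K) : VV z) = 0 := hdis _ (a + c).2 _ (b + d).2 e1
    rw [hb, map_zero] at e1
    exact Prod.ext (Subtype.ext (VV.eq_of_add L.J e1)) (Subtype.ext (VV.eq_of_add L.J hb))
  have hle := Nat.card_le_card_of_injective _ hinj
  rw [Nat.card_prod, card_VV L.J] at hle
  have h1 := card_ker_mul_range (nil z v)
  rw [card_VV L.J] at h1
  have h3 : Nat.card ↥(nil z v).range ≤ Nat.card ↥K := AddSubgroup.card_le_of_le (range_le_ker L.J hv h2)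
  nlinarith [h1, h3, hle, Nat.card_pos (α := ↥K)]

theorem card_range_outer (L : Loc z P) {v : G} (hv : v ∈ HH z) (hv0 : v ∉ H0 z P) (h2 : v * v ∈ EE z) :
    Nat.card ↥(nil z v).range = 2 ^ 6 := by
  have h1 := card_ker_mul_range (nil z v)
  rw [card_VV L.J, card_ker_outer L hv hv0 h2] at h1
  omega

theorem nil_comm (h : JType z P) {v : G} (hv : v ∈ H0 z P) {p : G} (hp : p ∈ P) (x : VV z) :
    nil z v (act z p x) = act z p (nil z v x) := by
  rw [nil_apply, nil_apply, map_add, act_inner h hv hp]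

theorem card_ker_inner_aux (L : Loc z P) {c : G} (hc : c ∈ CC z P) (hcE : c ∉ EE z)
    (h2 : c * c ∈ zpowers z) : Nat.card ↥(nil z c).ker = 2 ^ 8 := by
  obtain ⟨p, hp, hp1, -, -⟩ := L.J.exists_gen
  have hH := L.J.P_le_HH hp
  have hzE : ∀ {y : G}, y ∈ zpowers z → y ∈ EE z := fun hy => by
    rw [← L.J.fix] at hy; exact hy.1
  have hinv : ∀ {w : G}, w ∈ CC z P →
      (∀ x ∈ (nil z w).ker, act z p x ∈ (nil z w).ker) ∧ (∀ x ∈ (nil z w).range, act z p x ∈ (nil z w).range) := by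
    intro w hw
    constructor
    · intro x hx
      rw [AddMonoidHom.mem_ker, nil_comm L.J (CC_le_H0 z P hw) hp, AddMonoidHom.mem_ker.1 hx, map_zero]
    · rintro _ ⟨x, rfl⟩
      exact ⟨act z p x, nil_comm L.J (CC_le_H0 z P hw) hp x⟩
  obtain ⟨i, hi, hki⟩ := card_invariant L.J hp hp1 (hinv hc).1
  obtain ⟨j, hj, hkj⟩ := card_invariant L.J hp hp1 (hinv hc).2
  have htot := card_ker_mul_range (nil z c)
  rw [card_VV L.J, hki, hkj, ← pow_add, show (2 : ℕ) ^ 12 = 4 ^ 6 by norm_num] at htot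
  have hij : i + j = 6 := Nat.pow_right_injective (by norm_num) htot
  have hle : j ≤ i := by
    have h3 := AddSubgroup.card_le_of_le (range_le_ker L.J hc.1 (hzE h2))
    rw [hki, hkj] at h3
    exact (Nat.pow_le_pow_iff_right (by norm_num)).1 h3
  -- all inner involutions modulo `E` have kernels of the same size
  have hconj : ∀ {w : G}, w ∈ CC z P → w ∉ EE z → w * w ∈ zpowers z →
      Nat.card ↥(nil z w).ker = 4 ^ i := by
    intro w hw hwE hw2
    obtain ⟨d, hd, hdc⟩ := L.inv_conj w hw c hc hw2 h2 hwE hcE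
    rw [← hki]
    have hact : ∀ x, act z c (act z d x) = act z d (act z w x) := fun x => by
      rw [← act_mul hd.1 hw.1, ← act_mul hc.1 hd.1,
        show d * w = (d * w * d⁻¹ * c⁻¹) * (c * d) by group,
        act_mul (EE_le_HH z (hzE hdc)) (mul_mem hc.1 hd.1), act_EE L.J (hzE hdc)]
    refine Nat.card_congr ⟨fun x => ⟨act z d x, ?_⟩, fun x => ⟨act z d⁻¹ x, ?_⟩, fun x => ?_, fun x => ?_⟩
    · rw [mem_ker_nil L.J, hact, (mem_ker_nil L.J).1 x.2]
    · rw [mem_ker_nil L.J]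
      refine act_injective hd.1 ?_
      rw [← hact, act_act_inv hd.1, (mem_ker_nil L.J).1 x.2]
    · exact Subtype.ext (act_inv_act hd.1 _)
    · exact Subtype.ext (act_act_inv hd.1 _)
  have hj0 : j ≠ 0 := by
    rintro rfl
    refine hcE (act_eq_id_mem L.J hc.1 fun x => VV.eq_of_add L.J ?_)
    rw [pow_zero] at hkj
    have h1 : nil z c x ∈ (nil z c).range := ⟨x, rfl⟩
    rw [AddSubgroup.eq_bot_of_card_eq _ hkj, AddSubgroup.mem_bot] at h1
    exact h1
  have hj3 : j ≠ 3 := by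
    intro hj'
    obtain ⟨x, hx, hxE, hx4⟩ := L.exists_root
    have hxx : x * x ∈ CC z P := mul_mem hx hx
    have hk := hconj hxx hxE hx4
    rw [show i = 3 by omega] at hk
    have htot' := card_ker_mul_range (nil z (x * x))
    rw [card_VV L.J, hk] at htot'
    have heq : (nil z (x * x)).range = (nil z (x * x)).ker :=
      AddSubgroup.eq_of_le_of_card_ge (range_le_ker L.J hxx.1 (hzE hx4)) (by rw [hk]; omega)
    let f : ↥(nil z (x * x)).ker →+ ↥(nil z x).ker :=
      ((nil z x).comp (AddSubgroup.subtype _)).codRestrict _ fun y =>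
        AddMonoidHom.mem_ker.2 (by rw [AddMonoidHom.comp_apply, nil_nil L.J hx.1]; exact y.2)
    have hsub : (nil z x).ker ≤ (nil z (x * x)).ker := fun y hy => by
      rw [AddMonoidHom.mem_ker, ← nil_nil L.J hx.1, AddMonoidHom.mem_ker.1 hy, map_zero]
    have hsurj : f.range = ⊤ := by
      rw [eq_top_iff]
      rintro ⟨y, hy⟩ -
      have h4 : y ∈ (nil z (x * x)).range := heq ▸ hsub hy
      obtain ⟨w, hw⟩ := h4
      refine ⟨⟨nil z x w, ?_⟩, Subtype.ext ?_⟩
      · rw [AddMonoidHom.mem_ker, ← nil_nil L.J hx.1, nil_nil L.J hx.1 w, hw, AddMonoidHom.mem_ker.1 hy]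
      · show nil z x (nil z x w) = y
        rw [nil_nil L.J hx.1, hw]
    have hkerf : Nat.card ↥f.ker = Nat.card ↥(nil z x).ker := by
      refine Nat.card_congr ⟨fun y => ⟨y.1.1, ?_⟩, fun y => ⟨⟨y.1, hsub y.2⟩, ?_⟩, fun y => rfl, fun y => rfl⟩
      · exact congrArg Subtype.val (AddMonoidHom.mem_ker.1 y.2)
      · exact AddMonoidHom.mem_ker.2 (Subtype.ext (AddMonoidHom.mem_ker.1 y.2))
    have h5 := card_ker_mul_range f
    rw [hkerf, hsurj, AddSubgroup.card_top, hk] at h5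
    obtain ⟨k, hk6, hkk⟩ := card_invariant L.J hp hp1 (hinv hx).1
    rw [hkk, ← pow_add] at h5
    have h6 : k + k = 3 := Nat.pow_right_injective (by norm_num) h5
    omega
  have hj1 : j ≠ 1 := by
    intro hj'
    obtain ⟨u₁, hu₁, u₂, hu₂, u₃, hu₃, s₁, s₂, s₃, hgen⟩ := L.gen_three
    have hr : ∀ {u : G}, u ∈ CC z P → u * u ∈ zpowers z → Nat.card ↥(nil z u).range ≤ 4 := by
      intro u hu hu2
      by_cases huE : u ∈ EE z
      · have h0 : (nil z u).range = ⊥ := by
          rw [eq_bot_iff]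
          rintro _ ⟨x, rfl⟩
          rw [AddSubgroup.mem_bot, nil_apply, act_EE L.J huE, VV.two L.J]
        rw [h0, AddSubgroup.card_bot]; norm_num
      · have h1 := card_ker_mul_range (nil z u)
        rw [hconj hu huE hu2, card_VV L.J, show i = 5 by omega] at h1
        omega
    let S : ↥(nil z u₁).range × ↥(nil z u₂).range × ↥(nil z u₃).range →+ VV z :=
      AddMonoidHom.mk' (fun w => (w.1 : VV z) + w.2.1 + w.2.2) fun a b => by
        simp only [Prod.fst_add, Prod.snd_add, AddSubgroup.coe_add]; abel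
    have hW : Nat.card ↥S.range ≤ 64 := by
      refine (Nat.card_le_card_of_surjective S.rangeRestrict S.rangeRestrict_surjective).trans ?_
      rw [Nat.card_prod, Nat.card_prod]
      exact le_trans (Nat.mul_le_mul (hr hu₁ s₁) (Nat.mul_le_mul (hr hu₂ s₂) (hr hu₃ s₃))) (by norm_num)
    let T : Subgroup G :=
      { carrier := {g | g ∈ HH z ∧ ∀ x, nil z g x ∈ S.range}
        one_mem' := ⟨one_mem _, fun x => by rw [nil_apply, act_one, VV.two L.J]; exact zero_mem _⟩
        mul_mem' := fun {a b} ha hb => ⟨mul_mem ha.1 hb.1, fun x => by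
          have e : nil z (a * b) x = nil z a (nil z b x) + nil z a x + nil z b x := by
            rw [nil_apply, nil_apply, nil_apply, nil_apply, map_add, act_mul ha.1 hb.1]
            calc act z a (act z b x) + x
                = act z a (act z b x) + (act z a x + act z a x) + (act z b x + act z b x) + x +
                  (x + x) := by rw [VV.two L.J, VV.two L.J, VV.two L.J]; abel
              _ = _ := by abel
          rw [e]; exact add_mem (add_mem (ha.2 _) (ha.2 x)) (hb.2 x)⟩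
        inv_mem' := fun {a} ha => ⟨inv_mem ha.1, fun x => by
          have e : nil z a⁻¹ x = nil z a (act z a⁻¹ x) := by
            rw [nil_apply, nil_apply, act_act_inv ha.1, add_comm]
          rw [e]; exact ha.2 _⟩ }
    have hsub : closure ({u₁, u₂, u₃} : Set G) ≤ T := by
      rw [closure_le]
      intro g hg
      rcases hg with rfl | rfl | rfl
      · exact ⟨hu₁.1, fun x => ⟨(⟨_, x, rfl⟩, 0, 0), by simp [S]⟩⟩
      · exact ⟨hu₂.1, fun x => ⟨(0, ⟨_, x, rfl⟩, 0), by simp [S]⟩⟩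
      · exact ⟨hu₃.1, fun x => ⟨(0, 0, ⟨_, x, rfl⟩), by simp [S]⟩⟩
    have hinjp : Function.Injective (nil z p) := (injective_iff_map_eq_zero _).2 fun x hx =>
      act_fpf L.J hp hp1 (VV.eq_of_add L.J hx)
    have htop : S.range = ⊤ := eq_top_iff.2 fun y _ => by
      obtain ⟨x, rfl⟩ := (Finite.injective_iff_surjective.1 hinjp) y
      exact (hsub (hgen hp)).2 x
    rw [htop, AddSubgroup.card_top, card_VV L.J] at hW
    norm_num at hW
  rw [hki, show i = 4 by omega]
  norm_num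

theorem inner_dec (L : Loc z P) {v : G} (hv : v ∈ H0 z P) (hvE : v ∉ EE z) (h2 : v * v ∈ EE z) :
    ∃ c ∈ CC z P, ∃ e ∈ EE z, v = c * e ∧ c ∉ EE z ∧ c * c ∈ zpowers z := by
  obtain ⟨c, hc, e, he, rfl⟩ := exists_dec hv
  refine ⟨c, hc, e, he, rfl, fun hcE => hvE (mul_mem hcE he), L.J.CC_inf_EE (mul_mem hc hc) ?_⟩
  have e1 : c * c = (c * e * (c * e)) * (e⁻¹ * (c⁻¹ * e⁻¹ * c)) := by group
  rw [e1]
  exact mul_mem h2 (mul_mem (inv_mem he) (conj_mem_EE' hc.1 (inv_mem he)))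

theorem card_ker_inner (L : Loc z P) {v : G} (hv : v ∈ H0 z P) (hvE : v ∉ EE z) (h2 : v * v ∈ EE z) :
    Nat.card ↥(nil z v).ker = 2 ^ 8 := by
  obtain ⟨c, hc, e, he, rfl, hcE, hc2⟩ := inner_dec L hv hvE h2
  have : nil z (c * e) = nil z c := AddMonoidHom.ext fun x => by
    rw [nil_apply, nil_apply, act_mul_EE L.J hc.1 he]
  rw [this]
  exact card_ker_inner_aux L hc hcE hc2

theorem card_range_inner (L : Loc z P) {v : G} (hv : v ∈ H0 z P) (hvE : v ∉ EE z) (h2 : v * v ∈ EE z) :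
    Nat.card ↥(nil z v).range = 2 ^ 4 := by
  have h1 := card_ker_mul_range (nil z v)
  rw [card_VV L.J, card_ker_inner L hv hvE h2] at h1
  omega

end Cfsg.Agent.J4Local
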