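import Mathlib
import Cfsg.Agent.Lib.J4Local.Loc

/-!
Centralisers in `H` of involutions outside `E`.
-/

set_option autoImplicit false
set_option linter.style.haveILetI false
set_option linter.unusedSectionVars false

namespace Cfsg.Agent.J4Local

open Subgroup

variable {G : Type*} [Group G] [Finite G] {z : G} {P : Subgroup G}

/-- The image in `E / ⟨z⟩`. -/
def imgV (z : G) (S : Subgroup G) : AddSubgroup (VV z) where
  carrier := {w | ∃ x ∈ S, x ∈ EE z ∧ vk z x = w}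
  zero_mem' := ⟨1, one_mem _, one_mem _, vk_one⟩
  add_mem' := by
    rintro _ _ ⟨x, hx, hxE, rfl⟩ ⟨y, hy, hyE, rfl⟩
    exact ⟨x * y, mul_mem hx hy, mul_mem hxE hyE, vk_mul hxE hyE⟩
  neg_mem' := by
    rintro _ ⟨x, hx, hxE, rfl⟩
    refine ⟨x⁻¹, inv_mem hx, inv_mem hxE, ?_⟩
    refine eq_neg_of_add_eq_zero_left ?_
    rw [← vk_mul (inv_mem hxE) hxE, inv_mul_cancel, vk_one]

theorem mem_imgV {S : Subgroup G} {w : VV z} : w ∈ imgV z S ↔ ∃ x ∈ S, x ∈ EE z ∧ vk z x = w := Iff.rfl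

theorem vk_mem_imgV {S : Subgroup G} {x : G} (hx : x ∈ S) (hxE : x ∈ EE z) : vk z x ∈ imgV z S :=
  ⟨x, hx, hxE, rfl⟩

/-- The preimage in `E`. -/
def preV (h : JType z P) (W : AddSubgroup (VV z)) : Subgroup G where
  carrier := {x | x ∈ EE z ∧ vk z x ∈ W}
  one_mem' := ⟨one_mem _, by rw [vk_one]; exact zero_mem _⟩
  mul_mem' := fun {a b} ha hb => ⟨mul_mem ha.1 hb.1, by rw [vk_mul ha.1 hb.1]; exact add_mem ha.2 hb.2⟩
  inv_mem' := fun {a} ha => ⟨inv_mem ha.1, by rw [vk_inv h ha.1]; exact ha.2⟩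

theorem mem_preV {h : JType z P} {W : AddSubgroup (VV z)} {x : G} :
    x ∈ preV h W ↔ x ∈ EE z ∧ vk z x ∈ W := Iff.rfl

theorem card_preV (h : JType z P) (W : AddSubgroup (VV z)) :
    Nat.card ↥(preV h W) = 2 * Nat.card ↥W := by
  have hz : z ∈ zpowers z := mem_zpowers z
  have hzE : ∀ t ∈ zpowers z, t ∈ EE z := fun t ht => by
    rcases h.mem_zpowers ht with rfl | rfl
    exacts [one_mem _, h.ctr.z_mem]
  have hzk : ∀ t ∈ zpowers z, vk z t = 0 := fun t ht => (vk_eq_zero_iff h (hzE t ht)).2 ht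
  have hcz : Nat.card ↥(zpowers z) = 2 := by rw [Nat.card_zpowers, h.two]
  rw [← hcz, mul_comm, ← Nat.card_prod]
  refine Nat.card_congr ⟨fun x => (⟨vk z x, x.2.2⟩, ⟨(rep z (vk z x))⁻¹ * x, ?_⟩),
    fun wt => ⟨rep z wt.1 * wt.2, mul_mem (rep_mem _) (hzE _ wt.2.2), ?_⟩, fun x => ?_, fun wt => ?_⟩
  · refine (vk_eq_zero_iff h (mul_mem (inv_mem (rep_mem _)) x.2.1)).1 ?_
    rw [vk_mul (inv_mem (rep_mem _)) x.2.1, vk_inv h (rep_mem _), vk_rep, VV.two h]
  · rw [vk_mul (rep_mem _) (hzE _ wt.2.2), vk_rep, hzk _ wt.2.2, add_zero]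
    exact wt.1.2
  · exact Subtype.ext (mul_inv_cancel_left _ _)
  · have e : vk z (rep z (wt.1 : VV z) * wt.2) = wt.1 := by
      rw [vk_mul (rep_mem _) (hzE _ wt.2.2), vk_rep, hzk _ wt.2.2, add_zero]
    refine Prod.ext (Subtype.ext e) (Subtype.ext ?_)
    show (rep z (vk z (rep z (wt.1 : VV z) * wt.2)))⁻¹ * (rep z (wt.1 : VV z) * wt.2) = wt.2
    rw [e, inv_mul_cancel_left]

theorem card_le_two_mul (h : JType z P) {S : Subgroup G} (hS : S ≤ EE z) :
    Nat.card ↥S ≤ 2 * Nat.card ↥(imgV z S) := by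
  rw [← card_preV h]
  exact Subgroup.card_le_of_le fun x hx => ⟨hS hx, vk_mem_imgV hx (hS hx)⟩

theorem card_two_mul (h : JType z P) {S : Subgroup G} (hS : S ≤ EE z) (hz : z ∈ S) :
    Nat.card ↥S = 2 * Nat.card ↥(imgV z S) := by
  rw [← card_preV h]
  refine congrArg (fun T : Subgroup G => Nat.card ↥T) (le_antisymm (fun x hx => ⟨hS hx, vk_mem_imgV hx (hS hx)⟩) ?_)
  rintro x ⟨hx, y, hy, hyE, e⟩
  rcases (vk_eq_vk_iff h hx hyE).1 e.symm with rfl | rfl
  exacts [hy, mul_mem hy hz]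

/-- The elements of `E` commuting with `v`. -/
abbrev CE (z v : G) : Subgroup G := EE z ⊓ centralizer ({v} : Set G)

theorem imgV_CE_le (h : JType z P) {v : G} (hv : v ∈ HH z) : imgV z (CE z v) ≤ (nil z v).ker := by
  rintro w ⟨x, hx, hxE, rfl⟩
  rw [mem_ker_nil h, act_vk hv hxE, ← mem_centralizer_singleton_iff.1 hx.2, mul_inv_cancel_right]

theorem eq_inv_of_sq (h : JType z P) {c : G} (hc : c ∈ HH z) (h2 : c * c ∈ EE z) (x : VV z) :
    act z c⁻¹ x = act z c x := by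
  refine act_injective hc ?_
  rw [act_act_inv hc, ← act_mul hc hc, act_EE h h2]

/-- An element of `C` centralises what it centralises modulo `⟨z⟩`. -/
theorem fixed_of_CC (h : JType z P) {c : G} (hc : c ∈ CC z P) {x : G} (hx : x ∈ EE z)
    (hfix : act z c (vk z x) = vk z x) : c * x = x * c := by
  obtain ⟨p, hp, hp1, -, -⟩ := h.exists_gen
  have hH := h.P_le_HH hp
  let K := (nil z c).ker
  have hinv : ∀ w ∈ K, act z p w ∈ K := fun w hw => by
    rw [AddMonoidHom.mem_ker, nil_comm h (CC_le_H0 z P hc) hp, AddMonoidHom.mem_ker.1 hw, map_zero]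
  let f : ↥K → ↥K := fun w => ⟨act z p w + w, add_mem (hinv w w.2) w.2⟩
  have hinj : Function.Injective f := fun a b e => by
    have e1 : act z p (a : VV z) + a = act z p b + b := congrArg Subtype.val e
    refine Subtype.ext (VV.eq_of_add h (act_fpf h hp hp1 ?_))
    rw [map_add]
    refine VV.eq_of_add h ?_
    calc act z p (a : VV z) + act z p b + (a + b) = (act z p (a : VV z) + a) + (act z p b + b) := by abel
      _ = 0 := by rw [e1, VV.two h]
  obtain ⟨⟨y, hy⟩, hyx⟩ := (Finite.injective_iff_surjective.1 hinj) ⟨vk z x, (mem_ker_nil h).2 hfix⟩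
  have hy' : act z p y + y = vk z x := congrArg Subtype.val hyx
  obtain ⟨t, ht, rfl⟩ := vk_surj y
  have e1 := (mem_ker_nil h).1 hy
  rw [act_vk hc.1 ht] at e1
  have key : c * (p * t * p⁻¹ * t) * c⁻¹ = p * t * p⁻¹ * t := by
    have hcp : c * p = p * c := commute_CC_P hc hp
    have hzp : p * z = z * p := mem_HH.1 hH
    rcases (vk_eq_vk_iff h (conj_mem_EE hc.1 ht) ht).1 e1 with e2 | e2
    · calc c * (p * t * p⁻¹ * t) * c⁻¹ = (c * p) * t * (c * p)⁻¹ * (c * t * c⁻¹) := by group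
        _ = p * (c * t * c⁻¹) * p⁻¹ * (c * t * c⁻¹) := by rw [hcp]; group
        _ = _ := by rw [e2]
    · have hztp : z * p⁻¹ = p⁻¹ * z := by
        calc z * p⁻¹ = p⁻¹ * (p * z) * p⁻¹ := by group
          _ = _ := by rw [hzp]; group
      calc c * (p * t * p⁻¹ * t) * c⁻¹ = (c * p) * t * (c * p)⁻¹ * (c * t * c⁻¹) := by group
        _ = p * (c * t * c⁻¹) * p⁻¹ * (c * t * c⁻¹) := by rw [hcp]; group
        _ = p * t * (z * p⁻¹) * (t * z) := by rw [e2]; group
        _ = p * t * p⁻¹ * (z * t) * z := by rw [hztp]; group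
        _ = p * t * p⁻¹ * t * (z * z) := by rw [← h.ctr.comm ht]; group
        _ = _ := by rw [h.ctr.zz, mul_one]
  have hpt : p * t * p⁻¹ ∈ EE z := conj_mem_EE hH ht
  rw [act_vk hH ht, ← vk_mul hpt ht] at hy'
  have hcz : c * z = z * c := mem_HH.1 hc.1
  rcases (vk_eq_vk_iff h hx (mul_mem hpt ht)).1 hy'.symm with rfl | rfl
  · exact mul_inv_eq_iff_eq_mul.1 key
  · rw [mul_assoc _ z c, ← hcz, ← mul_assoc _ c z, ← mul_assoc c, mul_inv_eq_iff_eq_mul.1 key]

/-- An inner involution centralising no conjugate of `P` is moved to `v z` by `E`. -/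
theorem exists_move (L : Loc z P) {v : G} (hv : v ∈ H0 z P) (hvE : v ∉ EE z) (h2 : v * v = 1)
    (hnw : ∀ x ∈ EE z, x * v * x⁻¹ ∉ CC z P) :
    (∃ x ∈ EE z, x * v * x⁻¹ = v * z) ∧ Nat.card ↥(CE z v) ≤ 2 ^ 8 := by
  have hJ := L.J
  have hvH := H0_le_HH z P hv
  have hv2 : v * v ∈ EE z := h2.symm ▸ one_mem _
  have hex : ∃ x ∈ EE z, x * v * x⁻¹ = v * z := by
    by_contra hno
    push Not at hno
    obtain ⟨c, hc, e, he, rfl, hcE, hc2⟩ := inner_dec L hv hvE hv2
    have hcz : c * c ∈ EE z := by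
      rcases hJ.mem_zpowers hc2 with e' | e' <;> rw [e']
      exacts [one_mem _, hJ.ctr.z_mem]
    have hperp : vk z e ∈ perp hJ (nil z c).ker := by
      intro w hw
      obtain ⟨x, hx, rfl⟩ := vk_surj w
      have hw' := (mem_ker_nil hJ).1 hw
      have hcx := fixed_of_CC hJ hc hx hw'
      have hvx : x * (c * e) = c * e * x := by
        have hw2 : vk z (c * e * x * (c * e)⁻¹) = vk z x := by
          rw [← act_vk hvH hx, act_mul_EE hJ hc.1 he, hw']
        rcases (vk_eq_vk_iff hJ (conj_mem_EE hvH hx) hx).1 hw2 with e2 | e2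
        · exact (mul_inv_eq_iff_eq_mul.1 e2).symm
        · exfalso
          refine hno x hx ?_
          have e3 := mul_inv_eq_iff_eq_mul.1 e2
          have hzv : z * (c * e) = c * e * z := (mem_HH.1 hvH).symm
          calc x * (c * e) * x⁻¹ = x * z * (c * e) * x⁻¹ * z := by
                rw [mul_assoc x z, hzv]
                have hxz : x⁻¹ * z = z * x⁻¹ := hJ.ctr.comm (inv_mem hx)
                rw [mul_assoc _ x⁻¹ z, hxz]
                simp only [mul_assoc]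
                rw [← mul_assoc z z, hJ.ctr.zz, one_mul]
            _ = c * e * z := by rw [← e3]; group
      have hex : e * x = x * e := by
        refine mul_left_cancel (a := c) ?_
        rw [← mul_assoc, ← hvx, ← mul_assoc, ← mul_assoc, hcx]
      rw [BB_vk hJ he hx, cm_eq_zero]
      exact hex
    have heq : perp hJ (nil z c).ker = (nil z c).range := by
      refine (AddSubgroup.eq_of_le_of_card_ge ?_ ?_).symm
      · rintro _ ⟨y, rfl⟩ w hw
        conv_lhs => rw [nil_apply, BB_add_left hJ, ← (mem_ker_nil hJ).1 hw, BB_act hJ hc.1, (mem_ker_nil hJ).1 hw]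
        exact CharTwo.add_self_eq_zero _
      · have h1 := card_mul_card_perp hJ (nil z c).ker
        have h3 := card_ker_mul_range (nil z c)
        rw [card_VV hJ] at h3
        exact le_of_eq (Nat.eq_of_mul_eq_mul_left Nat.card_pos (h1.trans h3.symm))
    rw [heq] at hperp
    obtain ⟨w, hw⟩ := hperp
    obtain ⟨y, hy, rfl⟩ := vk_surj w
    have hmem : c⁻¹ * y * c * y⁻¹ ∈ EE z := mul_mem (conj_mem_EE' hc.1 hy) (inv_mem hy)
    have e4 : vk z e = vk z (c⁻¹ * y * c * y⁻¹) := by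
      rw [vk_mul (conj_mem_EE' hc.1 hy) (inv_mem hy), vk_inv hJ hy, ← hw, nil_apply,
        ← eq_inv_of_sq hJ hc.1 hcz, act_vk (inv_mem hc.1) hy, inv_inv]
    refine hnw y⁻¹ (inv_mem hy) ?_
    rcases (vk_eq_vk_iff hJ he hmem).1 e4 with rfl | rfl
    · convert hc using 1
      group
    · have hzy : z * y = y * z := (hJ.ctr.comm hy).symm
      have hzC : z ∈ CC z P := ⟨mem_HH.2 rfl, mem_centralizer_iff.2 fun q hq =>
        mem_HH.1 (hJ.P_le_HH hq)⟩
      have e5 : y⁻¹ * (c * (c⁻¹ * y * c * y⁻¹ * z)) * y⁻¹⁻¹ = c * z := by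
        calc y⁻¹ * (c * (c⁻¹ * y * c * y⁻¹ * z)) * y⁻¹⁻¹ = c * y⁻¹ * (z * y) := by group
          _ = _ := by rw [hzy]; group
      rw [e5]
      exact mul_mem hc hzC
  refine ⟨hex, ?_⟩
  obtain ⟨x, hx, hxv⟩ := hex
  have hle := imgV_CE_le hJ hvH
  have hxK : vk z x ∈ (nil z v).ker := by
    rw [mem_ker_nil hJ, act_vk hvH hx]
    have hzv : v * z = z * v := mem_HH.1 hvH
    have e3 : x * v = v * (z * x) := by
      rw [← mul_assoc]; exact mul_inv_eq_iff_eq_mul.1 hxv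
    have e6 : v * x * v⁻¹ = x * z := by
      have e7 : v * (z * x) * v⁻¹ = x := by rw [← e3]; group
      calc v * x * v⁻¹ = v * (z * z * x) * v⁻¹ := by rw [hJ.ctr.zz, one_mul]
        _ = (v * z * v⁻¹) * (v * (z * x) * v⁻¹) := by group
        _ = z * x := by rw [e7, hzv]; group
        _ = _ := (hJ.ctr.comm hx).symm
    exact (vk_eq_vk_iff hJ (conj_mem_EE hvH hx) hx).2 (Or.inr e6)
  have hne : imgV z (CE z v) ≠ (nil z v).ker := by
    intro e
    rw [← e] at hxK
    obtain ⟨y, hy, hyE, hyx⟩ := hxK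
    have hyv := mem_centralizer_singleton_iff.1 hy.2
    have hzv : v * z = z * v := mem_HH.1 hvH
    have hxc : x * v = v * x := by
      rcases (vk_eq_vk_iff hJ hx hyE).1 hyx.symm with rfl | rfl
      · exact hyv
      · rw [mul_assoc, ← hzv, ← mul_assoc, hyv, mul_assoc]
    rw [mul_inv_eq_iff_eq_mul, hxc, mul_assoc, eq_comm] at hxv
    exact hJ.ctr.ne_one (mul_eq_right.1 (mul_left_cancel hxv))
  have hlt : Nat.card ↥(imgV z (CE z v)) < 2 ^ 8 := by
    rw [← card_ker_inner L hv hvE hv2]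
    refine lt_of_le_of_ne (AddSubgroup.card_le_of_le hle) fun e => hne ?_
    exact AddSubgroup.eq_of_le_of_card_ge hle e.ge
  obtain ⟨k, hk, hk'⟩ := (Nat.dvd_prime_pow Nat.prime_two).1
    ((card_VV hJ) ▸ AddSubgroup.card_addSubgroup_dvd_card (imgV z (CE z v)))
  have h7 : k ≤ 7 := by
    by_contra hk7
    rw [hk'] at hlt
    exact absurd hlt (not_lt.2 (Nat.pow_le_pow_right (by norm_num) (by omega)))
  calc Nat.card ↥(CE z v) ≤ 2 * Nat.card ↥(imgV z (CE z v)) := card_le_two_mul hJ inf_le_left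
    _ ≤ 2 * 2 ^ 7 := by rw [hk']; exact Nat.mul_le_mul_left 2 (Nat.pow_le_pow_right (by norm_num) h7)
    _ = 2 ^ 8 := by norm_num

theorem card_CE_outer (L : Loc z P) {v : G} (hv : v ∈ HH z) (hv0 : v ∉ H0 z P) (h2 : v * v ∈ EE z) :
    Nat.card ↥(CE z v) ≤ 2 ^ 7 :=
  (card_le_two_mul L.J inf_le_left).trans
    (by
      have := AddSubgroup.card_le_of_le (imgV_CE_le L.J hv)
      rw [card_ker_outer L hv hv0 h2] at this
      exact le_trans (Nat.mul_le_mul_left 2 this) (by norm_num))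

theorem card_cent_bound (h : JType z P) {v : G} (hv : v ∈ HH z) {a b : ℕ} (ha : Nat.card ↥(CE z v) ≤ a)
    (hb : Nat.card ↥(centMod z v) ≤ 2 ^ 13 * b) :
    Nat.card ↥(HH z ⊓ centralizer ({v} : Set G)) ≤ a * b := by
  set S := HH z ⊓ centralizer ({v} : Set G)
  have hS : S ≤ centMod z v := fun x hx => ⟨hx.1, by
    rw [mem_centralizer_singleton_iff.1 hx.2, mul_inv_cancel_right, mul_inv_cancel]
    exact one_mem _⟩
  have hE : EE z ≤ centMod z v := fun x hx => ⟨EE_le_HH z hx, by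
    rw [mul_assoc (x * v), mul_assoc x v, ← mul_assoc v]
    exact mul_mem hx (conj_mem_EE hv (inv_mem hx))⟩
  have h1 : Nat.card ↥(EE z ⊓ S : Subgroup G) * (EE z).relIndex S = Nat.card ↥S := by
    rw [← relIndex_bot_left (EE z ⊓ S), ← relIndex_bot_left S, ← inf_relIndex_right (EE z) S,
      relIndex_mul_relIndex _ _ _ bot_le inf_le_right]
  have h3 : Nat.card ↥(EE z) * (EE z).relIndex (centMod z v) = Nat.card ↥(centMod z v) := by
    rw [← relIndex_bot_left (EE z), ← relIndex_bot_left (centMod z v),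
      relIndex_mul_relIndex _ _ _ bot_le hE]
  have h4 : (EE z).relIndex S ≤ (EE z).relIndex (centMod z v) :=
    relIndex_le_of_le_right hS (index_ne_zero_of_finite)
  have h5 : (EE z).relIndex (centMod z v) ≤ b := by
    rw [← h3, h.cardE] at hb
    exact Nat.le_of_mul_le_mul_left hb (by norm_num)
  have h6 : Nat.card ↥(EE z ⊓ S : Subgroup G) ≤ a :=
    le_trans (Subgroup.card_le_of_le fun x hx => Subgroup.mem_inf.2 ⟨(Subgroup.mem_inf.1 hx).1, (Subgroup.mem_inf.1 (Subgroup.mem_inf.1 hx).2).2⟩) ha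
  rw [← h1]
  exact Nat.mul_le_mul h6 (h4.trans h5)

theorem cent_bound_inner (L : Loc z P) {v : G} (hv : v ∈ H0 z P) (hvE : v ∉ EE z) (h2 : v * v = 1)
    (hnw : ∀ x ∈ EE z, x * v * x⁻¹ ∉ CC z P) :
    Nat.card ↥(HH z ⊓ centralizer ({v} : Set G)) ≤ 589824 :=
  (card_cent_bound L.J (H0_le_HH z P hv) (exists_move L hv hvE h2 hnw).2
    (L.cent_inner v hv hvE (h2.symm ▸ one_mem _))).trans (by norm_num)

theorem cent_bound_outer (L : Loc z P) {v : G} (hv : v ∈ HH z) (hv0 : v ∉ H0 z P) (h2 : v * v = 1) :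
    Nat.card ↥(HH z ⊓ centralizer ({v} : Set G)) ≤ 664832 :=
  (card_cent_bound L.J hv (card_CE_outer L hv hv0 (h2.symm ▸ one_mem _))
    (L.cent_outer v hv hv0 (h2.symm ▸ one_mem _))).trans (by norm_num)

end Cfsg.Agent.J4Local
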