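import Mathlib
import Cfsg.Agent.Lib.J4Local.Base

/-!
Janko-four type is carried by conjugation.
-/

set_option autoImplicit false
set_option linter.style.haveILetI false
set_option linter.unusedSectionVars false

namespace Cfsg.Agent.J4Local

open Subgroup

variable {G : Type*} [Group G] [Finite G]

/-- The conjugate of a subgroup. -/
abbrev cjS (g : G) (S : Subgroup G) : Subgroup G := S.map (MulAut.conj g).toMonoidHom

theorem mem_cjS {g w : G} {S : Subgroup G} : w ∈ cjS g S ↔ g⁻¹ * w * g ∈ S := by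
  rw [cjS, mem_map_equiv, MulAut.conj_symm_apply]

theorem cjS_HH (z g : G) : cjS g (HH z) = HH (g * z * g⁻¹) :=
  SetLike.ext fun w => mem_cjS.trans (mem_HH_conj z g w).symm

theorem cjS_EE (z g : G) : cjS g (EE z) = EE (g * z * g⁻¹) :=
  SetLike.ext fun w => mem_cjS.trans (mem_EE_conj z g w).symm

theorem cjS_zpowers (z g : G) : cjS g (zpowers z) = zpowers (g * z * g⁻¹) := by
  rw [cjS, MonoidHom.map_zpowers]; rfl

theorem cjS_centralizer (g : G) (S : Subgroup G) :
    cjS g (centralizer (S : Set G)) = centralizer (cjS g S : Set G) := by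
  ext w
  rw [mem_cjS, mem_centralizer_iff, mem_centralizer_iff]
  constructor
  · intro hw x hx
    have h1 := hw (g⁻¹ * x * g) (mem_cjS.1 hx)
    calc x * w = g * ((g⁻¹ * x * g) * (g⁻¹ * w * g)) * g⁻¹ := by group
      _ = _ := by rw [h1]; group
  · intro hw x hx
    have h1 := hw (g * x * g⁻¹) (mem_cjS.2 (by simpa [mul_assoc] using hx))
    calc x * (g⁻¹ * w * g) = g⁻¹ * ((g * x * g⁻¹) * w) * g := by group
      _ = _ := by rw [h1]; group

theorem cjS_normalizer (g : G) (S : Subgroup G) :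
    cjS g (normalizer (S : Set G)) = normalizer (cjS g S : Set G) :=
  Subgroup.map_equiv_normalizer_eq S (MulAut.conj g)

theorem cjS_inf (g : G) (S T : Subgroup G) : cjS g (S ⊓ T) = cjS g S ⊓ cjS g T :=
  Subgroup.map_inf _ _ _ (MulAut.conj g).injective

theorem cjS_CC (z g : G) (P : Subgroup G) : cjS g (CC z P) = CC (g * z * g⁻¹) (cjS g P) := by
  rw [CC, cjS_inf, cjS_HH, cjS_centralizer]

theorem cjS_H0 (z g : G) (P : Subgroup G) : cjS g (H0 z P) = H0 (g * z * g⁻¹) (cjS g P) := by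
  rw [H0, H0, cjS, Subgroup.map_sup, ← cjS_CC, ← cjS_EE]

theorem card_cjS (g : G) (S : Subgroup G) : Nat.card ↥(cjS g S) = Nat.card ↥S :=
  card_map_of_injective (MulAut.conj g).injective

theorem JType.conj {z : G} {P : Subgroup G} (h : JType z P) (g : G) :
    JType (g * z * g⁻¹) (cjS g P) := by
  obtain ⟨h1, h2, h3, h4, ⟨N, n1, n2, n3, n4, ⟨nn, ⟨e⟩⟩, n5⟩, h6, h7, h8, h9⟩ := h
  have hm : ∀ {S T : Subgroup G}, S ≤ T → cjS g S ≤ cjS g T := fun hle => Subgroup.map_mono hle
  refine ⟨by rw [← h1]; exact (MulEquiv.orderOf_eq (MulAut.conj g) z).trans rfl,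
    LargeExtra.isExtraspecial_of_equiv h2 (((MulAut.conj g).subgroupMap (EE z)).trans
      (MulEquiv.subgroupCongr (cjS_EE z g))),
    by rw [← h3]; show Nat.card ↥(EE _) = Nat.card ↥(EE z); rw [← cjS_EE, card_cjS],
    ?_, ⟨cjS g N, ?_, ?_, ?_, ?_, ?_, hm n5⟩, by rw [card_cjS, h6], ?_, ?_, ?_⟩
  · show HH _ ⊓ centralizer ((EE _ : Subgroup G) : Set G) ≤ EE _
    rw [← cjS_EE, ← cjS_HH, ← cjS_centralizer, ← cjS_inf]
    exact hm h4
  · show EE _ ≤ _
    rw [← cjS_EE]; exact hm n1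
  · show _ ≤ HH _
    rw [← cjS_HH]; exact hm n2
  · show HH _ ≤ _
    rw [← cjS_HH, ← cjS_normalizer]; exact hm n3
  · show Nat.card ↥(cjS g N) = 3 * Nat.card ↥(EE _)
    rw [← cjS_EE, card_cjS, card_cjS, n4]
  · set H' := centralizer ({g * z * g⁻¹} : Set G)
    let φ : ↥(centralizer ({z} : Set G)) ≃* ↥H' :=
      ((MulAut.conj g).subgroupMap _).trans (MulEquiv.subgroupCongr (cjS_HH z g))
    have hφ : ∀ y, (φ y : G) = g * y * g⁻¹ := fun _ => rfl
    have hN : (N.subgroupOf (centralizer ({z} : Set G))).map φ.toMonoidHom = (cjS g N).subgroupOf H' := by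
      ext y
      rw [mem_map_equiv, mem_subgroupOf, mem_subgroupOf, mem_cjS]
      have : ((φ.symm y : ↥(centralizer ({z} : Set G))) : G) = g⁻¹ * y * g := by
        have e1 := hφ (φ.symm y)
        rw [MulEquiv.apply_symm_apply] at e1
        rw [e1]; group
      rw [this]
    have nn' : ((cjS g N).subgroupOf H').Normal := by
      rw [← hN]; exact nn.map _ φ.surjective
    exact ⟨nn', ⟨((QuotientGroup.congr _ _ φ hN).symm.trans e)⟩⟩
  · show EE _ ⊓ _ = _
    rw [← cjS_EE, ← cjS_centralizer, ← cjS_inf, ← cjS_zpowers]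
    exact congrArg (cjS g) h7
  · intro hq
    apply h8
    apply Subgroup.map_injective (f := (MulAut.conj g).toMonoidHom) (MulAut.conj g).injective
    show cjS g (HH z ⊓ _) = cjS g (HH z ⊓ _)
    rw [cjS_inf, cjS_inf, cjS_HH, cjS_normalizer, cjS_centralizer]
    exact hq
  · show cjS g P ≤ ⁅CC _ _, CC _ _⁆
    rw [← cjS_CC, cjS, ← Subgroup.map_commutator]
    exact hm h9

theorem JType.exists_of_isConj {z b : G} {P : Subgroup G} (h : JType z P) (hb : IsConj z b) :
    ∃ Q : Subgroup G, JType b Q := by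
  obtain ⟨g, rfl⟩ := isConj_iff.1 hb
  exact ⟨_, h.conj g⟩

end Cfsg.Agent.J4Local
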