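import Cfsg.Agent.Lib.J4Local.M22Facts
import Cfsg.Agent.Lib.M22Order.Local

/-!
# Simple groups of order 443520: the 2-rank, an element of order four, inverting involutions
-/

set_option autoImplicit false
set_option linter.style.haveILetI false
set_option linter.unusedSectionVars false

namespace Cfsg.Agent.J4Local

open Subgroup
open scoped Pointwise
open Cfsg.Agent.M12Order (cen)

universe u

variable {G : Type u} [Group G] [Finite G] [IsSimpleGroup G] (hcard : Nat.card G = 443520)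

include hcard

/-- An elementary abelian 2-subgroup has order at most 16. -/
theorem rank_le (A : Subgroup G) (hsq : ∀ a ∈ A, a * a = 1) : Nat.card A ≤ 16 := by
  classical
  haveI : Fact (Nat.Prime 2) := ⟨Nat.prime_two⟩
  obtain ⟨S⟩ := M22Order.exists_setup hcard
  by_cases hA : A = ⊥
  · rw [hA, Subgroup.card_bot]; norm_num
  obtain ⟨a, ha, ha1⟩ := A.bot_or_exists_ne_one.resolve_left hA
  have ho : ∀ x ∈ A, x ≠ 1 → orderOf x = 2 := fun x hx h1 =>
    orderOf_eq_prime (by rw [pow_two]; exact hsq x hx) h1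
  obtain ⟨g, hg⟩ := isConj_iff.1 (M22Order.isConj_involution hcard (ho a ha ha1) S.ht)
  -- replace `A` by a conjugate containing `t`
  set B := A.map (MulAut.conj g).toMonoidHom with hB
  have hBA : Nat.card B = Nat.card A := card_map_of_injective (MulAut.conj g).injective
  have hsqB : ∀ b ∈ B, b * b = 1 := by
    rintro _ ⟨x, hx, rfl⟩
    rw [← map_mul, hsq x hx, map_one]
  have hcomm : ∀ x ∈ B, ∀ y ∈ B, Commute x y := fun x hx y hy => by
    have h1 := hsqB x hx
    have h2 := hsqB y hy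
    calc x * y = x * 1 * y := by rw [mul_one]
      _ = x * ((x * y) * (x * y)) * y := by rw [hsqB _ (mul_mem hx hy)]
      _ = (x * x) * (y * x) * (y * y) := by group
      _ = y * x := by rw [h1, h2, one_mul, mul_one]
  have htB : S.t ∈ B := ⟨a, ha, hg⟩
  have hBN : B ≤ normalizer (S.E : Set G) := fun x hx =>
    S.C_le hcard (mem_centralizer_singleton_iff.2 (hcomm x hx S.t htB).eq)
  rw [← hBA]
  by_cases hBE : B ≤ S.E
  · exact (Nat.le_of_dvd Nat.card_pos (card_dvd_of_le hBE)).trans (S.card_E hcard).le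
  by_contra hgt
  have hpow : ∀ x : ↥B, x ^ 2 = 1 := fun x => by rw [pow_two]; exact Subtype.ext (hsqB x x.2)
  have hBp : IsPGroup 2 ↥B := fun x => ⟨1, by rw [pow_one]; exact hpow x⟩
  obtain ⟨j, hj⟩ := IsPGroup.iff_card.1 hBp
  have h32 : 32 ≤ Nat.card B := by
    rw [hj] at hgt ⊢
    rcases Nat.lt_or_ge j 5 with h | h
    · exact absurd ((Nat.pow_le_pow_right (by norm_num) (by omega : j ≤ 4)).trans (by norm_num)) hgt
    · exact (show 32 = 2 ^ 5 by norm_num) ▸ Nat.pow_le_pow_right (by norm_num) h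
  set K := (B ⊓ S.E).subgroupOf B with hK
  have hKc : Nat.card K = Nat.card ↥(B ⊓ S.E) :=
    Nat.card_congr (subgroupOfEquivOfLe inf_le_left).toEquiv
  -- the 2-part of the group
  have h128 : Nat.card (↥B ⧸ K) * 16 ≤ 128 := by
    have hEp : IsPGroup 2 S.E := IsPGroup.of_card (n := 4) (by rw [S.card_E hcard]; norm_num)
    obtain ⟨k, hk⟩ := IsPGroup.iff_card.1 (hBp.to_sup_of_normal_right' hEp hBN)
    have hd : 2 ^ k ∣ 443520 := by rw [← hk, ← hcard]; exact card_subgroup_dvd_card _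
    have hk7 : k ≤ 7 := by
      by_contra h
      have : 2 ^ 8 ∣ 443520 := (Nat.pow_dvd_pow 2 (by omega)).trans hd
      norm_num at this
    refine le_trans ?_ ((Nat.pow_le_pow_right (by norm_num) hk7).trans (by norm_num : 2 ^ 7 ≤ 128))
    rw [← hk, ← S.card_E hcard, ← Nat.card_prod]
    refine Nat.card_le_card_of_injective (fun q => (⟨(q.1.out : G) * (q.2 : G),
      mul_mem (mem_sup_left q.1.out.2) (mem_sup_right q.2.2)⟩ : ↥(B ⊔ S.E))) ?_
    rintro ⟨q, x⟩ ⟨q', x'⟩ h
    have h' : (q.out : G) * x = (q'.out : G) * x' := congrArg Subtype.val h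
    have hmem : (q'.out : G)⁻¹ * q.out ∈ S.E := by
      rw [show (q'.out : G)⁻¹ * q.out = (x' : G) * (x : G)⁻¹ from ?_]
      · exact mul_mem x'.2 (inv_mem x.2)
      · calc (q'.out : G)⁻¹ * q.out = (q'.out : G)⁻¹ * ((q.out : G) * x) * (x : G)⁻¹ := by group
          _ = _ := by rw [h']; group
    have hq : q' = q := by
      rw [← QuotientGroup.out_eq' q, ← QuotientGroup.out_eq' q', QuotientGroup.eq]
      refine mem_subgroupOf.2 ?_
      have hu : (q'.out : G)⁻¹ * q.out ∈ B := mul_mem (inv_mem q'.out.2) q.out.2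
      exact mem_inf.2 ⟨hu, hmem⟩
    subst hq
    exact Prod.ext rfl (Subtype.ext (mul_left_cancel h'))
  have hqc : Nat.card (↥B ⧸ K) * Nat.card K = Nat.card B :=
    (K.card_eq_card_quotient_mul_card_subgroup).symm
  have h4 : 4 ≤ Nat.card ↥(B ⊓ S.E) := by
    rw [hKc] at hqc
    by_contra h
    have := Nat.mul_le_mul (show Nat.card (↥B ⧸ K) ≤ 8 by omega) (show Nat.card ↥(B ⊓ S.E) ≤ 3 by omega)
    omega
  -- every element of `B` outside `E` fixes exactly `B ∩ E`
  have hfix : ∀ u ∈ B, u ∉ S.E → B ⊓ S.E = S.E ⊓ centralizer ({u} : Set G) ∧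
      Nat.card ↥(B ⊓ S.E) = 4 := by
    intro u hu huE
    have hu4 : Nat.card ↥(S.E ⊓ centralizer ({u} : Set G)) = 4 := (S.outside hcard (hBN hu) huE
      (orderOf_eq_prime (by rw [pow_two]; exact hsqB u hu) (fun e => huE (e ▸ one_mem _)))).1
    have e1 : B ⊓ S.E = S.E ⊓ centralizer ({u} : Set G) := eq_of_le_of_card_ge
      (fun x hx => ⟨hx.2, mem_centralizer_singleton_iff.2 (hcomm x hx.1 u hu).eq⟩) (by omega)
    exact ⟨e1, e1 ▸ hu4⟩
  obtain ⟨s, hsB, hsE⟩ := SetLike.not_le_iff_exists.1 hBE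
  obtain ⟨-, hD4⟩ := hfix s hsB hsE
  obtain ⟨e, he, heD⟩ := SetLike.not_le_iff_exists.1 (show ¬ S.E ≤ B ⊓ S.E from fun h => by
    have := Nat.le_of_dvd Nat.card_pos (card_dvd_of_le h)
    rw [hD4, S.card_E hcard] at this
    omega)
  have hmem : ∀ b ∈ B, e * (b * e * b⁻¹) ∈ B ⊓ S.E := by
    intro b hb
    have hbe : b * e * b⁻¹ ∈ S.E := (mem_normalizer_iff.1 (hBN hb) e).1 he
    by_cases hbE : b ∈ S.E
    · rw [(S.comm hcard hbE he).eq, mul_inv_cancel_right, S.sq hcard he]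
      exact one_mem _
    · rw [(hfix b hb hbE).1]
      refine ⟨mul_mem he hbe, mem_centralizer_singleton_iff.2 ?_⟩
      have hbb : b * b = 1 := hsqB b hb
      have hbi : b⁻¹ = b := inv_eq_of_mul_eq_one_right hbb
      have h1 : b * (b * e * b⁻¹) * b⁻¹ = e := by
        rw [hbi]
        calc b * (b * e * b) * b = (b * b) * e * (b * b) := by group
          _ = e := by rw [hbb, one_mul, mul_one]
      refine (mul_inv_eq_iff_eq_mul.1 ?_).symm
      calc b * (e * (b * e * b⁻¹)) * b⁻¹ = (b * e * b⁻¹) * (b * (b * e * b⁻¹) * b⁻¹) := by group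
        _ = (b * e * b⁻¹) * e := by rw [h1]
        _ = e * (b * e * b⁻¹) := (S.comm hcard hbe he).eq
  have hinj : Nat.card (↥B ⧸ K) ≤ 4 := by
    refine le_of_le_of_eq (Nat.card_le_card_of_injective
      (fun q : ↥B ⧸ K => (⟨_, hmem _ q.out.2⟩ : ↥(B ⊓ S.E))) ?_) hD4
    intro q q' h
    have h' : (q.out : G) * e * (q.out : G)⁻¹ = (q'.out : G) * e * (q'.out : G)⁻¹ :=
      mul_left_cancel (congrArg Subtype.val h)
    rw [← QuotientGroup.out_eq' q, ← QuotientGroup.out_eq' q', QuotientGroup.eq]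
    refine mem_subgroupOf.2 ?_
    have huB : (q.out : G)⁻¹ * q'.out ∈ B := mul_mem (inv_mem q.out.2) q'.out.2
    refine ⟨huB, ?_⟩
    by_contra huE
    refine heD ?_
    rw [(hfix _ huB huE).1]
    refine ⟨he, mem_centralizer_singleton_iff.2 ((mul_inv_eq_iff_eq_mul.1 ?_).symm)⟩
    calc (q.out : G)⁻¹ * q'.out * e * ((q.out : G)⁻¹ * q'.out)⁻¹
        = (q.out : G)⁻¹ * ((q'.out : G) * e * (q'.out : G)⁻¹) * q.out := by group
      _ = e := by rw [← h']; group
  rw [hKc, hD4] at hqc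
  omega

/-- There is an element of order four. -/
theorem exists_order_four : ∃ y : G, y ^ 4 = 1 ∧ y * y ≠ 1 := by
  classical
  haveI : Fact (Nat.Prime 2) := ⟨Nat.prime_two⟩
  obtain ⟨T⟩ := (inferInstance : Nonempty (Sylow 2 G))
  have hT := M22Order.card_sylow_two hcard T
  obtain ⟨x, hx, hx2⟩ : ∃ x ∈ (T : Subgroup G), x * x ≠ 1 := by
    by_contra h
    push Not at h
    have := rank_le hcard (T : Subgroup G) h
    omega
  obtain ⟨k, hk, hxk⟩ := (Nat.dvd_prime_pow Nat.prime_two).1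
    (show orderOf x ∣ 2 ^ 7 from by rw [show (2 : ℕ) ^ 7 = 128 from rfl, ← hT]; exact Subgroup.orderOf_dvd_natCard _ hx)
  have hk2 : 2 ≤ k := by
    by_contra h
    refine hx2 ?_
    rw [← pow_two]
    exact orderOf_dvd_iff_pow_eq_one.1 (hxk ▸ (by simpa using Nat.pow_dvd_pow 2 (show k ≤ 1 by omega)))
  refine ⟨x ^ 2 ^ (k - 2), ?_, ?_⟩
  · rw [← pow_mul, show 2 ^ (k - 2) * 4 = 2 ^ k by rw [show 4 = 2 ^ 2 from rfl, ← pow_add]; congr 1; omega,
      ← hxk, pow_orderOf_eq_one]
  · rw [← pow_add, ← two_mul]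
    refine pow_ne_one_of_lt_orderOf (by positivity) ?_
    rw [hxk, ← pow_succ']
    exact Nat.pow_lt_pow_right (by norm_num) (by omega)

/-- An involution inverts a Sylow 3-subgroup. -/
theorem exists_inverting (P : Sylow 3 G) :
    ∃ t : G, orderOf t = 2 ∧ ∀ x ∈ (P : Subgroup G), t * x * t⁻¹ = x⁻¹ := by
  haveI : Fact (Nat.Prime 2) := ⟨Nat.prime_two⟩
  obtain ⟨t, ht⟩ := exists_prime_orderOf_dvd_card' (G := normalizer ((P : Subgroup G) : Set G)) 2
    (by rw [three_card_normalizer hcard P]; norm_num)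
  have ht2 : orderOf (t : G) = 2 := by rw [Subgroup.orderOf_coe, ht]
  refine ⟨t, ht2, fun x hx => ?_⟩
  have hti : (t : G) * t = 1 := by rw [← pow_two, ← ht2, pow_orderOf_eq_one]
  have hy : (t : G) * x * (t : G)⁻¹ ∈ (P : Subgroup G) := (mem_normalizer_iff.1 t.2 x).1 hx
  set w := x * ((t : G) * x * (t : G)⁻¹) with hw
  have hwP : w ∈ (P : Subgroup G) := mul_mem hx hy
  by_cases hw1 : w = 1
  · exact (inv_eq_of_mul_eq_one_right hw1).symm
  exfalso
  have hfixw : (t : G) * w * (t : G)⁻¹ = w := by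
    have h1 : (t : G) * ((t : G) * x * (t : G)⁻¹) * (t : G)⁻¹ = x := by
      rw [inv_eq_of_mul_eq_one_right hti]
      calc (t : G) * (t * x * t) * t = (t * t) * x * (t * t) := by group
        _ = x := by rw [hti, one_mul, mul_one]
    calc (t : G) * w * (t : G)⁻¹ = ((t : G) * x * (t : G)⁻¹) * ((t : G) * ((t : G) * x * (t : G)⁻¹) * (t : G)⁻¹) := by
          rw [hw]; group
      _ = ((t : G) * x * (t : G)⁻¹) * x := by rw [h1]
      _ = w := (three_commute hcard P hy hx).eq
  have htP : (t : G) ∈ normalizer ((P : Subgroup G) : Set G) ⊓ centralizer ({w} : Set G) :=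
    ⟨t.2, mem_centralizer_singleton_iff.2 (mul_inv_eq_iff_eq_mul.1 hfixw)⟩
  rw [three_stabilizer hcard P hwP hw1] at htP
  have := three_orderOf hcard P htP (fun e => by rw [e, orderOf_one] at ht2; norm_num at ht2)
  rw [ht2] at this
  norm_num at this

end Cfsg.Agent.J4Local
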