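import Mathlib
import Cfsg.Agent.Lib.J4Local.Conj
import Cfsg.Agent.Lib.J4Local.Count

/-!
Pairs of conjugates of `z`, one in the core of the other, when no conjugate of `z` other than `z`
centralises `P` and `z`.
-/

set_option autoImplicit false
set_option linter.style.haveILetI false
set_option linter.unusedSectionVars false

namespace Cfsg.Agent.J4Local

open Subgroup

variable {G : Type*} [Group G] [Finite G]

/-- The data at a conjugate of `z₀`, with no further conjugate in `C`. -/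
structure Good (z₀ z : G) (P : Subgroup G) : Prop where
  L : Loc z P
  isConj : IsConj z₀ z
  noWin : ∀ u ∈ CC z P, IsConj z₀ u → u = z

/-- Every conjugate of `z₀` carries such data. -/
def Ctx (z₀ : G) : Prop := ∀ b : G, IsConj z₀ b → ∃ Q : Subgroup G, Good z₀ b Q

theorem ctx_of_noWin {z₀ : G} {P₀ : Subgroup G}
    (hloc : ∀ (z : G) (P : Subgroup G), JType z P → Loc z P) (h : JType z₀ P₀)
    (hno : ∀ u ∈ CC z₀ P₀, IsConj z₀ u → u = z₀) : Ctx z₀ := by
  intro b hb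
  obtain ⟨g, rfl⟩ := isConj_iff.1 hb
  refine ⟨cjS g P₀, hloc _ _ (h.conj g), hb, fun u hu hcu => ?_⟩
  rw [← cjS_CC, mem_cjS] at hu
  have hc : IsConj z₀ (g⁻¹ * u * g) := hcu.trans (isConj_iff.2 ⟨g⁻¹, by rw [inv_inv]⟩)
  rw [← hno _ hu hc]
  group

variable {z₀ z : G} {P : Subgroup G}

theorem Good.J (hz : Good z₀ z P) : JType z P := hz.L.J

theorem Good.sq (hz : Good z₀ z P) {v : G} (hv : IsConj z₀ v) : v * v = 1 := by
  obtain ⟨g, rfl⟩ := isConj_iff.1 (hz.isConj.symm.trans hv)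
  calc g * z * g⁻¹ * (g * z * g⁻¹) = g * (z * z) * g⁻¹ := by group
    _ = 1 := by rw [hz.J.ctr.zz]; group

theorem Good.not_mem_CC (hz : Good z₀ z P) {v : G} (hvE : v ∉ EE z) (hc : IsConj z₀ v) :
    ∀ x ∈ EE z, x * v * x⁻¹ ∉ CC z P := by
  intro x hx hmem
  have h1 := hz.noWin _ hmem (hc.trans (isConj_iff.2 ⟨x, rfl⟩))
  refine hvE ?_
  rw [mul_inv_eq_iff_eq_mul, ← hz.J.ctr.comm hx] at h1
  exact mul_left_cancel h1 ▸ hz.J.ctr.z_mem

theorem Good.cent_bound (hz : Good z₀ z P) {v : G} (hv : v ∈ HH z) (hvE : v ∉ EE z) (hc : IsConj z₀ v) :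
    Nat.card ↥(HH z ⊓ centralizer ({v} : Set G)) ≤ 664832 := by
  by_cases hv0 : v ∈ H0 z P
  · exact (cent_bound_inner hz.L hv0 hvE (hz.sq hc) (hz.not_mem_CC hvE hc)).trans (by norm_num)
  · exact cent_bound_outer hz.L hv hv0 (hz.sq hc)

theorem Good.inner_move (hz : Good z₀ z P) {v : G} (hv : v ∈ H0 z P) (hvE : v ∉ EE z) (hc : IsConj z₀ v) :
    IsConj z₀ (v * z) := by
  obtain ⟨⟨x, -, e⟩, -⟩ := exists_move hz.L hv hvE (hz.sq hc) (hz.not_mem_CC hvE hc)
  exact hc.trans (isConj_iff.2 ⟨x, e⟩)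

theorem exists_move_EE (h : JType z P) {c : G} (hc : c ∈ EE z) (hcz : c ∉ zpowers z) :
    ∃ x ∈ EE z, x * c * x⁻¹ = c * z := by
  obtain ⟨x, hx, hne⟩ : ∃ x ∈ EE z, x * c ≠ c * x := by
    by_contra hno
    push Not at hno
    refine hcz ?_
    rw [← h.ctr.cent]
    exact mem_centralizer_iff.2 hno
  refine ⟨x, hx, ?_⟩
  rw [conj_eq h hx hc, cm, if_neg hne]
  exact congrArg (c * ·) (pow_one z)

theorem Good.mem_move (hz : Good z₀ z P) {c : G} (hc : c ∈ EE z) (hne : c ≠ z) (hcc : IsConj z₀ c) :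
    IsConj z₀ (c * z) := by
  have hcz : c ∉ zpowers z := fun h => by
    rcases hz.J.mem_zpowers h with rfl | rfl
    · obtain ⟨g, e⟩ := isConj_iff.1 (hcc.symm.trans hz.isConj)
      simp only [mul_one, mul_inv_cancel] at e
      exact hz.J.ctr.ne_one e.symm
    · exact hne rfl
  obtain ⟨x, -, e⟩ := exists_move_EE hz.J hc hcz
  exact hcc.trans (isConj_iff.2 ⟨x, e⟩)

theorem card_le_stab_mul {X : Type*} [Finite X] (K St : Subgroup G) (f : ↥K → X)
    (hst : ∀ a b : ↥K, f a = f b → (a : G)⁻¹ * b ∈ St) :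
    Nat.card ↥K ≤ Nat.card ↥St * Nat.card X := by
  classical
  rw [← Nat.card_prod]
  let r : X → ↥K := fun y => if h : ∃ k, f k = y then h.choose else 1
  have hr : ∀ k, f (r (f k)) = f k := fun k => by
    have h : ∃ k', f k' = f k := ⟨k, rfl⟩
    simp only [r, dif_pos h]; exact h.choose_spec
  refine Nat.card_le_card_of_injective (fun k => (⟨_, hst _ k (hr k)⟩, f k)) fun a b e => ?_
  obtain ⟨e1, e2⟩ := Prod.ext_iff.1 e
  dsimp only at e1 e2
  have e3 : ((r (f a) : ↥K) : G)⁻¹ * a = ((r (f b) : ↥K) : G)⁻¹ * b := congrArg Subtype.val e1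
  rw [e2] at e3
  exact Subtype.ext (mul_left_cancel e3)

/-- The asymmetric configuration is impossible. -/
theorem Good.z_mem (hz : Good z₀ z P) {b : G} (hbE : b ∈ EE z) (hc : IsConj z₀ b) : z ∈ EE b := by
  obtain ⟨g, rfl⟩ := isConj_iff.1 (hz.isConj.symm.trans hc)
  by_contra hzb
  set v := g⁻¹ * z * g with hv
  have hvH : v ∈ HH z := by
    have h1 := EE_le_HH z hbE
    rw [mem_HH] at h1 ⊢
    calc g⁻¹ * z * g * z = g⁻¹ * (z * (g * z * g⁻¹)) * g := by group
      _ = _ := by rw [← h1, hv]; group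
  have hvE : v ∉ EE z := fun h => hzb ((mem_EE_conj z g z).2 h)
  have hup := hz.cent_bound hvH hvE (hz.isConj.trans (isConj_iff.2 ⟨g⁻¹, by rw [inv_inv]⟩))
  have hlow := card_le_stab_mul (HH z) (HH z ⊓ centralizer ({g * z * g⁻¹} : Set G))
    (fun k => (⟨(k : G) * (g * z * g⁻¹) * (k : G)⁻¹, conj_mem_EE k.2 hbE⟩ : ↥(EE z))) fun a b e => by
      refine mem_inf.2 ⟨mul_mem (inv_mem a.2) b.2, mem_centralizer_singleton_iff.2 ?_⟩
      have e' := congrArg Subtype.val e
      dsimp only at e'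
      calc (a : G)⁻¹ * b * (g * z * g⁻¹) = (a : G)⁻¹ * (b * (g * z * g⁻¹) * (b : G)⁻¹) * b := by group
        _ = _ := by rw [← e']; group
  have heq : cjS g (HH z ⊓ centralizer ({v} : Set G)) = HH z ⊓ centralizer ({g * z * g⁻¹} : Set G) := by
    rw [cjS_inf, cjS_HH]
    show HH (g * z * g⁻¹) ⊓ cjS g (HH v) = HH z ⊓ HH (g * z * g⁻¹)
    rw [cjS_HH, show g * v * g⁻¹ = z by rw [hv]; group, inf_comm]
  rw [← heq, card_cjS, hz.L.cardH, hz.J.cardE] at hlow
  omega

/-- Products of two outer elements are inner. -/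
theorem outer_mul {Q : Subgroup G} {b x y : G} (L : Loc b Q) (hx : x ∈ HH b) (hy : y ∈ HH b)
    (hx0 : x ∉ H0 b Q) (hy0 : y ∉ H0 b Q) : x * y ∈ H0 b Q := by
  have hidx : ((H0 b Q).subgroupOf (HH b)).index = 2 := by
    have h1 := ((H0 b Q).subgroupOf (HH b)).card_mul_index
    rw [Nat.card_congr (subgroupOfEquivOfLe (H0_le_HH b Q)).toEquiv, L.cardH, L.cardH0] at h1
    omega
  have := (mul_mem_iff_of_index_two hidx (a := (⟨x, hx⟩ : ↥(HH b))) (b := ⟨y, hy⟩)).2
    (iff_of_false hx0 hy0)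
  exact this

/-- Some conjugate of `z` other than `z` lies in `E`. -/
theorem exists_mem_EE (hX : Ctx z₀) (hz : Good z₀ z P)
    (hex : ∃ v ∈ HH z, v ≠ z ∧ IsConj z₀ v) : ∃ b ∈ EE z, b ≠ z ∧ IsConj z₀ b := by
  by_contra hno
  push Not at hno
  obtain ⟨v, hvH, hvz, hvc⟩ := hex
  have hJ := hz.J
  have hvE : v ∉ EE z := fun h => hno v h hvz hvc
  obtain ⟨Q, hQ⟩ := hX v hvc
  have hvv := hz.sq hvc
  have hvi : v⁻¹ = v := inv_eq_of_mul_eq_one_right hvv
  have hnoK : ∀ v' ∈ EE v, v' ≠ v → ¬ IsConj z₀ v' := by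
    intro v' hv' hne hc'
    obtain ⟨g, rfl⟩ := isConj_iff.1 (hz.isConj.symm.trans hvc)
    refine hno (g⁻¹ * v' * g) ((mem_EE_conj z g v').1 hv') (fun e => hne ?_)
      (hc'.trans (isConj_iff.2 ⟨g⁻¹, by rw [inv_inv]⟩))
    calc v' = g * (g⁻¹ * v' * g) * g⁻¹ := by group
      _ = _ := by rw [e]
  -- the commutators with `v`
  let f : G → G := fun x => v * x * v⁻¹ * x⁻¹
  have hfE : ∀ x ∈ EE z, f x ∈ EE z ∧ vk z (f x) = nil z v (vk z x) := fun x hx => by
    refine ⟨mul_mem (conj_mem_EE hvH hx) (inv_mem hx), ?_⟩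
    rw [vk_mul (conj_mem_EE hvH hx) (inv_mem hx), vk_inv hJ hx, nil_apply, act_vk hvH hx]
  have hvfH : ∀ x ∈ EE z, f x * f x = 1 → f x ∈ HH v := fun x _ h2 => by
    have e1 : v * f x * v⁻¹ = (f x)⁻¹ := by
      calc v * f x * v⁻¹ = (v * v) * x * v⁻¹ * x⁻¹ * v⁻¹ := by simp only [f]; group
        _ = x * v * x⁻¹ * v⁻¹ := by rw [hvv, one_mul, hvi]
        _ = _ := by simp only [f]; group
    rw [inv_eq_of_mul_eq_one_right h2] at e1
    rw [mem_HH]
    exact (mul_inv_eq_iff_eq_mul.1 e1).symm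
  have hout : ∀ x ∈ EE z, f x * f x = 1 → nil z v (vk z x) ≠ 0 → f x ∉ H0 v Q := by
    intro x hx h2 hne hin
    have hconj : IsConj z₀ (v * f x) := by
      refine hvc.trans (isConj_iff.2 ⟨x, ?_⟩)
      calc x * v * x⁻¹ = (v * v) * x * v⁻¹ * x⁻¹ := by rw [hvv, one_mul, hvi]
        _ = v * f x := by simp only [f]; group
    have hfz : f x ≠ z ∧ f x ≠ 1 := by
      constructor <;> intro e <;> refine hne ?_ <;> rw [← (hfE x hx).2, e]
      exacts [vk_z hJ, vk_one]
    have hnE : v * f x ∉ EE v := fun h => hnoK _ h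
      (fun e => hfz.2 (mul_eq_left.1 e)) hconj
    have hv0 : v * f x ∈ H0 v Q := mul_mem (EE_le_H0 v Q hQ.J.ctr.z_mem) hin
    have := hQ.inner_move hv0 hnE hconj
    rw [mul_assoc, mem_HH.1 (hvfH x hx h2), ← mul_assoc, hvv, one_mul] at this
    exact hno (f x) (hfE x hx).1 hfz.1 this
  -- the elements with commutator an involution
  let Λ : VV z →+ ZMod 2 := AddMonoidHom.mk' (fun w => BB z w (act z v w)) fun a b => by
    have e : BB z b (act z v a) = BB z a (act z v b) := by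
      have hi : act z v⁻¹ b = act z v b := by rw [hvi]
      rw [BB_comm, BB_act_inv hJ hvH, hi]
    rw [map_add, BB_add_left hJ, BB_add_right hJ, BB_add_right hJ, e]
    generalize BB z a (act z v a) = s; generalize BB z a (act z v b) = t
    generalize BB z b (act z v b) = r
    revert s t r; decide
  let g : ↥Λ.ker →+ VV z := (nil z v).comp (AddSubgroup.subtype _)
  have hM : 8 ≤ Nat.card ↥g.range := by
    have h1 := card_ker_mul_range Λ
    rw [card_VV hJ] at h1
    have h2 : Nat.card ↥Λ.range ≤ 2 :=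
      (Nat.card_le_card_of_injective _ Subtype.val_injective).trans_eq (Nat.card_zmod 2)
    have h3 := card_ker_mul_range g
    have h4 : Nat.card ↥g.ker ≤ Nat.card ↥(nil z v).ker :=
      Nat.card_le_card_of_injective (fun a => ⟨a.1.1, a.2⟩)
        fun a b e => Subtype.ext (Subtype.ext (congrArg (fun t : ↥(nil z v).ker => (t : VV z)) e))
    have h5 : Nat.card ↥(nil z v).ker ≤ 2 ^ 8 := by
      by_cases hv0 : v ∈ H0 z P
      · exact (card_ker_inner hz.L hv0 hvE (hvv ▸ one_mem _)).le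
      · rw [card_ker_outer hz.L hvH hv0 (hvv ▸ one_mem _)]; norm_num
    nlinarith [h1, h2, h3, h4, h5, Nat.card_pos (α := ↥g.range), Nat.card_pos (α := ↥Λ.ker)]
  -- choose three independent values
  classical
  haveI : Fintype ↥g.range := Fintype.ofFinite _
  have hpick : ∀ S : Finset ↥g.range, S.card < 8 → ∃ m, m ∉ S := fun S hS => by
    by_contra hall
    push Not at hall
    have : S = Finset.univ := Finset.eq_univ_iff_forall.2 hall
    rw [Nat.card_eq_fintype_card] at hM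
    rw [this, Finset.card_univ] at hS
    omega
  obtain ⟨m₁, hm₁⟩ := hpick {0} (by simp)
  obtain ⟨m₂, hm₂⟩ := hpick {0, m₁} (Finset.card_le_two.trans_lt (by norm_num))
  obtain ⟨m₃, hm₃⟩ := hpick {0, m₁, m₂, m₁ + m₂} (Finset.card_le_four.trans_lt (by norm_num))
  simp only [Finset.mem_insert, Finset.mem_singleton, not_or] at hm₁ hm₂ hm₃
  have hpair : ∀ (a : ↥Λ.ker) (m : ↥g.range), g a ≠ 0 → (m : VV z) ≠ 0 → (m : VV z) ≠ g a →
      BB z a m = 1 := by
    rintro ⟨wa, hwa⟩ ⟨m, ⟨wb, hwb⟩, rfl⟩ ha0 hb0 hne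
    change nil z v wa ≠ 0 at ha0
    change nil z v wb ≠ 0 at hb0
    change nil z v wb ≠ nil z v wa at hne
    change BB z wa (nil z v wb) = 1
    have hab : wa + wb ∈ Λ.ker := add_mem hwa hwb
    have hsq : ∀ w ∈ Λ.ker, ∀ x ∈ EE z, vk z x = w → f x * f x = 1 := by
      intro w hw x hx e
      rw [← QQ_vk_eq_zero hJ (hfE x hx).1, (hfE x hx).2, e, nil_apply, QQ_add hJ, QQ_act hJ hvH,
        BB_comm, show BB z w (act z v w) = 0 from hw, add_zero]
      exact CharTwo.add_self_eq_zero _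
    obtain ⟨x, hx, rfl⟩ := vk_surj wa
    obtain ⟨y, hy, rfl⟩ := vk_surj wb
    have hxy0 : nil z v (vk z (x * y)) ≠ 0 := by
      rw [vk_mul hx hy, map_add]
      exact fun e => hne (VV.eq_of_add hJ e).symm
    have ox := hout x hx (hsq _ hwa x hx rfl) ha0
    have oy := hout y hy (hsq _ hwb y hy rfl) hb0
    have oxy := hout _ (mul_mem hx hy) (hsq _ hab _ (mul_mem hx hy) (vk_mul hx hy)) hxy0
    have hin := outer_mul hQ.L (hvfH x hx (hsq _ hwa x hx rfl)) (hvfH y hy (hsq _ hwb y hy rfl)) ox oy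
    rw [← (hfE y hy).2, BB_vk hJ hx (hfE y hy).1]
    have hexp : f (x * y) = f x * (x * f y * x⁻¹) := by simp only [f]; group
    rw [hexp, conj_eq hJ hx (hfE y hy).1, ← mul_assoc] at oxy
    by_contra h1
    have h0 : cm x (f y) = 0 := (show ∀ r : ZMod 2, r ≠ 1 → r = 0 by decide) _ h1
    rw [h0, ZMod.val_zero, pow_zero, mul_one] at oxy
    exact oxy hin
  obtain ⟨a, ha⟩ := m₁.2
  have hga : g a ≠ 0 := fun e => hm₁ (Subtype.ext (ha.symm.trans e))
  have e2 := hpair a m₂ hga (fun e => hm₂.1 (Subtype.ext e)) (fun e => hm₂.2 (Subtype.ext (e.trans ha)))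
  have e3 := hpair a m₃ hga (fun e => hm₃.1 (Subtype.ext e)) (fun e => hm₃.2.1 (Subtype.ext (e.trans ha)))
  have e23 := hpair a (m₂ + m₃) hga (fun e => hm₃.2.2.1 (Subtype.ext (VV.eq_of_add hJ e).symm))
    (fun e => hm₃.2.2.2 (Subtype.ext (by
      rw [AddSubgroup.coe_add]
      refine VV.eq_of_add hJ ?_
      have e' : (m₂ : VV z) + m₃ = m₁ := e.trans ha
      calc (m₃ : VV z) + (m₁ + m₂) = (m₂ + m₃) + m₁ := by abel
        _ = 0 := by rw [e', VV.two hJ])))
  rw [AddSubgroup.coe_add, BB_add_right hJ, e2, e3] at e23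
  exact absurd e23 (by decide)

/-- The intersection of the two cores. -/
abbrev II (z b : G) : Subgroup G := EE z ⊓ EE b

theorem II_elementary {b : G} {Q : Subgroup G} (h : JType z P) (hb : JType b Q) (hne : b ≠ z) {x y : G}
    (hx : x ∈ II z b) (hy : y ∈ II z b) : x * x = 1 ∧ x * y = y * x := by
  constructor
  · rcases h.ctr.sq_cases hx.1 with e | e
    · exact e
    · rcases hb.ctr.sq_cases hx.2 with e' | e'
      · exact e'
      · exact absurd (e'.symm.trans e) hne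
  · rw [← commutatorElement_eq_one_iff_mul_comm]
    rcases h.ctr.comm_cases hx.1 hy.1 with e | e
    · exact e
    · rcases hb.ctr.comm_cases hx.2 hy.2 with e' | e'
      · exact e'
      · exact absurd (e'.symm.trans e) hne

theorem imgV_cent (h : JType z P) {b : G} (hb : b ∈ EE z) :
    imgV z (CE z b) = perp h (AddSubgroup.zmultiples (vk z b)) := by
  ext w
  constructor
  · rintro ⟨x, hx, hxE, rfl⟩ t ht
    obtain ⟨k, rfl⟩ := AddSubgroup.mem_zmultiples_iff.1 ht
    have h0 : BB z (vk z x) (vk z b) = 0 := by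
      rw [BB_vk h hxE hb, cm_eq_zero]; exact mem_centralizer_singleton_iff.1 hx.2
    let φ : VV z →+ ZMod 2 := AddMonoidHom.mk' (BB z (vk z x)) (BB_add_right h _)
    show φ (k • vk z b) = 0
    rw [map_zsmul, show φ (vk z b) = 0 from h0, smul_zero]
  · intro hw
    obtain ⟨x, hx, rfl⟩ := vk_surj w
    have h0 := hw _ (AddSubgroup.mem_zmultiples _)
    rw [BB_vk h hx hb, cm_eq_zero] at h0
    exact ⟨x, ⟨hx, mem_centralizer_singleton_iff.2 h0⟩, hx, rfl⟩

theorem card_CE (h : JType z P) {b : G} (hb : b ∈ EE z) (hbz : b ∉ zpowers z) :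
    Nat.card ↥(CE z b) = 2 ^ 12 := by
  have hne : vk z b ≠ 0 := fun e => hbz ((vk_eq_zero_iff h hb).1 e)
  have h2 : Nat.card ↥(AddSubgroup.zmultiples (vk z b)) = 2 := by
    rw [Nat.card_zmultiples]
    haveI : Fact (Nat.Prime 2) := ⟨Nat.prime_two⟩
    exact addOrderOf_eq_prime (by rw [two_nsmul]; exact VV.two h _) hne
  have h1 := card_mul_card_perp h (AddSubgroup.zmultiples (vk z b))
  rw [h2] at h1
  rw [card_two_mul h inf_le_left ⟨h.ctr.z_mem, mem_centralizer_singleton_iff.2 (h.ctr.comm hb).symm⟩,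
    imgV_cent h hb, h1]

theorem Good.not_mem_zpowers (hz : Good z₀ z P) {b : G} (hne : b ≠ z) (hc : IsConj z₀ b) :
    b ∉ zpowers z := fun h => by
  rcases hz.J.mem_zpowers h with rfl | rfl
  · obtain ⟨g, e⟩ := isConj_iff.1 (hc.symm.trans hz.isConj)
    simp only [mul_one, mul_inv_cancel] at e
    exact hz.J.ctr.ne_one e.symm
  · exact hne rfl

theorem card_II_le {b : G} {Q : Subgroup G} (h : JType z P) (hb : JType b Q) (hne : b ≠ z) :
    Nat.card ↥(II z b) ≤ 2 ^ 7 := by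
  have hiso : Nat.card ↥(imgV z (II z b)) ≤ 2 ^ 6 := card_isotropic h (by
    rintro _ ⟨x, hx, hxE, rfl⟩ _ ⟨y, hy, hyE, rfl⟩
    rw [BB_vk h hxE hyE, cm_eq_zero]
    exact (II_elementary h hb hne hx hy).2)
  exact (card_le_two_mul h inf_le_left).trans ((Nat.mul_le_mul_left 2 hiso).trans (by norm_num))

/-- `E ∩ E_b` is maximal elementary abelian and `C_E(b)` has an outer element for `b`. -/
theorem pair_structure (hz : Good z₀ z P) {b : G} {Q : Subgroup G} (hb : Good z₀ b Q) (hbE : b ∈ EE z)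
    (hne : b ≠ z) :
    Nat.card ↥(II z b) = 2 ^ 7 ∧ ∃ c ∈ CE z b, c ∉ H0 b Q := by
  have hJ := hz.J
  have hzb := hz.z_mem hbE hb.isConj
  set S := CE z b
  have hS : Nat.card ↥S = 2 ^ 12 := card_CE hJ hbE (hz.not_mem_zpowers hne hb.isConj)
  have hSH : S ≤ HH b := inf_le_right
  set S' := S ⊓ H0 b Q
  have hzpow : ∀ {t : G}, t ∈ zpowers z → t ∈ EE b := fun ht => zpowers_le.2 hzb ht
  have hA : Nat.card ↥(S' ⊔ EE b : Subgroup G) ≤ 2 ^ 13 * 16 := by
    refine hb.L.elem_le _ le_sup_right (sup_le inf_le_right (EE_le_H0 b Q)) fun a ha => ?_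
    have hn : S' ≤ normalizer (EE b : Set G) := fun c hc => by
      rw [mem_normalizer_iff]
      exact fun x => ⟨conj_mem_EE (hSH hc.1), fun hx => by simpa [mul_assoc] using conj_mem_EE' (hSH hc.1) hx⟩
    rw [sup_comm] at ha
    obtain ⟨e, he, s, hs, rfl⟩ := (Coprime.mem_sup_of_le_normalizer hn).1 ha
    have e1 : e * s * (e * s) = e * (s * e * s⁻¹) * (s * s) := by group
    rw [e1]
    refine mul_mem (mul_mem he (conj_mem_EE (hSH hs.1) he)) (hzpow ?_)
    rcases hJ.ctr.sq_cases hs.1.1 with e2 | e2 <;> rw [e2]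
    exacts [one_mem _, mem_zpowers z]
  have hrel : (EE b).relIndex S' ≤ 16 := by
    have h3 : Nat.card ↥(EE b) * (EE b).relIndex (S' ⊔ EE b) = Nat.card ↥(S' ⊔ EE b : Subgroup G) := by
      rw [← relIndex_bot_left (EE b), ← relIndex_bot_left (S' ⊔ EE b),
        relIndex_mul_relIndex _ _ _ bot_le le_sup_right]
    rw [← h3, hb.J.cardE] at hA
    exact (relIndex_le_of_le_right le_sup_left index_ne_zero_of_finite).trans
      (Nat.le_of_mul_le_mul_left hA (by norm_num))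
  have hI : Nat.card ↥(EE b ⊓ S' : Subgroup G) ≤ Nat.card ↥(II z b) :=
    Subgroup.card_le_of_le fun x hx =>
      mem_inf.2 ⟨(mem_inf.1 (mem_inf.1 hx).2).1.1, (mem_inf.1 hx).1⟩
  have h1 : Nat.card ↥(EE b ⊓ S' : Subgroup G) * (EE b).relIndex S' = Nat.card ↥S' := by
    rw [← relIndex_bot_left (EE b ⊓ S'), ← relIndex_bot_left S', ← inf_relIndex_right (EE b) S',
      relIndex_mul_relIndex _ _ _ bot_le inf_le_right]
  have h2 : Nat.card ↥S' * (H0 b Q).relIndex S = Nat.card ↥S := by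
    rw [← relIndex_bot_left S', ← relIndex_bot_left S, ← inf_relIndex_left S (H0 b Q),
      relIndex_mul_relIndex _ _ _ bot_le inf_le_left]
  have hrel0 : (H0 b Q).relIndex S ≤ 2 := by
    refine (relIndex_le_of_le_right hSH index_ne_zero_of_finite).trans ?_
    have h4 : Nat.card ↥(H0 b Q) * (H0 b Q).relIndex (HH b) = Nat.card ↥(HH b) := by
      rw [← relIndex_bot_left (H0 b Q), ← relIndex_bot_left (HH b),
        relIndex_mul_relIndex _ _ _ bot_le (H0_le_HH b Q)]
    rw [hb.L.cardH, hb.L.cardH0] at h4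
    omega
  rw [hS] at h2
  have hII := card_II_le hJ hb.J hne
  have hS'2 : 2 ^ 11 ≤ Nat.card ↥S' := by nlinarith
  have hII' : Nat.card ↥(II z b) = 2 ^ 7 := by nlinarith
  refine ⟨hII', ?_⟩
  by_contra hno
  push Not at hno
  have heq : S' = S := inf_eq_left.2 hno
  rw [heq, hS] at h1
  rw [heq] at hI hrel
  have h5 := Nat.mul_le_mul (hI.trans hII) hrel
  rw [h1] at h5
  norm_num at h5

end Cfsg.Agent.J4Local
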