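import Mathlib
import Cfsg.Agent.Lib.J4Local.Orth

/-!
The line through a vector of `E / ⟨z⟩` and its image under the element of order 3.
-/

set_option autoImplicit false
set_option linter.style.haveILetI false
set_option linter.unusedSectionVars false

namespace Cfsg.Agent.J4Local

open Subgroup

variable {G : Type*} [Group G] [Finite G] {z : G} {P : Subgroup G}

/-- The line through `w`. -/
noncomputable def line (z p : G) (w : VV z) : AddSubgroup (VV z) :=
  AddSubgroup.zmultiples w ⊔ AddSubgroup.zmultiples (act z p w)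

theorem self_mem_line (z p : G) (w : VV z) : w ∈ line z p w :=
  AddSubgroup.mem_sup_left (AddSubgroup.mem_zmultiples w)

theorem act_self_mem_line (z p : G) (w : VV z) : act z p w ∈ line z p w :=
  AddSubgroup.mem_sup_right (AddSubgroup.mem_zmultiples _)

theorem zmultiples_cases (h : JType z P) {w x : VV z} (hx : x ∈ AddSubgroup.zmultiples w) : x = 0 ∨ x = w := by
  obtain ⟨k, rfl⟩ := AddSubgroup.mem_zmultiples_iff.1 hx
  obtain ⟨m, rfl⟩ | ⟨m, rfl⟩ := Int.even_or_odd k
  · left; rw [add_zsmul, VV.two h]
  · right; rw [add_zsmul, one_zsmul, two_mul, add_zsmul, VV.two h, zero_add]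

theorem mem_line (h : JType z P) {p : G} {w x : VV z} :
    x ∈ line z p w ↔ x = 0 ∨ x = w ∨ x = act z p w ∨ x = w + act z p w := by
  constructor
  · intro hx
    obtain ⟨a, ha, b, hb, rfl⟩ := AddSubgroup.mem_sup.1 hx
    rcases zmultiples_cases h ha with rfl | rfl <;> rcases zmultiples_cases h hb with rfl | rfl <;> simp
  · rintro (rfl | rfl | rfl | rfl)
    exacts [zero_mem _, self_mem_line _ _ _, act_self_mem_line _ _ _,
      add_mem (self_mem_line _ _ _) (act_self_mem_line _ _ _)]

theorem act_mem_line (h : JType z P) {p : G} (hp : p ∈ P) (hp1 : p ≠ 1) {w x : VV z}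
    (hx : x ∈ line z p w) : act z p x ∈ line z p w := by
  rcases (mem_line h).1 hx with rfl | rfl | rfl | rfl
  · rw [map_zero]; exact zero_mem _
  · exact act_self_mem_line _ _ _
  · rw [act_act h hp hp1]
    exact add_mem (self_mem_line _ _ _) (act_self_mem_line _ _ _)
  · rw [map_add, act_act h hp hp1, add_comm w, ← add_assoc, VV.two h, zero_add]
    exact self_mem_line _ _ _

theorem line_le (p : G) {w : VV z} {S : AddSubgroup (VV z)} (h1 : w ∈ S) (h2 : act z p w ∈ S) :
    line z p w ≤ S :=
  sup_le (AddSubgroup.zmultiples_le_of_mem h1) (AddSubgroup.zmultiples_le_of_mem h2)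

theorem card_line (h : JType z P) {p : G} (hp : p ∈ P) (hp1 : p ≠ 1) {w : VV z} (hw : w ≠ 0) :
    Nat.card ↥(line z p w) = 4 := by
  classical
  have hne : act z p w ≠ w := fun e => hw (act_fpf h hp hp1 e)
  have hp0 : act z p w ≠ 0 := fun e => hw (act_injective (h.P_le_HH hp) (e.trans (map_zero _).symm))
  have hs : (line z p w : Set (VV z)) = ({0, w, act z p w, w + act z p w} : Finset (VV z)) := by
    ext x
    simp only [Finset.coe_insert, Finset.coe_singleton, Set.mem_insert_iff, Set.mem_singleton_iff,
      SetLike.mem_coe]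
    exact mem_line h
  have h3 : w + act z p w ≠ 0 := fun e => hne (VV.eq_of_add h e).symm
  have hc : Nat.card ↥((line z p w : Set (VV z))) = 4 := by
    rw [Nat.card_coe_set_eq, hs, Set.ncard_coe_finset]
    rw [Finset.card_insert_of_notMem, Finset.card_insert_of_notMem, Finset.card_insert_of_notMem,
      Finset.card_singleton]
    · simp only [Finset.mem_singleton]; intro e; exact hw (left_eq_add.1 (e.trans (add_comm _ _)))
    · simp only [Finset.mem_insert, Finset.mem_singleton, not_or]
      exact ⟨hne.symm, fun e => hp0 (left_eq_add.1 e)⟩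
    · simp only [Finset.mem_insert, Finset.mem_singleton, not_or]
      exact ⟨hw.symm, hp0.symm, h3.symm⟩
  exact hc

theorem BB_line_eq_zero (h : JType z P) {p : G} {w x : VV z}
    (h1 : BB z x w = 0) (h2 : BB z x (act z p w) = 0) {y : VV z} (hy : y ∈ line z p w) : BB z x y = 0 := by
  rcases (mem_line h).1 hy with rfl | rfl | rfl | rfl
  · exact BB_zero_right h x
  · exact h1
  · exact h2
  · rw [BB_add_right h, h1, h2, add_zero]

theorem mem_perp_line (h : JType z P) {p : G} {w x : VV z} :
    x ∈ perp h (line z p w) ↔ BB z x w = 0 ∧ BB z x (act z p w) = 0 :=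
  ⟨fun hx => ⟨hx _ (self_mem_line _ _ _), hx _ (act_self_mem_line _ _ _)⟩,
    fun hx _ hy => BB_line_eq_zero h hx.1 hx.2 hy⟩

theorem card_perp_line (h : JType z P) {p : G} (hp : p ∈ P) (hp1 : p ≠ 1) {w : VV z} (hw : w ≠ 0) :
    Nat.card ↥(perp h (line z p w)) = 2 ^ 10 := by
  have h1 := card_mul_card_perp h (line z p w)
  rw [card_line h hp hp1 hw] at h1
  omega

theorem act_mem_perp_line (h : JType z P) {p : G} (hp : p ∈ P) (hp1 : p ≠ 1) {w x : VV z}
    (hx : x ∈ perp h (line z p w)) : act z p x ∈ perp h (line z p w) := by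
  intro y hy
  rw [BB_act_inv h (h.P_le_HH hp)]
  refine hx _ ?_
  have hH := h.P_le_HH hp
  have e : act z p⁻¹ y = act z p (act z p y) := by
    refine act_injective hH ?_
    rw [act_act_inv hH, ← act_mul hH hH, ← act_mul (mul_mem hH hH) hH, ← pow_two, ← pow_succ,
      pow_three_eq_one h hp, act_one]
  rw [e]
  exact act_mem_line h hp hp1 (act_mem_line h hp hp1 hy)

end Cfsg.Agent.J4Local
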