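import Mathlib
import Cfsg.Agent.Lib.J4Local.Pair
import Cfsg.Agent.Lib.J4Local.Line

/-!
The plane of a conjugate `b ∈ E` of `z`: the image of `E ∩ E_b` and its relation with the line of `b`.
-/

set_option autoImplicit false
set_option linter.style.haveILetI false
set_option linter.unusedSectionVars false
set_option linter.unusedVariables false

namespace Cfsg.Agent.J4Local

open Subgroup

variable {G : Type*} [Group G] [Finite G] {z₀ z : G} {P : Subgroup G}

/-- A conjugate of `z₀` in `E` other than `z`. -/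
structure InK (z₀ z b : G) : Prop where
  mem : b ∈ EE z
  conj : IsConj z₀ b
  ne : b ≠ z

theorem InK.vk_ne (hz : Good z₀ z P) {b : G} (hb : InK z₀ z b) : vk z b ≠ 0 := fun e =>
  hz.not_mem_zpowers hb.ne hb.conj ((vk_eq_zero_iff hz.J hb.mem).1 e)

theorem InK.sq (hz : Good z₀ z P) {b : G} (hb : InK z₀ z b) : QQ z (vk z b) = 0 :=
  (QQ_vk_eq_zero hz.J hb.mem).2 (hz.sq hb.conj)

theorem InK.conj_mem (hz : Good z₀ z P) {b h : G} (hb : InK z₀ z b) (hh : h ∈ HH z) :
    InK z₀ z (h * b * h⁻¹) :=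
  ⟨conj_mem_EE hh hb.mem, hb.conj.trans (isConj_iff.2 ⟨h, rfl⟩), fun e => hb.ne (by
    have e2 : h * z * h⁻¹ = z := by rw [mem_HH.1 hh, mul_inv_cancel_right]
    exact mul_left_cancel (mul_right_cancel (e.trans e2.symm)))⟩

theorem InK.comm_conj (hz : Good z₀ z P) {p b : G} (hp : p ∈ P) (hp1 : p ≠ 1) (hb : InK z₀ z b) :
    b * (p * b * p⁻¹) = p * b * p⁻¹ * b := by
  have hH := hz.J.P_le_HH hp
  rw [← cm_eq_zero, ← BB_vk hz.J hb.mem (conj_mem_EE hH hb.mem), ← act_vk hH hb.mem,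
    BB_act_self hz.J hp hp1, hb.sq hz]

/-- The conjugate of `b` under `P` lies in the core at `b`. -/
theorem conj_mem_core (hz : Good z₀ z P) {b : G} {Q : Subgroup G} (hgb : Good z₀ b Q) (hb : InK z₀ z b)
    {p : G} (hp : p ∈ P) (hp1 : p ≠ 1) : p * b * p⁻¹ ∈ EE b := by
  classical
  by_contra hno
  have hJ := hz.J
  have hH := hJ.P_le_HH hp
  set a := p * b * p⁻¹ with ha
  have haK : InK z₀ z a := hb.conj_mem hz hH
  have hab : a ∈ HH b := mem_HH.2 (hb.comm_conj hz hp hp1).symm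
  have hup := hgb.cent_bound hab hno haK.conj
  let f : ↥(H0 z P) → {w : VV z // w ≠ 0} × Bool × Bool := fun k =>
    (⟨vk z ((k : G) * b * (k : G)⁻¹), (hb.conj_mem hz (H0_le_HH z P k.2)).vk_ne hz⟩,
      decide ((k : G) * b * (k : G)⁻¹ = rep z (vk z ((k : G) * b * (k : G)⁻¹))),
      decide ((k : G) * a * (k : G)⁻¹ = rep z (vk z ((k : G) * a * (k : G)⁻¹))))
  have hbit : ∀ x ∈ EE z, ∀ y ∈ EE z, vk z x = vk z y →
      decide (x = rep z (vk z x)) = decide (y = rep z (vk z y)) → x = y := by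
    intro x hx y hy e d
    rw [← e, decide_eq_decide] at d
    rcases (vk_eq_vk_iff hJ hx (rep_mem (vk z x))).1 (vk_rep _).symm with ex | ex
    · exact ex.trans (d.1 ex).symm
    · rcases (vk_eq_vk_iff hJ hy (rep_mem (vk z x))).1 ((vk_rep _).trans e).symm with ey | ey
      · exact (d.2 ey).trans ey.symm
      · exact ex.trans ey.symm
  have hlow := card_le_stab_mul (H0 z P) (HH b ⊓ centralizer ({a} : Set G)) f fun k l e => by
    simp only [f, Prod.mk.injEq, Subtype.mk.injEq] at e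
    obtain ⟨e1, e2, e3⟩ := e
    have hk := H0_le_HH z P k.2
    have hl := H0_le_HH z P l.2
    have eb := hbit _ (conj_mem_EE hk hb.mem) _ (conj_mem_EE hl hb.mem) e1 e2
    have hav : vk z ((k : G) * a * (k : G)⁻¹) = vk z ((l : G) * a * (l : G)⁻¹) := by
      rw [← act_vk hk haK.mem, ← act_vk hl haK.mem, ha, ← act_vk hH hb.mem,
        act_inner hJ k.2 hp, act_inner hJ l.2 hp, act_vk hk hb.mem, act_vk hl hb.mem, e1]
    have ea := hbit _ (conj_mem_EE hk haK.mem) _ (conj_mem_EE hl haK.mem) hav e3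
    refine mem_inf.2 ⟨mem_centralizer_singleton_iff.2 ?_, mem_centralizer_singleton_iff.2 ?_⟩
    · calc (k : G)⁻¹ * l * b = (k : G)⁻¹ * (l * b * (l : G)⁻¹) * l := by group
        _ = _ := by rw [← eb]; group
    · calc (k : G)⁻¹ * l * a = (k : G)⁻¹ * (l * a * (l : G)⁻¹) * l := by group
        _ = _ := by rw [← ea]; group
  have hc : Nat.card {w : VV z // w ≠ 0} = 4095 := by
    haveI : Fintype (VV z) := Fintype.ofFinite _
    rw [Nat.card_eq_fintype_card, Fintype.card_subtype_compl, Fintype.card_subtype_eq,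
      ← Nat.card_eq_fintype_card, card_VV hJ]
    norm_num
  simp only [Nat.card_prod, hc, Nat.card_eq_fintype_card (α := Bool), Fintype.card_bool,
    hz.L.cardH0] at hlow
  omega

/-- The plane of `b`. -/
def PI (z b : G) : AddSubgroup (VV z) := imgV z (II z b)

theorem z_mem_II (hz : Good z₀ z P) {b : G} (hb : InK z₀ z b) : z ∈ II z b :=
  ⟨hz.J.ctr.z_mem, hz.z_mem hb.mem hb.conj⟩

theorem card_PI (hz : Good z₀ z P) {b : G} {Q : Subgroup G} (hgb : Good z₀ b Q) (hb : InK z₀ z b) :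
    Nat.card ↥(PI z b) = 2 ^ 6 := by
  have h1 := card_two_mul hz.J (inf_le_left : II z b ≤ EE z) (z_mem_II hz hb)
  rw [(pair_structure hz hgb hb.mem hb.ne).1] at h1
  exact Nat.eq_of_mul_eq_mul_left two_pos (h1.symm.trans (by norm_num))

theorem PI_isotropic (hz : Good z₀ z P) {b : G} {Q : Subgroup G} (hgb : Good z₀ b Q) (hb : InK z₀ z b)
    {x y : VV z} (hx : x ∈ PI z b) (hy : y ∈ PI z b) : BB z x y = 0 := by
  obtain ⟨x, hx, hxE, rfl⟩ := hx
  obtain ⟨y, hy, hyE, rfl⟩ := hy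
  rw [BB_vk hz.J hxE hyE, cm_eq_zero]
  exact (II_elementary hz.J hgb.J hb.ne hx hy).2

theorem PI_singular (hz : Good z₀ z P) {b : G} {Q : Subgroup G} (hgb : Good z₀ b Q) (hb : InK z₀ z b)
    {x : VV z} (hx : x ∈ PI z b) : QQ z x = 0 := by
  obtain ⟨x, hx, hxE, rfl⟩ := hx
  rw [QQ_vk_eq_zero hz.J hxE]
  exact (II_elementary hz.J hgb.J hb.ne hx hx).1

theorem perp_PI (hz : Good z₀ z P) {b : G} {Q : Subgroup G} (hgb : Good z₀ b Q) (hb : InK z₀ z b) :
    perp hz.J (PI z b) = PI z b := by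
  refine (AddSubgroup.eq_of_le_of_card_ge
    (show PI z b ≤ perp hz.J (PI z b) from fun x hx y hy => PI_isotropic hz hgb hb hx hy) ?_).symm
  have h1 := card_mul_card_perp hz.J (PI z b)
  rw [card_PI hz hgb hb] at h1 ⊢
  omega

theorem vk_mem_PI (hz : Good z₀ z P) {b : G} {Q : Subgroup G} (hgb : Good z₀ b Q) (hb : InK z₀ z b) :
    vk z b ∈ PI z b := vk_mem_imgV ⟨hb.mem, hgb.J.ctr.z_mem⟩ hb.mem

theorem line_le_PI (hz : Good z₀ z P) {b : G} {Q : Subgroup G} (hgb : Good z₀ b Q) (hb : InK z₀ z b)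
    {p : G} (hp : p ∈ P) (hp1 : p ≠ 1) : line z p (vk z b) ≤ PI z b := by
  refine line_le p (vk_mem_PI hz hgb hb) ?_
  rw [act_vk (hz.J.P_le_HH hp) hb.mem]
  exact vk_mem_imgV ⟨(hb.conj_mem hz (hz.J.P_le_HH hp)).mem, conj_mem_core hz hgb hb hp hp1⟩
    (hb.conj_mem hz (hz.J.P_le_HH hp)).mem

/-- Elements of `E_b ∩ H` move the plane only into `⟨b⟩`. -/
theorem act_PI (hz : Good z₀ z P) {b : G} {Q : Subgroup G} (hgb : Good z₀ b Q) (hb : InK z₀ z b)
    {s : G} (hs : s ∈ EE b) (hsH : s ∈ HH z) {x : VV z} (hx : x ∈ PI z b) :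
    act z s x = x ∨ act z s x = x + vk z b := by
  obtain ⟨x, hx, hxE, rfl⟩ := hx
  rw [act_vk hsH hxE]
  rcases LargeExtra.Ctr.comm_cases hgb.J.ctr hs hx.2 with e | e
  · left
    rw [commutatorElement_def, mul_inv_eq_one] at e
    rw [e]
  · right
    rw [commutatorElement_def, mul_inv_eq_iff_eq_mul] at e
    rw [e, vk_mul hb.mem hxE, add_comm]

/-- A vector of the plane whose rotation is in the plane lies on the line of `b`. -/
theorem mem_line_of_PI (hz : Good z₀ z P) {b : G} {Q : Subgroup G} (hgb : Good z₀ b Q) (hb : InK z₀ z b)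
    {p : G} (hp : p ∈ P) (hp1 : p ≠ 1) {x : VV z} (hx : x ∈ PI z b) (hpx : act z p x ∈ PI z b) :
    x ∈ line z p (vk z b) := by
  have hzb := hz.z_mem hb.mem hb.conj
  have hzne : z ≠ b := fun e => hb.ne e.symm
  obtain ⟨s, hs, hs0⟩ := (pair_structure hgb hz hzb hzne).2
  have hsH : s ∈ HH z := (mem_inf.1 hs).2
  have key := act_outer hz.L hsH hs0 hp x
  set w := vk z b
  have hT := self_mem_line z p w
  have hT' := act_self_mem_line z p w
  have h0 : act z p (act z p x) + act z p x = x := by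
    rw [act_act hz.J hp hp1, add_assoc, VV.two hz.J, add_zero]
  rcases act_PI hz hgb hb (mem_inf.1 hs).1 hsH hx with e1 | e1 <;>
    rcases act_PI hz hgb hb (mem_inf.1 hs).1 hsH hpx with e2 | e2 <;> rw [e1, e2] at key
  · rw [← key, VV.two hz.J] at h0; rw [← h0]; exact zero_mem _
  · rw [← key, add_right_comm, VV.two hz.J, zero_add] at h0; rw [← h0]; exact hT
  · rw [map_add, map_add] at key
    have h1 : act z p (act z p x) + act z p x = act z p (act z p w) := by
      refine VV.eq_of_add hz.J ?_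
      calc act z p (act z p x) + act z p x + act z p (act z p w)
          = (act z p (act z p x) + act z p (act z p w)) + act z p x := by abel
        _ = 0 := by rw [← key, VV.two hz.J]
    rw [← h0, h1]
    exact act_mem_line hz.J hp hp1 hT'
  · rw [map_add, map_add] at key
    have h1 : act z p (act z p x) + act z p x = act z p (act z p w) + w := by
      refine VV.eq_of_add hz.J ?_
      calc act z p (act z p x) + act z p x + (act z p (act z p w) + w)
          = (act z p (act z p x) + act z p (act z p w)) + (act z p x + w) := by abel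
        _ = 0 := by rw [← key, VV.two hz.J]
    rw [← h0, h1]
    exact add_mem (act_mem_line hz.J hp hp1 hT') hT

theorem mem_line_of_PI' (hz : Good z₀ z P) {b : G} {Q : Subgroup G} (hgb : Good z₀ b Q) (hb : InK z₀ z b)
    {p : G} (hp : p ∈ P) (hp1 : p ≠ 1) {x y : VV z} (hx : x ∈ PI z b) (hy : y ∈ PI z b)
    (e : x = act z p y) : y ∈ line z p (vk z b) :=
  mem_line_of_PI hz hgb hb hp hp1 hy (e ▸ hx)

/-- The orthogonal of the line of `b` is the sum of the plane and its rotation. -/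
theorem mem_perp_line_iff (hz : Good z₀ z P) {b : G} {Q : Subgroup G} (hgb : Good z₀ b Q) (hb : InK z₀ z b)
    {p : G} (hp : p ∈ P) (hp1 : p ≠ 1) {x : VV z} :
    x ∈ perp hz.J (line z p (vk z b)) ↔ ∃ u ∈ PI z b, ∃ v ∈ PI z b, x = u + act z p v := by
  have hJ := hz.J
  set T := line z p (vk z b)
  let S : ↥(PI z b) × ↥(PI z b) →+ VV z := AddMonoidHom.mk'
    (fun w => (w.1 : VV z) + act z p w.2) fun a c => by
      simp only [Prod.fst_add, Prod.snd_add, AddSubgroup.coe_add, map_add]; abel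
  have hle : S.range ≤ perp hJ T := by
    rintro _ ⟨⟨u, v⟩, rfl⟩
    refine add_mem (fun t ht => PI_isotropic hz hgb hb u.2 (line_le_PI hz hgb hb hp hp1 ht))
      (act_mem_perp_line hJ hp hp1 fun t ht => PI_isotropic hz hgb hb v.2 (line_le_PI hz hgb hb hp hp1 ht))
  have hker : Nat.card ↥S.ker ≤ Nat.card ↥T := by
    refine Nat.card_le_card_of_injective (fun w => ⟨(w.1.2 : VV z), ?_⟩) ?_
    · have e : (w.1.1 : VV z) + act z p w.1.2 = 0 := w.2
      exact mem_line_of_PI' hz hgb hb hp hp1 w.1.1.2 w.1.2.2 (VV.eq_of_add hJ e)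
    · intro a c e
      have e' : (a.1.2 : VV z) = c.1.2 := congrArg (fun t : ↥T => (t : VV z)) e
      have ea : (a.1.1 : VV z) + act z p a.1.2 = 0 := a.2
      have ec : (c.1.1 : VV z) + act z p c.1.2 = 0 := c.2
      exact Subtype.ext (Prod.ext
        (Subtype.ext ((VV.eq_of_add hJ ea).trans (by rw [e']; exact (VV.eq_of_add hJ ec).symm)))
        (Subtype.ext e'))
  have hbig : 2 ^ 10 ≤ Nat.card ↥S.range := by
    have h1 := card_ker_mul_range S
    rw [Nat.card_prod, card_PI hz hgb hb] at h1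
    rw [card_line hJ hp hp1 (hb.vk_ne hz)] at hker
    nlinarith [Nat.card_pos (α := ↥S.range)]
  have heq : S.range = perp hJ T :=
    AddSubgroup.eq_of_le_of_card_ge hle (by rw [card_perp_line hJ hp hp1 (hb.vk_ne hz)]; exact hbig)
  rw [← heq]
  constructor
  · rintro ⟨⟨u, v⟩, rfl⟩; exact ⟨u, u.2, v, v.2, rfl⟩
  · rintro ⟨u, hu, v, hv, rfl⟩; exact ⟨(⟨u, hu⟩, ⟨v, hv⟩), rfl⟩

/-- An inner element of `E_b ∩ H` moves the orthogonal of the line into the line. -/
theorem nil_perp_line (hz : Good z₀ z P) {b : G} {Q : Subgroup G} (hgb : Good z₀ b Q) (hb : InK z₀ z b)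
    {p : G} (hp : p ∈ P) (hp1 : p ≠ 1) {d : G} (hd : d ∈ EE b) (hd0 : d ∈ H0 z P) {x : VV z}
    (hx : x ∈ perp hz.J (line z p (vk z b))) : nil z d x ∈ line z p (vk z b) := by
  have hJ := hz.J
  have hsmall : ∀ u ∈ PI z b, nil z d u ∈ line z p (vk z b) := fun u hu => by
    rcases act_PI hz hgb hb hd (H0_le_HH z P hd0) hu with e | e <;> rw [nil_apply, e]
    · rw [VV.two hJ]; exact zero_mem _
    · rw [add_right_comm, VV.two hJ, zero_add]; exact self_mem_line _ _ _
  obtain ⟨u, hu, v, hv, rfl⟩ := (mem_perp_line_iff hz hgb hb hp hp1).1 hx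
  rw [map_add, nil_comm hJ hd0 hp]
  exact add_mem (hsmall u hu) (act_mem_line hJ hp hp1 (hsmall v hv))

/-- Elements of `E` commuting with `b` and its conjugate are inner at `b`. -/
theorem inner_of_comm (hz : Good z₀ z P) {b : G} {Q : Subgroup G} (hgb : Good z₀ b Q) (hb : InK z₀ z b)
    {p : G} (hp : p ∈ P) (hp1 : p ≠ 1) {c : G} (hc : c ∈ EE z) (h1 : c * b = b * c)
    (h2 : c * (p * b * p⁻¹) = p * b * p⁻¹ * c) : c ∈ H0 b Q := by
  by_contra hc0
  have hJ := hz.J
  have hzb := hz.z_mem hb.mem hb.conj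
  have hH := hJ.P_le_HH hp
  have hcb : c ∈ HH b := mem_HH.2 h1
  have hc2 : c * c ∈ EE b := by
    rcases hJ.ctr.sq_cases hc with e | e <;> rw [e]
    exacts [one_mem _, hzb]
  have hrange := card_range_outer hgb.L hcb hc0 hc2
  set T := line z p (vk z b)
  have hcT : vk z c ∈ perp hJ T := by
    rw [mem_perp_line, act_vk hH hb.mem, BB_vk hJ hc hb.mem, BB_vk hJ hc (conj_mem_EE hH hb.mem),
      cm_eq_zero, cm_eq_zero]
    exact ⟨h1, h2⟩
  set D := EE b ⊓ H0 z P
  have hDcard : 2 ^ 11 ≤ Nat.card ↥D := by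
    have hz' : z ∉ zpowers b := hgb.not_mem_zpowers (fun e => hb.ne e.symm) hz.isConj
    have hcard := card_CE hgb.J hzb hz'
    have h5 : Nat.card ↥(CE b z ⊓ H0 z P : Subgroup G) * (H0 z P).relIndex (CE b z) = Nat.card ↥(CE b z) := by
      rw [← relIndex_bot_left (CE b z ⊓ H0 z P), ← relIndex_bot_left (CE b z),
        ← inf_relIndex_left (CE b z) (H0 z P), relIndex_mul_relIndex _ _ _ bot_le inf_le_left]
    have h6 : (H0 z P).relIndex (CE b z) ≤ 2 := by
      refine (relIndex_le_of_le_right (inf_le_right : CE b z ≤ HH z) index_ne_zero_of_finite).trans ?_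
      have h4 : Nat.card ↥(H0 z P) * (H0 z P).relIndex (HH z) = Nat.card ↥(HH z) := by
        rw [← relIndex_bot_left (H0 z P), ← relIndex_bot_left (HH z),
          relIndex_mul_relIndex _ _ _ bot_le (H0_le_HH z P)]
      rw [hz.L.cardH, hz.L.cardH0] at h4
      exact (Nat.eq_of_mul_eq_mul_left (by norm_num) (h4.trans
        (show 2 ^ 13 * 2661120 = 2 ^ 13 * 1330560 * 2 by norm_num))).le
    have h7 : Nat.card ↥(CE b z ⊓ H0 z P : Subgroup G) ≤ Nat.card ↥D :=
      Subgroup.card_le_of_le fun x hx => mem_inf.2 ⟨(mem_inf.1 (mem_inf.1 hx).1).1, (mem_inf.1 hx).2⟩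
    rw [hcard] at h5
    nlinarith
  have himgD : 2 ^ 10 ≤ Nat.card ↥(imgV b D) := by
    have := card_le_two_mul hgb.J (inf_le_left : D ≤ EE b)
    change Nat.card ↥D ≤ 2 * Nat.card ↥(imgV b D) at this
    linarith
  let g : ↥(imgV b D) →+ VV b := (nil b c).comp (AddSubgroup.subtype _)
  have hgr : g.range ≤ imgV b (preV hJ T) := by
    rintro _ ⟨⟨_, d, hd, hdb, rfl⟩, rfl⟩
    have hdH := H0_le_HH z P (mem_inf.1 hd).2
    refine ⟨c * d * c⁻¹ * d⁻¹, ⟨?_, ?_⟩, mul_mem (conj_mem_EE hcb hdb) (inv_mem hdb), ?_⟩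
    · rw [mul_assoc (c * d), mul_assoc c d, ← mul_assoc d]
      exact mul_mem hc (conj_mem_EE hdH (inv_mem hc))
    · have e : c * d * c⁻¹ * d⁻¹ = c * (d * c⁻¹ * d⁻¹) := by group
      rw [e, vk_mul hc (conj_mem_EE hdH (inv_mem hc)), ← act_vk hdH (inv_mem hc), vk_inv hJ hc, add_comm]
      exact nil_perp_line hz hgb hb hp hp1 hdb (mem_inf.1 hd).2 hcT
    · show vk b (c * d * c⁻¹ * d⁻¹) = nil b c (vk b d)
      rw [vk_mul (conj_mem_EE hcb hdb) (inv_mem hdb), vk_inv hgb.J hdb, nil_apply, act_vk hcb hdb]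
  have h8 : Nat.card ↥g.range ≤ 8 := by
    refine (AddSubgroup.card_le_of_le hgr).trans ?_
    refine le_trans ?_ (le_of_eq (show Nat.card ↥(preV hJ T) = 8 by
      rw [card_preV hJ, card_line hJ hp hp1 (hb.vk_ne hz)]))
    refine Nat.card_le_card_of_surjective (fun x : ↥(preV hJ T) => (⟨vk b (x : G), ?_⟩ : ↥(imgV b (preV hJ T)))) ?_
    · by_cases hx : (x : G) ∈ EE b
      · exact vk_mem_imgV x.2 hx
      · rw [vk, dif_neg hx]; exact zero_mem _
    · rintro ⟨w, x, hx, hxb, rfl⟩; exact ⟨⟨x, hx⟩, rfl⟩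
  have h9 := card_ker_mul_range g
  have h10 : Nat.card ↥g.ker ≤ Nat.card ↥(nil b c).ker :=
    Nat.card_le_card_of_injective (fun a => ⟨a.1.1, a.2⟩) fun a a' e =>
      Subtype.ext (Subtype.ext (congrArg (fun t : ↥(nil b c).ker => (t : VV b)) e))
  rw [card_ker_outer hgb.L hcb hc0 hc2] at h10
  nlinarith

/-- Sums of fully orthogonal conjugates are conjugates. -/
theorem InK.mul (hz : Good z₀ z P) {b : G} {Q : Subgroup G} (hgb : Good z₀ b Q) (hb : InK z₀ z b)
    {p : G} (hp : p ∈ P) (hp1 : p ≠ 1) {c : G} (hc : InK z₀ z c)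
    (h1 : BB z (vk z c) (vk z b) = 0) (h2 : BB z (vk z c) (act z p (vk z b)) = 0)
    (hne : vk z c ≠ vk z b) : InK z₀ z (c * b) := by
  have hJ := hz.J
  have hH := hJ.P_le_HH hp
  rw [act_vk hH hb.mem, BB_vk hJ hc.mem (conj_mem_EE hH hb.mem), cm_eq_zero] at h2
  rw [BB_vk hJ hc.mem hb.mem, cm_eq_zero] at h1
  have hin := inner_of_comm hz hgb hb hp hp1 hc.mem h1 h2
  refine ⟨mul_mem hc.mem hb.mem, ?_, fun e => hne ?_⟩
  · by_cases hcb : c ∈ EE b
    · exact hgb.mem_move hcb (fun e => hne (by rw [e])) hc.conj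
    · exact hgb.inner_move hin hcb hc.conj
  · have e2 : vk z (c * b) = 0 := by rw [e, vk_z hJ]
    rw [vk_mul hc.mem hb.mem] at e2
    exact VV.eq_of_add hJ e2

/-- No conjugate lies over the rotated plane. -/
theorem not_mem_act_PI (hz : Good z₀ z P) {b : G} {Q : Subgroup G} (hgb : Good z₀ b Q) (hb : InK z₀ z b)
    {p : G} (hp : p ∈ P) (hp1 : p ≠ 1) {c : G} (hc : InK z₀ z c) {u : VV z} (hu : u ∈ PI z b)
    (hcu : vk z c = act z p u) : vk z c ∈ line z p (vk z b) := by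
  by_contra hcT
  have hJ := hz.J
  have hJb := hgb.J
  have hH := hJ.P_le_HH hp
  set T := line z p (vk z b)
  have hcperp : vk z c ∈ perp hJ T :=
    (mem_perp_line_iff hz hgb hb hp hp1).2 ⟨0, zero_mem _, u, hu, by rw [zero_add, hcu]⟩
  rw [mem_perp_line, act_vk hH hb.mem, BB_vk hJ hc.mem hb.mem, BB_vk hJ hc.mem (conj_mem_EE hH hb.mem),
    cm_eq_zero, cm_eq_zero] at hcperp
  have hin := inner_of_comm hz hgb hb hp hp1 hc.mem hcperp.1 hcperp.2
  have hzb := hz.z_mem hb.mem hb.conj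
  have hcPI : vk z c ∉ PI z b := fun h => hcT (by
    rw [hcu]; exact act_mem_line hJ hp hp1 (mem_line_of_PI' hz hgb hb hp hp1 h hu hcu))
  have hcb : c ∉ EE b := fun h => hcPI (vk_mem_imgV ⟨hc.mem, h⟩ hc.mem)
  have hcH : c ∈ HH b := H0_le_HH b Q hin
  have hc2 : c * c ∈ EE b := (hz.sq hc.conj).symm ▸ one_mem _
  obtain ⟨⟨x, hx, hxc⟩, -⟩ := exists_move hgb.L hin hcb (hz.sq hc.conj) (hgb.not_mem_CC hcb hc.conj)
  -- `z` is a commutator of `c`
  obtain ⟨e, he, hece⟩ : ∃ e ∈ II z b, c * e * c⁻¹ = e * z := by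
    by_contra hno
    push Not at hno
    refine hcPI ?_
    rw [← perp_PI hz hgb hb]
    rintro w ⟨t, ht, htE, rfl⟩
    rw [BB_vk hJ hc.mem htE]
    by_contra hne1
    refine hno t ht ?_
    rw [conj_eq hJ hc.mem htE, (show ∀ r : ZMod 2, r ≠ 0 → r = 1 by decide) _ hne1]
    exact congrArg (t * ·) (pow_one z)
  have hzr : vk b z ∈ (nil b c).range := by
    refine ⟨vk b e, ?_⟩
    rw [nil_apply, act_vk hcH he.2, hece, vk_mul he.2 hzb, add_comm, ← add_assoc, VV.two hJb, zero_add]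
  -- the element of order three at `b`
  obtain ⟨q, hq, hq1, -, -⟩ := hJb.exists_gen
  have hqH := hJb.P_le_HH hq
  have hzr' : vk b (q * z * q⁻¹) ∈ (nil b c).range := by
    rw [← act_vk hqH hzb]
    obtain ⟨w, hw⟩ := hzr
    exact ⟨act b q w, by rw [nil_comm hJb hin hq, hw]⟩
  have hxker : vk b x ∈ (nil b c).ker := by
    rw [mem_ker_nil hJb, act_vk hcH hx]
    have e3 : x * c = c * (b * x) := by rw [← mul_assoc]; exact mul_inv_eq_iff_eq_mul.1 hxc
    have hcbc : c * b = b * c := hcperp.1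
    have hcxc : c * x * c⁻¹ = b * x := by
      calc c * x * c⁻¹ = (c * b) * b⁻¹ * x * c⁻¹ := by group
        _ = b * (c * (b * x)) * c⁻¹ := by
          rw [hJb.ctr.inv_self, hcbc]; group
        _ = _ := by rw [← e3]; group
    rw [hcxc, vk_mul hJb.ctr.z_mem hx, vk_z hJb, zero_add]
  have hperp : ∀ t ∈ EE b, vk b t ∈ (nil b c).range → x * t = t * x := by
    intro t ht ⟨y, hy⟩
    rw [← cm_eq_zero, ← BB_vk hJb hx ht, ← hy, nil_apply, BB_add_right hJb]
    conv_lhs => arg 1; rw [← (mem_ker_nil hJb).1 hxker, BB_act hJb hcH]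
    exact CharTwo.add_self_eq_zero _
  have hxz : x * z = z * x := hperp z hzb hzr
  have hzK : InK z₀ b z := ⟨hzb, hz.isConj, fun e => hb.ne e.symm⟩
  have hxin : x ∈ H0 z P := inner_of_comm hgb hz hzK hq hq1 hx hxz
    (hperp _ (conj_mem_EE hqH hzb) hzr')
  have hxH : x ∈ HH z := mem_HH.2 hxz
  have e5 : act z x (vk z c) = vk z c + vk z b := by
    rw [act_vk hxH hc.mem, hxc, vk_mul hc.mem hb.mem]
  rw [hcu, act_inner hJ hxin hp] at e5
  have hw0 := hb.vk_ne hz
  rcases act_PI hz hgb hb hx hxH hu with e6 | e6 <;> rw [e6] at e5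
  · exact hw0 (left_eq_add.1 e5)
  · rw [map_add] at e5
    exact hw0 (act_fpf hJ hp hp1 (add_left_cancel e5))

end Cfsg.Agent.J4Local
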