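import Mathlib
import Cfsg.Agent.Lib.J4Local.Plane

/-!
The residue of the line of `b`.
-/

set_option autoImplicit false
set_option linter.style.haveILetI false
set_option linter.unusedSectionVars false
set_option linter.unusedVariables false

namespace Cfsg.Agent.J4Local

open Subgroup

variable {G : Type*} [Group G] [Finite G] {z₀ z : G} {P : Subgroup G}

/-- The images in `E / ⟨z⟩` of the conjugates of `z₀` in `E`. -/
def KV (z₀ z : G) : Set (VV z) := {w | ∃ c, InK z₀ z c ∧ vk z c = w}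

theorem KV_ne (hz : Good z₀ z P) {w : VV z} (hw : w ∈ KV z₀ z) : w ≠ 0 := by
  obtain ⟨c, hc, rfl⟩ := hw; exact hc.vk_ne hz

theorem KV_sq (hz : Good z₀ z P) {w : VV z} (hw : w ∈ KV z₀ z) : QQ z w = 0 := by
  obtain ⟨c, hc, rfl⟩ := hw; exact hc.sq hz

theorem KV_act (hz : Good z₀ z P) {h : G} (hh : h ∈ HH z) {w : VV z} (hw : w ∈ KV z₀ z) :
    act z h w ∈ KV z₀ z := by
  obtain ⟨c, hc, rfl⟩ := hw
  exact ⟨_, hc.conj_mem hz hh, (act_vk hh hc.mem).symm⟩

theorem KV_add (hX : Ctx z₀) (hz : Good z₀ z P) {p : G} (hp : p ∈ P) (hp1 : p ≠ 1) {v w : VV z}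
    (hv : v ∈ KV z₀ z) (hw : w ∈ KV z₀ z) (h1 : BB z v w = 0) (h2 : BB z v (act z p w) = 0)
    (hne : v ≠ w) : v + w ∈ KV z₀ z := by
  obtain ⟨c, hc, rfl⟩ := hv
  obtain ⟨b, hb, rfl⟩ := hw
  obtain ⟨Q, hgb⟩ := hX b hb.conj
  exact ⟨c * b, InK.mul hz hgb hb hp hp1 hc h1 h2 hne, vk_mul hc.mem hb.mem⟩

theorem BB_act_comm (h : JType z P) {p : G} (hp : p ∈ P) (hp1 : p ≠ 1) {x y : VV z}
    (hxy : BB z x y = 0) : BB z x (act z p y) = BB z y (act z p x) := by
  have hH := h.P_le_HH hp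
  have e1 : BB z (act z p x) (act z p (act z p y)) = BB z x (act z p y) := BB_act h hH _ _
  have e2 : BB z (act z p x) (act z p y) = 0 := (BB_act h hH _ _).trans hxy
  rw [act_act h hp hp1, BB_add_right h, e2, add_zero, BB_comm] at e1
  exact e1.symm

theorem perp_perp_line (h : JType z P) {p : G} (hp : p ∈ P) (hp1 : p ≠ 1) {w : VV z} (hw : w ≠ 0) :
    perp h (perp h (line z p w)) = line z p w := by
  refine (AddSubgroup.eq_of_le_of_card_ge
    (show line z p w ≤ perp h (perp h (line z p w)) from fun x hx y hy => by rw [BB_comm]; exact hy x hx) ?_).symm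
  have h1 := card_mul_card_perp h (perp h (line z p w))
  rw [card_perp_line h hp hp1 hw] at h1
  rw [card_line h hp hp1 hw]
  exact le_of_eq (Nat.eq_of_mul_eq_mul_left (by norm_num) (h1.trans (show 2 ^ 12 = 2 ^ 10 * 4 by norm_num)))

variable (z₀) in
/-- The data of a point: `b` with its core and `p`. -/
structure Pt (z : G) (P : Subgroup G) where
  hz : Good z₀ z P
  b : G
  Q : Subgroup G
  p : G
  hgb : Good z₀ b Q
  hb : InK z₀ z b
  hp : p ∈ P
  hp1 : p ≠ 1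

namespace Pt

variable (D : Pt z₀ z P)

/-- The line. -/
noncomputable abbrev T : AddSubgroup (VV z) := line z D.p (vk z D.b)

/-- The plane. -/
abbrev I : AddSubgroup (VV z) := PI z D.b

theorem T_le_I : D.T ≤ D.I := line_le_PI D.hz D.hgb D.hb D.hp D.hp1

theorem T_le_perp : D.T ≤ perp D.hz.J D.T := fun x hx y hy =>
  PI_isotropic D.hz D.hgb D.hb (D.T_le_I hx) (D.T_le_I hy)

theorem I_le_perp : D.I ≤ perp D.hz.J D.T := fun x hx y hy =>
  PI_isotropic D.hz D.hgb D.hb hx (D.T_le_I hy)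

theorem act_mem_perp {x : VV z} (hx : x ∈ perp D.hz.J D.T) : act z D.p x ∈ perp D.hz.J D.T :=
  act_mem_perp_line D.hz.J D.hp D.hp1 hx

theorem eq_zero_coords {u v : VV z} (hu : u ∈ D.I) (hv : v ∈ D.I) (h : u + act z D.p v ∈ D.T) :
    u ∈ D.T ∧ v ∈ D.T := by
  have hv' : v ∈ D.T := by
    refine mem_line_of_PI' D.hz D.hgb D.hb D.hp D.hp1 (x := act z D.p v) ?_ hv rfl
    have e : act z D.p v = u + (u + act z D.p v) := by rw [← add_assoc, VV.two D.hz.J, zero_add]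
    rw [e]; exact add_mem hu (D.T_le_I h)
  refine ⟨?_, hv'⟩
  have e : u = (u + act z D.p v) + act z D.p v := by rw [add_assoc, VV.two D.hz.J, add_zero]
  rw [e]; exact add_mem h (act_mem_line D.hz.J D.hp D.hp1 hv')

/-- The quotient of the plane by the line. -/
abbrev Ph := ↥D.I ⧸ (D.T).addSubgroupOf D.I

/-- The projection to the quotient. -/
noncomputable def pr (u : ↥D.I) : D.Ph := QuotientAddGroup.mk u

theorem pr_eq_zero {u : ↥D.I} : D.pr u = 0 ↔ (u : VV z) ∈ D.T :=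
  (QuotientAddGroup.eq_zero_iff u).trans AddSubgroup.mem_addSubgroupOf

theorem pr_add (u v : ↥D.I) : D.pr (u + v) = D.pr u + D.pr v := rfl

theorem pr_surj : Function.Surjective D.pr := QuotientAddGroup.mk_surjective

theorem exists_beta : ∃ β : D.Ph →+ D.Ph →+ ZMod 2,
    ∀ u v : ↥D.I, β (D.pr u) (D.pr v) = BB z u (act z D.p v) := by
  have hJ := D.hz.J
  let f : ↥D.I →+ (D.Ph →+ ZMod 2) := AddMonoidHom.mk'
    (fun u => QuotientAddGroup.lift _ (AddMonoidHom.mk' (fun v : ↥D.I => BB z u (act z D.p v)) fun a c => by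
        rw [AddSubgroup.coe_add, map_add, BB_add_right hJ])
      fun v hv => AddMonoidHom.mem_ker.2
        (PI_isotropic D.hz D.hgb D.hb u.2 (D.T_le_I (act_mem_line hJ D.hp D.hp1 hv))))
    fun a c => by
      ext v
      exact BB_add_left hJ (a : VV z) c (act z D.p (v : VV z))
  refine ⟨QuotientAddGroup.lift _ f fun u hu => AddMonoidHom.mem_ker.2 (QuotientAddGroup.addMonoidHom_ext _ ?_),
    fun u v => rfl⟩
  ext v
  show BB z (u : VV z) (act z D.p (v : VV z)) = 0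
  rw [BB_comm]
  exact D.act_mem_perp (D.I_le_perp v.2) _ hu

/-- The form on the quotient. -/
noncomputable def beta : D.Ph →+ D.Ph →+ ZMod 2 := D.exists_beta.choose

theorem beta_mk (u v : ↥D.I) : D.beta (D.pr u) (D.pr v) = BB z u (act z D.p v) :=
  D.exists_beta.choose_spec u v

theorem Ph_two (a : D.Ph) : a + a = 0 := by
  obtain ⟨u, rfl⟩ := D.pr_surj a
  rw [← pr_add, show u + u = 0 from Subtype.ext (VV.two D.hz.J _)]
  rfl

theorem card_Ph : Nat.card D.Ph = 16 := by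
  have h1 := AddSubgroup.card_eq_card_quotient_mul_card_addSubgroup ((D.T).addSubgroupOf D.I)
  rw [Nat.card_congr (AddSubgroup.addSubgroupOfEquivOfLe D.T_le_I).toEquiv,
    card_line D.hz.J D.hp D.hp1 (D.hb.vk_ne D.hz), card_PI D.hz D.hgb D.hb] at h1
  exact Nat.eq_of_mul_eq_mul_right (by norm_num : 0 < 4) (h1.symm.trans (by norm_num))

theorem beta_self (a : D.Ph) : D.beta a a = 0 := by
  obtain ⟨u, rfl⟩ := D.pr_surj a
  rw [beta_mk, BB_act_self D.hz.J D.hp D.hp1]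
  exact PI_singular D.hz D.hgb D.hb u.2

theorem beta_nondeg (a : D.Ph) (h : ∀ c, D.beta a c = 0) : a = 0 := by
  obtain ⟨u, rfl⟩ := D.pr_surj a
  rw [pr_eq_zero, T, ← perp_perp_line D.hz.J D.hp D.hp1 (D.hb.vk_ne D.hz)]
  intro y hy
  obtain ⟨s, hs, t, ht, rfl⟩ := (mem_perp_line_iff D.hz D.hgb D.hb D.hp D.hp1).1 hy
  have h2 := h (D.pr ⟨t, ht⟩)
  rw [beta_mk] at h2
  rw [BB_add_right D.hz.J, PI_isotropic D.hz D.hgb D.hb u.2 hs, h2, add_zero]

/-- The residue. -/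
def RR : Set (VV z) := {w | w ∈ KV z₀ z ∧ w ∈ perp D.hz.J D.T ∧ w ∉ D.T}

/-- The residue in coordinates. -/
def SS : Set (D.Ph × D.Ph) :=
  {c | ∃ u v : ↥D.I, c = (D.pr u, D.pr v) ∧ (u : VV z) + act z D.p v ∈ D.RR}

theorem mem_SS_of {u v : ↥D.I} (h : (u : VV z) + act z D.p v ∈ D.RR) : (D.pr u, D.pr v) ∈ D.SS :=
  ⟨u, v, rfl, h⟩

theorem no_plane {u v : ↥D.I} (h : (u : VV z) + act z D.p v ∈ D.RR) : (u : VV z) ∉ D.T := by
  intro hu
  obtain ⟨⟨c, hc, hcw⟩, -, hnT⟩ := h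
  obtain ⟨w, hwI, hw⟩ : ∃ w ∈ D.I, act z D.p w = u := by
    have hH := D.hz.J.P_le_HH D.hp
    refine ⟨act z D.p (act z D.p u), D.T_le_I (act_mem_line D.hz.J D.hp D.hp1
      (act_mem_line D.hz.J D.hp D.hp1 hu)), ?_⟩
    rw [← act_mul hH hH, ← act_mul (mul_mem hH hH) hH, ← pow_two, ← pow_succ,
      pow_three_eq_one D.hz.J D.hp, act_one]
  refine hnT (hcw ▸ not_mem_act_PI D.hz D.hgb D.hb D.hp D.hp1 hc (add_mem hwI v.2) ?_)
  rw [hcw, map_add, hw]

theorem SS_rot_aux {u v : ↥D.I} (h : (u : VV z) + act z D.p v ∈ D.RR) :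
    (v : VV z) + act z D.p ((u + v : ↥D.I) : VV z) ∈ D.RR := by
  have hH := D.hz.J.P_le_HH D.hp
  have e : (v : VV z) + act z D.p ((u + v : ↥D.I) : VV z) = act z D.p ((u : VV z) + act z D.p v) := by
    rw [AddSubgroup.coe_add, map_add, map_add, act_act D.hz.J D.hp D.hp1]; abel
  rw [e]
  refine ⟨KV_act D.hz hH h.1, D.act_mem_perp h.2.1, fun hT => h.2.2 ?_⟩
  have h2 := act_mem_line D.hz.J D.hp D.hp1 (act_mem_line D.hz.J D.hp D.hp1 hT)
  rwa [← act_mul hH hH, ← act_mul (mul_mem hH hH) hH, ← pow_two, ← pow_succ,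
    pow_three_eq_one D.hz.J D.hp, act_one] at h2

theorem SS_mem : ∀ c ∈ D.SS, c.1 ≠ 0 ∧ c.2 ≠ 0 ∧ c.1 ≠ c.2 ∧ D.beta c.1 c.2 = 0 := by
  rintro _ ⟨u, v, rfl, h⟩
  have h1 := D.SS_rot_aux h
  refine ⟨fun e => D.no_plane h (D.pr_eq_zero.1 e), fun e => D.no_plane h1 (D.pr_eq_zero.1 e), fun e => ?_, ?_⟩
  · refine D.no_plane (D.SS_rot_aux h1) (D.pr_eq_zero.1 ?_)
    rw [pr_add]
    exact (congrArg (fun t => D.pr u + t) e.symm).trans (D.Ph_two _)
  · rw [beta_mk]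
    have hq := KV_sq D.hz h.1
    rw [QQ_add D.hz.J, QQ_act D.hz.J (D.hz.J.P_le_HH D.hp), PI_singular D.hz D.hgb D.hb u.2,
      PI_singular D.hz D.hgb D.hb v.2, zero_add, zero_add] at hq
    exact hq

theorem SS_rot : ∀ c ∈ D.SS, (c.2, c.1 + c.2) ∈ D.SS := by
  rintro _ ⟨u, v, rfl, h⟩
  exact D.mem_SS_of (D.SS_rot_aux h)

theorem SS_sum (hX : Ctx z₀) : ∀ c ∈ D.SS, ∀ d ∈ D.SS, c ≠ d → D.beta c.1 d.2 + D.beta d.1 c.2 = 0 →
    D.beta c.1 (d.1 + d.2) + D.beta d.2 c.2 = 0 → c + d ∈ D.SS := by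
  rintro _ ⟨u, v, rfl, h⟩ _ ⟨u', v', rfl, h'⟩ hne e1 e2
  dsimp only at e1 e2
  rw [← pr_add] at e2
  rw [beta_mk, beta_mk] at e1 e2
  have hJ := D.hz.J
  have hH := hJ.P_le_HH D.hp
  have iso : ∀ a b : ↥D.I, BB z (a : VV z) b = 0 := fun a b => PI_isotropic D.hz D.hgb D.hb a.2 b.2
  have isop : ∀ a b : ↥D.I, BB z (act z D.p a) (act z D.p (b : VV z)) = 0 := fun a b => by
    rw [BB_act hJ hH]; exact iso a b
  have h1 : BB z ((u : VV z) + act z D.p v) ((u' : VV z) + act z D.p v') = 0 := by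
    rw [BB_add_left hJ, BB_add_right hJ, BB_add_right hJ, iso, isop, zero_add, add_zero,
      BB_comm z (act z D.p (v : VV z))]
    exact e1
  have h2 : BB z ((u : VV z) + act z D.p v) (act z D.p ((u' : VV z) + act z D.p v')) = 0 := by
    have e : act z D.p ((u' : VV z) + act z D.p v') = (v' : VV z) + act z D.p ((u' + v' : ↥D.I) : VV z) := by
      rw [AddSubgroup.coe_add, map_add, map_add, act_act hJ D.hp D.hp1]; abel
    rw [e, BB_add_left hJ, BB_add_right hJ, BB_add_right hJ, iso, isop, zero_add, add_zero,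
      BB_comm z (act z D.p (v : VV z))]
    exact e2
  have hne' : (u : VV z) + act z D.p v ≠ (u' : VV z) + act z D.p v' := fun e => hne (by
    have e0 : ((u + u' : ↥D.I) : VV z) + act z D.p ((v + v' : ↥D.I) : VV z) ∈ D.T := by
      have e3 : ((u + u' : ↥D.I) : VV z) + act z D.p ((v + v' : ↥D.I) : VV z) =
          ((u : VV z) + act z D.p v) + ((u' : VV z) + act z D.p v') := by
        rw [AddSubgroup.coe_add, AddSubgroup.coe_add, map_add]; abel
      rw [e3, e, VV.two hJ]; exact zero_mem _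
    obtain ⟨a1, a2⟩ := D.eq_zero_coords (u + u').2 (v + v').2 e0
    have hcan : ∀ a c : D.Ph, a + c = 0 → a = c := fun a c h => add_right_cancel (h.trans (D.Ph_two c).symm)
    exact Prod.ext (hcan _ _ ((D.pr_add u u').symm.trans (D.pr_eq_zero.2 a1)))
      (hcan _ _ ((D.pr_add v v').symm.trans (D.pr_eq_zero.2 a2))))
  refine ⟨u + u', v + v', rfl, ?_⟩
  have e3 : ((u + u' : ↥D.I) : VV z) + act z D.p ((v + v' : ↥D.I) : VV z) =
      ((u : VV z) + act z D.p v) + ((u' : VV z) + act z D.p v') := by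
    rw [AddSubgroup.coe_add, AddSubgroup.coe_add, map_add]; abel
  refine ⟨?_, ?_, fun hT => hne ?_⟩
  · rw [e3]; exact KV_add hX D.hz D.hp D.hp1 h.1 h'.1 h1 h2 hne'
  · rw [e3]; exact add_mem h.2.1 h'.2.1
  · obtain ⟨a1, a2⟩ := D.eq_zero_coords (u + u').2 (v + v').2 hT
    have hcan : ∀ a c : D.Ph, a + c = 0 → a = c := fun a c h => add_right_cancel (h.trans (D.Ph_two c).symm)
    exact Prod.ext (hcan _ _ ((D.pr_add u u').symm.trans (D.pr_eq_zero.2 a1)))
      (hcan _ _ ((D.pr_add v v').symm.trans (D.pr_eq_zero.2 a2)))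

theorem card_RR_le : D.RR.ncard ≤ 4 * D.SS.ncard := by
  classical
  haveI : Finite D.Ph := inferInstance
  have hx : ∀ w : ↥D.RR, ∃ uv : ↥D.I × ↥D.I, (w : VV z) = (uv.1 : VV z) + act z D.p uv.2 := fun w => by
    obtain ⟨u, hu, v, hv, e⟩ := (mem_perp_line_iff D.hz D.hgb D.hb D.hp D.hp1).1 w.2.2.1
    exact ⟨(⟨u, hu⟩, ⟨v, hv⟩), e⟩
  choose uv huv using hx
  let f : ↥D.RR → ↥D.SS := fun w => ⟨(D.pr (uv w).1, D.pr (uv w).2), D.mem_SS_of (huv w ▸ w.2)⟩
  let r : ↥D.SS → VV z := fun s => if h : ∃ w, f w = s then (h.choose : VV z) else 0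
  have hT : ∀ w : ↥D.RR, (w : VV z) + r (f w) ∈ D.T := fun w => by
    have hex : ∃ w', f w' = f w := ⟨w, rfl⟩
    simp only [r, dif_pos hex]
    have e := congrArg Subtype.val hex.choose_spec
    simp only [f, Prod.mk.injEq] at e
    generalize hex.choose = w' at e ⊢
    have hc : ∀ a c : ↥D.I, D.pr a = D.pr c → ((a : VV z) + c) ∈ D.T := fun a c e' => by
      refine (D.pr_eq_zero (u := a + c)).1 ?_
      rw [pr_add, e', D.Ph_two]
    have e3 : (w : VV z) + w' = (((uv w).1 : VV z) + (uv w').1) + act z D.p (((uv w).2 : VV z) + (uv w').2) := by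
      rw [huv w, huv w', map_add]; abel
    rw [e3]
    exact add_mem (hc _ _ e.1.symm) (act_mem_line D.hz.J D.hp D.hp1 (hc _ _ e.2.symm))
  have hle := Nat.card_le_card_of_injective
    (fun w : ↥D.RR => ((⟨_, hT w⟩, f w) : ↥D.T × ↥D.SS)) fun a c e => by
      obtain ⟨e1, e2⟩ := Prod.ext_iff.1 e
      dsimp only at e1 e2
      have e1' := congrArg Subtype.val e1
      dsimp only at e1'
      rw [e2] at e1'
      exact Subtype.ext (add_right_cancel e1')
  rw [Nat.card_prod, card_line D.hz.J D.hp D.hp1 (D.hb.vk_ne D.hz), Nat.card_coe_set_eq,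
    Nat.card_coe_set_eq] at hle
  exact hle

theorem SS_nonempty (h : D.RR.Nonempty) : D.SS.Nonempty := by
  obtain ⟨w, hw⟩ := h
  obtain ⟨u, hu, v, hv, rfl⟩ := (mem_perp_line_iff D.hz D.hgb D.hb D.hp D.hp1).1 hw.2.1
  exact ⟨_, D.mem_SS_of (u := ⟨u, hu⟩) (v := ⟨v, hv⟩) hw⟩

end Pt

end Cfsg.Agent.J4Local
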