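import Mathlib
import Cfsg.Agent.Lib.J4Local.Residue

/-!
The number of conjugates in `E` and the stabiliser of one of them.
-/

set_option autoImplicit false
set_option linter.style.haveILetI false
set_option linter.unusedSectionVars false
set_option linter.unusedVariables false

namespace Cfsg.Agent.J4Local

open Subgroup

variable {G : Type*} [Group G] [Finite G] {z₀ z : G} {P : Subgroup G}

namespace Pt

variable (D : Pt z₀ z P)

theorem vk_b_mem : vk z D.b ∈ KV z₀ z := ⟨D.b, D.hb, rfl⟩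

theorem line_sdiff_KV {x : VV z} (hx : x ∈ D.T) (h0 : x ≠ 0) : x ∈ KV z₀ z := by
  have hH := D.hz.J.P_le_HH D.hp
  rcases (mem_line D.hz.J).1 hx with rfl | rfl | rfl | rfl
  · exact absurd rfl h0
  · exact D.vk_b_mem
  · exact KV_act D.hz hH D.vk_b_mem
  · rw [← act_act D.hz.J D.hp D.hp1]; exact KV_act D.hz hH (KV_act D.hz hH D.vk_b_mem)

theorem exists_third (hX : Ctx z₀) {q : VV z} (hq : q ∈ D.RR) {w : VV z} (hw : w ∉ perp D.hz.J D.T) :
    ∃ s ∈ D.T, BB z w (q + s) = 0 ∧ BB z w (act z D.p (q + s)) = 0 := by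
  classical
  have hJ := D.hz.J
  let φ : ↥D.T →+ ZMod 2 × ZMod 2 := AddMonoidHom.mk'
    (fun s => (BB z w s, BB z w (act z D.p s))) fun a b => by
      simp only [AddSubgroup.coe_add, map_add, BB_add_right hJ, Prod.mk_add_mk]
  have hinj : Function.Injective φ := by
    refine (injective_iff_map_eq_zero φ).2 fun s hs => ?_
    obtain ⟨h1, h2⟩ := Prod.ext_iff.1 hs
    by_contra h0
    refine hw fun t ht => ?_
    have h1' : BB z w (s : VV z) = 0 := h1
    have h2' : BB z w (act z D.p (s : VV z)) = 0 := h2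
    have hs0 : (s : VV z) ≠ 0 := fun e => h0 (Subtype.ext e)
    have hle : line z D.p (s : VV z) = D.T := by
      refine AddSubgroup.eq_of_le_of_card_ge (line_le D.p s.2 (act_mem_line hJ D.hp D.hp1 s.2)) ?_
      rw [card_line hJ D.hp D.hp1 hs0, card_line hJ D.hp D.hp1 (D.hb.vk_ne D.hz)]
    rw [← hle] at ht
    exact BB_line_eq_zero hJ h1' h2' ht
  have hbij : Function.Bijective φ := by
    refine hinj.bijective_of_nat_card_le ?_
    rw [card_line hJ D.hp D.hp1 (D.hb.vk_ne D.hz), Nat.card_prod, Nat.card_zmod]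
  obtain ⟨s, hs⟩ := hbij.surjective (BB z w q, BB z w (act z D.p q))
  obtain ⟨h1, h2⟩ := Prod.ext_iff.1 hs
  have h1' : BB z w (s : VV z) = BB z w q := h1
  have h2' : BB z w (act z D.p (s : VV z)) = BB z w (act z D.p q) := h2
  refine ⟨s, s.2, ?_, ?_⟩
  · rw [BB_add_right hJ, h1', CharTwo.add_self_eq_zero]
  · rw [map_add, BB_add_right hJ, h2', CharTwo.add_self_eq_zero]

theorem add_mem_RR (hX : Ctx z₀) {q s : VV z} (hq : q ∈ D.RR) (hs : s ∈ D.T) : q + s ∈ D.RR := by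
  refine ⟨?_, add_mem hq.2.1 (D.T_le_perp hs), fun h => hq.2.2 ?_⟩
  · by_cases h0 : s = 0
    · rw [h0, add_zero]; exact hq.1
    · exact KV_add hX D.hz D.hp D.hp1 hq.1 (D.line_sdiff_KV hs h0) (hq.2.1 _ hs)
        (hq.2.1 _ (act_mem_line D.hz.J D.hp D.hp1 hs)) (fun e => hq.2.2 (e ▸ hs))
  · have := sub_mem h hs
    rwa [add_sub_cancel_right] at this

theorem ncard_RR_diff (hX : Ctx z₀) (h30 : ∀ D' : Pt z₀ z P, D'.SS.ncard ≤ 30) {k : VV z} (hk : k ∈ D.RR) :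
    Set.ncard {w | w ∈ KV z₀ z ∧ w ∉ perp D.hz.J D.T ∧ BB z w k = 0 ∧ BB z w (act z D.p k) = 0} ≤ 108 := by
  classical
  have hJ := D.hz.J
  obtain ⟨hkK, hkperp, hkT⟩ := hk
  obtain ⟨a, ha, rfl⟩ := hkK
  obtain ⟨Q', hga⟩ := hX a ha.conj
  let D' : Pt z₀ z P := ⟨D.hz, a, Q', D.p, hga, ha, D.hp, D.hp1⟩
  set A := {w | w ∈ KV z₀ z ∧ w ∉ perp hJ D.T ∧ BB z w (vk z a) = 0 ∧ BB z w (act z D.p (vk z a)) = 0}
  let Bs : Set (VV z) := {w | ∃ t ∈ D.T, t ≠ 0 ∧ ∃ s ∈ D'.T, w = t + s}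
  have hT'perp : D'.T ≤ perp hJ D.T := line_le D.p hkperp (D.act_mem_perp hkperp)
  have hdisj : ∀ t ∈ D.T, t ∈ D'.T → t = 0 := by
    intro t ht ht'
    by_contra h0
    have e1 : line z D.p t = D.T := AddSubgroup.eq_of_le_of_card_ge
      (line_le D.p ht (act_mem_line hJ D.hp D.hp1 ht))
      (by rw [card_line hJ D.hp D.hp1 h0, card_line hJ D.hp D.hp1 (D.hb.vk_ne D.hz)])
    have e2 : line z D.p t = D'.T := AddSubgroup.eq_of_le_of_card_ge
      (line_le D.p ht' (act_mem_line hJ D.hp D.hp1 ht'))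
      (by rw [card_line hJ D.hp D.hp1 h0, card_line hJ D.hp D.hp1 (ha.vk_ne D.hz)])
    exact hkT (e1.symm.trans e2 ▸ self_mem_line z D.p (vk z a) : vk z a ∈ D.T)
  have hBR : Bs ⊆ D'.RR := by
    rintro w ⟨t, ht, ht0, s, hs, rfl⟩
    have htp : t ∈ perp hJ D'.T := fun y hy => by
      rw [BB_comm]; exact hT'perp hy t ht
    refine ⟨?_, add_mem htp (D'.T_le_perp hs), fun h => ht0 (hdisj t ht ?_)⟩
    · by_cases hs0 : s = 0
      · rw [hs0, add_zero]; exact D.line_sdiff_KV ht ht0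
      · exact KV_add hX D.hz D.hp D.hp1 (D.line_sdiff_KV ht ht0) (D'.line_sdiff_KV hs hs0)
          (htp _ hs) (htp _ (act_mem_line hJ D.hp D.hp1 hs)) (fun e => ht0 (hdisj t ht (e ▸ hs)))
    · have := sub_mem h hs
      rwa [add_sub_cancel_right] at this
  have hAR : A ⊆ D'.RR := by
    rintro w ⟨hwK, hwp, h1, h2⟩
    exact ⟨hwK, (mem_perp_line hJ).2 ⟨h1, h2⟩, fun h => hwp (hT'perp h)⟩
  have hAB : Disjoint A Bs := by
    rw [Set.disjoint_left]
    rintro w ⟨-, hwp, -, -⟩ ⟨t, ht, -, s, hs, rfl⟩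
    exact hwp (add_mem (D.T_le_perp ht) (hT'perp hs))
  have hB : 12 ≤ Bs.ncard := by
    let g : {t : ↥D.T // t ≠ 0} × ↥D'.T → ↥Bs := fun x =>
      ⟨(x.1.1 : VV z) + x.2, x.1.1, x.1.1.2, fun e => x.1.2 (Subtype.ext e), x.2, x.2.2, rfl⟩
    have hg : Function.Injective g := by
      rintro ⟨⟨⟨t, ht⟩, t0⟩, ⟨s, hs⟩⟩ ⟨⟨⟨t', ht'⟩, t0'⟩, ⟨s', hs'⟩⟩ e
      have e' : t + s = t' + s' := congrArg Subtype.val e
      have e2 : t - t' = s' - s := sub_eq_sub_iff_add_eq_add.2 (e'.trans (add_comm _ _))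
      have e3 := hdisj _ (sub_mem ht ht') (e2 ▸ sub_mem hs' hs)
      rw [sub_eq_zero] at e3
      subst e3
      have e4 := add_left_cancel e'
      subst e4
      rfl
    have h1 := Nat.card_le_card_of_injective g hg
    haveI : Fintype ↥D.T := Fintype.ofFinite _
    have h3 : Nat.card {t : ↥D.T // t ≠ 0} = 3 := by
      rw [Nat.card_eq_fintype_card, Fintype.card_subtype_compl, Fintype.card_subtype_eq,
        ← Nat.card_eq_fintype_card, card_line hJ D.hp D.hp1 (D.hb.vk_ne D.hz)]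
    rw [Nat.card_prod, h3, card_line hJ D.hp D.hp1 (ha.vk_ne D.hz), Nat.card_coe_set_eq] at h1
    exact h1
  have h2 := Set.ncard_le_ncard (Set.union_subset hAR hBR) (Set.toFinite _)
  rw [Set.ncard_union_eq hAB (Set.toFinite _) (Set.toFinite _)] at h2
  have h4 := D'.card_RR_le
  have h5 := h30 D'
  omega

theorem ncard_KV_le (hX : Ctx z₀) (h30 : ∀ D' : Pt z₀ z P, D'.SS.ncard ≤ 30) (hne : D.RR.Nonempty) :
    (KV z₀ z).ncard ≤ 555 := by
  classical
  have hJ := D.hz.J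
  obtain ⟨q, hq⟩ := hne
  let F : ↥D.T → Set (VV z) := fun s =>
    {w | w ∈ KV z₀ z ∧ w ∉ perp hJ D.T ∧ BB z w (q + s) = 0 ∧ BB z w (act z D.p (q + s)) = 0}
  haveI : Fintype ↥D.T := Fintype.ofFinite _
  have hsub : KV z₀ z ⊆ ((D.T : Set (VV z)) \ {0} ∪ D.RR) ∪ ⋃ s ∈ (Finset.univ : Finset ↥D.T), F s := by
    intro w hw
    by_cases hp : w ∈ perp hJ D.T
    · by_cases hT : w ∈ D.T
      · exact Or.inl (Or.inl ⟨hT, KV_ne D.hz hw⟩)
      · exact Or.inl (Or.inr ⟨hw, hp, hT⟩)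
    · obtain ⟨s, hs, h1, h2⟩ := D.exists_third hX hq hp
      refine Or.inr (Set.mem_iUnion₂.2 ⟨⟨s, hs⟩, Finset.mem_univ _, hw, hp, h1, h2⟩)
  have hT : ((D.T : Set (VV z)) \ {0}).ncard = 3 := by
    rw [Set.ncard_sdiff_singleton_of_mem (zero_mem D.T), ← Nat.card_coe_set_eq]
    show Nat.card ↥D.T - 1 = 3
    rw [card_line hJ D.hp D.hp1 (D.hb.vk_ne D.hz)]
  have hR := D.card_RR_le
  have h30D := h30 D
  have hU : (⋃ s ∈ (Finset.univ : Finset ↥D.T), F s).ncard ≤ 432 := by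
    refine (Finset.set_ncard_biUnion_le _ _).trans ?_
    refine (Finset.sum_le_card_nsmul _ _ 108 fun s _ => D.ncard_RR_diff hX h30 (D.add_mem_RR hX hq s.2)).trans ?_
    rw [Finset.card_univ, ← Nat.card_eq_fintype_card, card_line hJ D.hp D.hp1 (D.hb.vk_ne D.hz)]
    norm_num
  refine (Set.ncard_le_ncard hsub (Set.toFinite _)).trans ?_
  refine (Set.ncard_union_le _ _).trans ?_
  have := Set.ncard_union_le ((D.T : Set (VV z)) \ {0}) D.RR
  omega

/-- The stabiliser of `b` in the inner part. -/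
noncomputable abbrev Stab : Subgroup G := H0 z P ⊓ centralizer ({D.b} : Set G)

theorem card_Stab (h555 : (KV z₀ z).ncard ≤ 555) : 2 ^ 13 * 1330560 ≤ Nat.card ↥D.Stab * 1110 := by
  classical
  have hJ := D.hz.J
  let f : ↥(H0 z P) → ↥(KV z₀ z) × Bool := fun k =>
    (⟨vk z ((k : G) * D.b * (k : G)⁻¹), _, D.hb.conj_mem D.hz (H0_le_HH z P k.2), rfl⟩,
      decide ((k : G) * D.b * (k : G)⁻¹ = rep z (vk z ((k : G) * D.b * (k : G)⁻¹))))
  have hlow := card_le_stab_mul (H0 z P) D.Stab f fun k l e => by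
    simp only [f, Prod.mk.injEq] at e
    obtain ⟨e1, e2⟩ := e
    replace e1 : vk z ((k : G) * D.b * (k : G)⁻¹) = vk z ((l : G) * D.b * (l : G)⁻¹) := congrArg Subtype.val e1
    have hx := conj_mem_EE (H0_le_HH z P k.2) D.hb.mem
    have hy := conj_mem_EE (H0_le_HH z P l.2) D.hb.mem
    rw [← e1, decide_eq_decide] at e2
    have eb : (k : G) * D.b * (k : G)⁻¹ = (l : G) * D.b * (l : G)⁻¹ := by
      rcases (vk_eq_vk_iff hJ hx (rep_mem (vk z ((k : G) * D.b * (k : G)⁻¹)))).1 (vk_rep _).symm with ex | ex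
      · exact ex.trans (e2.1 ex).symm
      · rcases (vk_eq_vk_iff hJ hy (rep_mem (vk z ((k : G) * D.b * (k : G)⁻¹)))).1
          ((vk_rep _).trans e1).symm with ey | ey
        · exact (e2.2 ey).trans ey.symm
        · exact ex.trans ey.symm
    refine mem_inf.2 ⟨mul_mem (inv_mem k.2) l.2, mem_centralizer_singleton_iff.2 ?_⟩
    calc (k : G)⁻¹ * l * D.b = (k : G)⁻¹ * (l * D.b * (l : G)⁻¹) * l := by group
      _ = _ := by rw [← eb]; group
  rw [D.hz.L.cardH0, Nat.card_prod, Nat.card_coe_set_eq, Nat.card_eq_fintype_card (α := Bool),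
    Fintype.card_bool] at hlow
  calc 2 ^ 13 * 1330560 ≤ Nat.card ↥D.Stab * ((KV z₀ z).ncard * 2) := hlow
    _ ≤ _ := Nat.mul_le_mul_left _ (by omega)

theorem Stab_fix {k : G} (hk : k ∈ D.Stab) {t : VV z} (ht : t ∈ D.T) : act z k t = t := by
  obtain ⟨hk0, hkb⟩ := mem_inf.1 hk
  have h1 : act z k (vk z D.b) = vk z D.b := by
    rw [act_vk (H0_le_HH z P hk0) D.hb.mem, mem_centralizer_singleton_iff.1 hkb, mul_inv_cancel_right]
  rcases (mem_line D.hz.J).1 ht with rfl | rfl | rfl | rfl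
  · rw [map_zero]
  · exact h1
  · rw [act_inner D.hz.J hk0 D.hp, h1]
  · rw [map_add, act_inner D.hz.J hk0 D.hp, h1]

theorem Stab_PI {k : G} (hk : k ∈ D.Stab) {u : VV z} (hu : u ∈ D.I) : act z k u ∈ D.I := by
  obtain ⟨hk0, hkb⟩ := mem_inf.1 hk
  obtain ⟨x, hx, hxE, rfl⟩ := hu
  rw [act_vk (H0_le_HH z P hk0) hxE]
  exact vk_mem_imgV (mem_inf.2 ⟨conj_mem_EE (H0_le_HH z P hk0) (mem_inf.1 hx).1,
    conj_mem_EE hkb (mem_inf.1 hx).2⟩) (conj_mem_EE (H0_le_HH z P hk0) hxE)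

theorem exists_rho : ∃ ρ : ↥D.Stab →* Equiv.Perm D.Ph, ∀ (k : ↥D.Stab) (u : ↥D.I),
    ρ k (D.pr u) = D.pr ⟨act z k u, D.Stab_PI k.2 u.2⟩ := by
  let g : ↥D.Stab → D.Ph → D.Ph := fun k => Quotient.lift
    (fun u : ↥D.I => D.pr ⟨act z k u, D.Stab_PI k.2 u.2⟩) fun u v huv => by
      have h1 : ((-u + v : ↥D.I) : VV z) ∈ D.T :=
        AddSubgroup.mem_addSubgroupOf.1 (QuotientAddGroup.leftRel_apply.1 huv)
      refine QuotientAddGroup.eq.2 (AddSubgroup.mem_addSubgroupOf.2 ?_)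
      rw [AddSubgroup.coe_add, NegMemClass.coe_neg] at h1 ⊢
      show -act z k (u : VV z) + act z k (v : VV z) ∈ D.T
      rw [← map_neg, ← map_add, D.Stab_fix k.2 h1]
      exact h1
  have hg : ∀ k u, g k (D.pr u) = D.pr ⟨act z k u, D.Stab_PI k.2 u.2⟩ := fun k u => rfl
  have hH : ∀ k : ↥D.Stab, (k : G) ∈ HH z := fun k => H0_le_HH z P (mem_inf.1 k.2).1
  have hmul : ∀ k l a, g (k * l) a = g k (g l a) := by
    intro k l a
    obtain ⟨u, rfl⟩ := D.pr_surj a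
    rw [hg, hg, hg]
    exact congrArg D.pr (Subtype.ext (act_mul (hH k) (hH l) _))
  have hone : ∀ a, g 1 a = a := by
    intro a
    obtain ⟨u, rfl⟩ := D.pr_surj a
    rw [hg]
    exact congrArg D.pr (Subtype.ext (act_one _))
  exact ⟨{ toFun := fun k => ⟨g k, g k⁻¹, fun a => by rw [← hmul, inv_mul_cancel, hone],
              fun a => by rw [← hmul, mul_inv_cancel, hone]⟩
           map_one' := Equiv.ext hone
           map_mul' := fun k l => Equiv.ext (hmul k l) }, hg⟩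

/-- The action on the quotient of the plane. -/
noncomputable def rho : ↥D.Stab →* Equiv.Perm D.Ph := D.exists_rho.choose

theorem rho_pr (k : ↥D.Stab) (u : ↥D.I) : D.rho k (D.pr u) = D.pr ⟨act z k u, D.Stab_PI k.2 u.2⟩ :=
  D.exists_rho.choose_spec k u

theorem rho_add (k : ↥D.Stab) (a c : D.Ph) : D.rho k (a + c) = D.rho k a + D.rho k c := by
  obtain ⟨u, rfl⟩ := D.pr_surj a
  obtain ⟨v, rfl⟩ := D.pr_surj c
  rw [← pr_add, rho_pr, rho_pr, rho_pr, ← pr_add]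
  exact congrArg D.pr (Subtype.ext (by simp only [AddSubgroup.coe_add, map_add]))

theorem rho_beta (k : ↥D.Stab) (a c : D.Ph) : D.beta (D.rho k a) (D.rho k c) = D.beta a c := by
  obtain ⟨u, rfl⟩ := D.pr_surj a
  obtain ⟨v, rfl⟩ := D.pr_surj c
  rw [rho_pr, rho_pr, beta_mk, beta_mk]
  have hk0 := (mem_inf.1 k.2).1
  show BB z (act z k (u : VV z)) (act z D.p (act z k (v : VV z))) = _
  rw [← act_inner D.hz.J hk0 D.hp, BB_act D.hz.J (H0_le_HH z P hk0)]

theorem rho_SS (k : ↥D.Stab) : ∀ c ∈ D.SS, (D.rho k c.1, D.rho k c.2) ∈ D.SS := by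
  rintro _ ⟨u, v, rfl, h⟩
  rw [rho_pr, rho_pr]
  refine D.mem_SS_of ?_
  have hk0 := (mem_inf.1 k.2).1
  have hH := H0_le_HH z P hk0
  show act z k (u : VV z) + act z D.p (act z k (v : VV z)) ∈ D.RR
  rw [← act_inner D.hz.J hk0 D.hp, ← map_add]
  refine ⟨KV_act D.hz hH h.1, ?_, fun hT => h.2.2 ?_⟩
  · intro t ht
    rw [← D.Stab_fix k.2 ht, BB_act D.hz.J hH]
    exact h.2.1 t ht
  · have := D.Stab_fix (inv_mem k.2) hT
    rw [act_inv_act hH] at this
    exact this ▸ hT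

theorem card_ker_rho : Nat.card ↥D.rho.ker ≤ 2 ^ 16 := by
  classical
  have hJ := D.hz.J
  set K := D.rho.ker.map D.Stab.subtype
  have hKS : K ≤ D.Stab := map_subtype_le _
  have hsq : ∀ k ∈ K, k * k ∈ EE z := by
    rintro _ ⟨⟨k, hk⟩, hker, rfl⟩
    show k * k ∈ EE z
    obtain ⟨hk0, hkb⟩ := mem_inf.1 hk
    have hH := H0_le_HH z P hk0
    have h1 : ∀ u ∈ D.I, nil z k u ∈ D.T := fun u hu => by
      have e := Equiv.Perm.ext_iff.1 (MonoidHom.mem_ker.1 hker) (D.pr ⟨u, hu⟩)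
      rw [rho_pr, Equiv.Perm.one_apply] at e
      refine (D.pr_eq_zero (u := (⟨act z k u, D.Stab_PI hk hu⟩ : ↥D.I) + ⟨u, hu⟩)).1 ?_
      rw [pr_add, e, D.Ph_two]
    have h2 : ∀ x ∈ perp hJ D.T, nil z k x ∈ D.T := fun x hx => by
      obtain ⟨u, hu, v, hv, rfl⟩ := (mem_perp_line_iff D.hz D.hgb D.hb D.hp D.hp1).1 hx
      rw [map_add, nil_comm hJ hk0 D.hp]
      exact add_mem (h1 u hu) (act_mem_line hJ D.hp D.hp1 (h1 v hv))
    have h3 : ∀ t ∈ D.T, nil z k t = 0 := fun t ht => by rw [nil_apply, D.Stab_fix hk ht, VV.two hJ]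
    have h4 : ∀ x, nil z k x ∈ perp hJ D.T := fun x t ht => by
      rw [nil_apply, BB_add_left hJ]
      conv_lhs => arg 1; rw [← D.Stab_fix hk ht, BB_act hJ hH]
      exact CharTwo.add_self_eq_zero _
    have h5 : perp hJ D.T ≤ (nil z (k * k)).ker := fun x hx => by
      rw [AddMonoidHom.mem_ker, ← nil_nil hJ hH]
      exact h3 _ (h2 x hx)
    have h6 : k * k * (k * k) ∈ EE z := by
      refine act_eq_id_mem hJ (mul_mem (mul_mem hH hH) (mul_mem hH hH)) fun x => VV.eq_of_add hJ ?_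
      have e := nil_nil hJ (mul_mem hH hH) x
      rw [nil_apply (k * k * (k * k))] at e
      rw [← e, ← nil_nil hJ hH, ← nil_nil hJ hH]
      rw [h3 _ (h2 _ (h4 x)), map_zero]
    by_contra hE
    have h7 := AddSubgroup.card_le_of_le h5
    rw [card_perp_line hJ D.hp D.hp1 (D.hb.vk_ne D.hz), card_ker_inner D.hz.L (mul_mem hk0 hk0) hE h6] at h7
    norm_num at h7
  have hKH : K ≤ HH z := hKS.trans (inf_le_left.trans (H0_le_HH z P))
  have hA : Nat.card ↥(K ⊔ EE z : Subgroup G) ≤ 2 ^ 13 * 16 := by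
    refine D.hz.L.elem_le _ le_sup_right (sup_le (hKS.trans inf_le_left) (EE_le_H0 z P)) fun a ha => ?_
    have hn : K ≤ normalizer (EE z : Set G) := fun c hc => by
      rw [mem_normalizer_iff]
      exact fun x => ⟨conj_mem_EE (hKH hc), fun hx => by simpa [mul_assoc] using conj_mem_EE' (hKH hc) hx⟩
    rw [sup_comm] at ha
    obtain ⟨e, he, s, hs, rfl⟩ := (Coprime.mem_sup_of_le_normalizer hn).1 ha
    rw [show e * s * (e * s) = e * (s * e * s⁻¹) * (s * s) by group]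
    exact mul_mem (mul_mem he (conj_mem_EE (hKH hs) he)) (hsq s hs)
  have hrel : (EE z).relIndex K ≤ 16 := by
    have h3 : Nat.card ↥(EE z) * (EE z).relIndex (K ⊔ EE z) = Nat.card ↥(K ⊔ EE z : Subgroup G) := by
      rw [← relIndex_bot_left (EE z), ← relIndex_bot_left (K ⊔ EE z),
        relIndex_mul_relIndex _ _ _ bot_le le_sup_right]
    rw [← h3, hJ.cardE] at hA
    exact (relIndex_le_of_le_right le_sup_left index_ne_zero_of_finite).trans
      (Nat.le_of_mul_le_mul_left hA (by norm_num))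
  have hI : Nat.card ↥(EE z ⊓ K : Subgroup G) ≤ 2 ^ 12 := by
    rw [← card_CE hJ D.hb.mem (D.hz.not_mem_zpowers D.hb.ne D.hb.conj)]
    exact Subgroup.card_le_of_le fun x hx =>
      mem_inf.2 ⟨(mem_inf.1 hx).1, (mem_inf.1 (hKS (mem_inf.1 hx).2)).2⟩
  have h1 : Nat.card ↥(EE z ⊓ K : Subgroup G) * (EE z).relIndex K = Nat.card ↥K := by
    rw [← relIndex_bot_left (EE z ⊓ K), ← relIndex_bot_left K, ← inf_relIndex_right (EE z) K,
      relIndex_mul_relIndex _ _ _ bot_le inf_le_right]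
  rw [← card_map_of_injective D.Stab.subtype_injective (K := D.rho.ker), ← h1]
  exact le_trans (Nat.mul_le_mul hI hrel) (by norm_num)

theorem card_range_rho (h555 : (KV z₀ z).ncard ≤ 555) : 144 < Nat.card ↥D.rho.range := by
  have h1 := D.card_Stab h555
  have h2 := D.rho.ker.card_mul_index
  rw [index_ker] at h2
  have h3 := D.card_ker_rho
  by_contra h
  push Not at h
  have := Nat.mul_le_mul h3 h
  omega

end Pt

end Cfsg.Agent.J4Local
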