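import Cfsg.Agent.Lib.M22Order.Elem
import Cfsg.Agent.Lib.Golay.M22TwoBlock

/-!
# M22: the facts used for the fourth Janko type local analysis

For a simple group of order 443520: a Sylow 3-subgroup is elementary of order 9, self-centralizing,
with a normalizer of order 72 that is transitive on its nonidentity elements; there is an elementary
abelian subgroup of order 16. For the automorphism group: one subgroup of index two.
-/

set_option autoImplicit false
set_option linter.style.haveILetI false
set_option linter.unusedSectionVars false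

namespace Cfsg.Agent.J4Local

open Subgroup
open Cfsg.Agent.M12Order (cen)

universe u

section order

variable {G : Type u} [Group G] [Finite G] [IsSimpleGroup G] (hcard : Nat.card G = 443520)

include hcard

theorem three_card (P : Sylow 3 G) : Nat.card (P : Subgroup G) = 9 := M22Order.card_sylow_three hcard P

theorem three_commute (P : Sylow 3 G) {a b : G} (ha : a ∈ (P : Subgroup G))
    (hb : b ∈ (P : Subgroup G)) : Commute a b := by
  haveI : Fact (Nat.Prime 3) := ⟨Nat.prime_three⟩
  letI := IsPGroup.commGroupOfCardEqPrimeSq (p := 3) (G := (P : Subgroup G))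
    (by rw [three_card hcard P]; norm_num)
  exact congrArg Subtype.val (mul_comm (⟨a, ha⟩ : (P : Subgroup G)) ⟨b, hb⟩)

theorem three_pow (P : Sylow 3 G) {x : G} (hx : x ∈ (P : Subgroup G)) : x ^ 3 = 1 := by
  haveI : Fact (Nat.Prime 3) := ⟨Nat.prime_three⟩
  obtain ⟨S⟩ := M22Order.exists_setup hcard
  have hS : Nat.card S.P = 3 ^ (Nat.card G).factorization 3 := by
    rw [S.hP, M22Order.factorization_three hcard]; norm_num
  obtain ⟨c, hc⟩ := MulAction.exists_smul_eq G (Sylow.ofCard S.P hS) P
  rw [← hc, Sylow.coe_subgroup_smul, Subgroup.mem_pointwise_smul_iff_inv_smul_mem] at hx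
  set y := (MulAut.conj c)⁻¹ • x with hy
  suffices h : y ^ 3 = 1 by
    have := congrArg (MulAut.conj c) h
    rw [map_pow, map_one, hy, MulAut.smul_def, MulAut.apply_inv_self] at this
    exact this
  have hyP : y ∈ S.P := hx
  letI := IsPGroup.commGroupOfCardEqPrimeSq (p := 3) (G := S.P) (by rw [S.hP]; norm_num)
  set K := (powMonoidHom 3 : S.P →* S.P).ker with hK
  have h3 : ∀ u : S.P, u ∈ K ↔ (u : G) ^ 3 = 1 := fun u => by
    rw [hK, MonoidHom.mem_ker, powMonoidHom_apply, ← Subtype.coe_inj, coe_pow, OneMemClass.coe_one]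
  have hr : (⟨S.r, S.hrP⟩ : S.P) ∈ K := (h3 _).2 (S.hr ▸ pow_orderOf_eq_one S.r)
  have ha : (⟨S.a, S.haP⟩ : S.P) ∈ K := (h3 _).2 (S.ha ▸ pow_orderOf_eq_one S.a)
  obtain ⟨i, hi, hci⟩ := (Nat.dvd_prime_pow Nat.prime_three).1
    (show Nat.card K ∣ 3 ^ 2 by rw [show (3 : ℕ) ^ 2 = Nat.card S.P by rw [S.hP]; norm_num]
                                exact K.card_subgroup_dvd_card)
  have hlt : 3 < Nat.card K := by
    by_contra hle
    have hz : zpowers (⟨S.r, S.hrP⟩ : S.P) = K := by
      refine eq_of_le_of_card_ge (zpowers_le.2 hr) ?_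
      rw [Nat.card_zpowers, Subgroup.orderOf_mk, S.hr]; omega
    rw [← hz] at ha
    obtain ⟨k, hk⟩ := mem_zpowers_iff.1 ha
    exact S.har (mem_zpowers_iff.2 ⟨k, by simpa using congrArg Subtype.val hk⟩)
  have hKtop : K = ⊤ := eq_top_of_card_eq K (by
    rw [S.hP, hci]
    interval_cases i <;> simp_all)
  exact (h3 ⟨y, hyP⟩).1 (hKtop ▸ mem_top _)

theorem three_orderOf (P : Sylow 3 G) {x : G} (hx : x ∈ (P : Subgroup G)) (h1 : x ≠ 1) :
    orderOf x = 3 := by
  haveI : Fact (Nat.Prime 3) := ⟨Nat.prime_three⟩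
  exact orderOf_eq_prime (three_pow hcard P hx) h1

/-- A Sylow 3-subgroup is its own centralizer. -/
theorem three_centralizer (P : Sylow 3 G) :
    centralizer ((P : Subgroup G) : Set G) = (P : Subgroup G) := by
  have hle : (P : Subgroup G) ≤ centralizer ((P : Subgroup G) : Set G) := fun a ha =>
    mem_centralizer_iff.2 fun b hb => (three_commute hcard P hb ha).eq
  refine (eq_of_le_of_card_ge hle ?_).symm
  rw [three_card hcard P]
  obtain ⟨r, hrP, hr1⟩ := (P : Subgroup G).bot_or_exists_ne_one.resolve_left fun e => by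
    have := three_card hcard P
    rw [e, Subgroup.card_bot] at this
    omega
  have hr := three_orderOf hcard P hrP hr1
  have hsub : centralizer ((P : Subgroup G) : Set G) ≤ centralizer ({r} : Set G) :=
    centralizer_le (Set.singleton_subset_iff.2 hrP)
  have h36 : Nat.card (centralizer ((P : Subgroup G) : Set G)) ∣ 36 := by
    rw [← M22Order.cen_three hcard hr]; exact card_dvd_of_le hsub
  have h2 : ¬ 2 ∣ Nat.card (centralizer ((P : Subgroup G) : Set G)) := by
    intro h
    haveI : Fact (Nat.Prime 2) := ⟨Nat.prime_two⟩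
    obtain ⟨t, ht⟩ := exists_prime_orderOf_dvd_card'
      (G := centralizer ((P : Subgroup G) : Set G)) 2 h
    have hrt : Commute r (t : G) := mem_centralizer_iff.1 t.2 r hrP
    have hP12 : (P : Subgroup G) ≤ centralizer ({r} : Set G) ⊓ centralizer ({(t : G)} : Set G) :=
      fun a ha => ⟨mem_centralizer_singleton_iff.2 (three_commute hcard P ha hrP).eq,
        mem_centralizer_singleton_iff.2 (mem_centralizer_iff.1 t.2 a ha)⟩
    have := card_dvd_of_le hP12
    rw [three_card hcard P, M22Order.cen_three_inf_involution hcard hr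
      (by rw [Subgroup.orderOf_coe, ht]) hrt] at this
    norm_num at this
  have h94 : Nat.card (centralizer ((P : Subgroup G) : Set G)) ∣ 9 := by
    refine Nat.Coprime.dvd_of_dvd_mul_right ?_ (show _ ∣ 9 * 4 from h36)
    rw [show (4 : ℕ) = 2 ^ 2 by norm_num]
    exact Nat.Coprime.pow_right 2 ((Nat.prime_two.coprime_iff_not_dvd.2 h2).symm)
  exact Nat.le_of_dvd (by norm_num) h94

/-- All nonidentity elements of a Sylow 3-subgroup are conjugate in its normalizer. -/
theorem three_trans (P : Sylow 3 G) {r s : G} (hr : r ∈ (P : Subgroup G)) (hr1 : r ≠ 1)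
    (hs : s ∈ (P : Subgroup G)) (hs1 : s ≠ 1) :
    ∃ n ∈ normalizer ((P : Subgroup G) : Set G), n * r * n⁻¹ = s := by
  haveI : Fact (Nat.Prime 3) := ⟨Nat.prime_three⟩
  obtain ⟨g, hg⟩ := isConj_iff.1 (M22Order.isConj_three hcard (three_orderOf hcard P hr hr1)
    (three_orderOf hcard P hs hs1))
  have hcP : ∀ a ∈ (P : Subgroup G), a ∈ centralizer ((P : Subgroup G) : Set G) := fun a ha => by
    rw [three_centralizer hcard P]; exact ha
  obtain ⟨n, hn, e⟩ := P.conj_eq_normalizer_conj_of_mem_centralizer r g⁻¹ (hcP r hr)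
    (by rw [inv_inv, hg]; exact hcP s hs)
  exact ⟨n⁻¹, inv_mem hn, by rw [inv_inv, ← e, inv_inv, hg]⟩

/-- A subgroup of the stabilizer of `r` meeting the Sylow 3-subgroup trivially permutes its six
elements outside `⟨r⟩` freely. -/
theorem three_free (P : Sylow 3 G) {r : G} (hr : r ∈ (P : Subgroup G)) (hr1 : r ≠ 1) (T : Subgroup G)
    (hT : T ≤ normalizer ((P : Subgroup G) : Set G) ⊓ centralizer ({r} : Set G))
    (hTP : T ⊓ (P : Subgroup G) = ⊥) : Nat.card T ∣ 6 := by
  classical
  have hr3 := three_orderOf hcard P hr hr1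
  let Ω : Set G := ((P : Subgroup G) : Set G) \ (zpowers r : Set G)
  have hΩ : Nat.card Ω = 6 := by
    rw [Nat.card_coe_set_eq, Set.ncard_sdiff (zpowers_le.2 hr : zpowers r ≤ (P : Subgroup G)) (Set.toFinite _),
      ← Nat.card_coe_set_eq, ← Nat.card_coe_set_eq]
    show Nat.card (P : Subgroup G) - Nat.card (zpowers r) = 6
    rw [three_card hcard P, Nat.card_zpowers, hr3]
  have hstab : ∀ u ∈ T, ∀ x ∈ Ω, u * x * u⁻¹ ∈ Ω := by
    intro u hu x hx
    refine ⟨(mem_normalizer_iff.1 (hT hu).1 x).1 hx.1, fun h => hx.2 ?_⟩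
    obtain ⟨i, hi⟩ := mem_zpowers_iff.1 h
    refine mem_zpowers_iff.2 ⟨i, ?_⟩
    have hc : Commute u (r ^ i) :=
      (show Commute u r from mem_centralizer_singleton_iff.1 (hT hu).2).zpow_right i
    calc r ^ i = u⁻¹ * (r ^ i) * u := by rw [mul_assoc, ← hc.eq, inv_mul_cancel_left]
      _ = x := by rw [hi]; group
  letI : MulAction T Ω :=
    { smul := fun u x => ⟨(u : G) * x * (u : G)⁻¹, hstab u u.2 x x.2⟩
      one_smul := fun x => Subtype.ext (by show (1 : G) * x * (1 : G)⁻¹ = x; group)
      mul_smul := fun u v x => Subtype.ext (by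
        show ((u * v : T) : G) * x * ((u * v : T) : G)⁻¹ =
          (u : G) * ((v : G) * x * (v : G)⁻¹) * (u : G)⁻¹
        rw [coe_mul]; group) }
  have hfree : ∀ x : Ω, MulAction.stabilizer T x = ⊥ := by
    intro x
    rw [eq_bot_iff]
    intro u hu
    have hux : (u : G) * x * (u : G)⁻¹ = x := congrArg Subtype.val (MulAction.mem_stabilizer_iff.1 hu)
    let K : Subgroup G := zpowers r ⊔ zpowers (x : G)
    have hK : K = (P : Subgroup G) := by
      refine eq_of_le_of_card_ge (sup_le (zpowers_le.2 hr) (zpowers_le.2 x.2.1)) ?_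
      rw [three_card hcard P]
      obtain ⟨i, hi, hci⟩ := (Nat.dvd_prime_pow Nat.prime_three).1
        (show Nat.card K ∣ 3 ^ 2 by
          rw [show (3 : ℕ) ^ 2 = Nat.card (P : Subgroup G) by rw [three_card hcard P]; norm_num]
          exact card_dvd_of_le (sup_le (zpowers_le.2 hr) (zpowers_le.2 x.2.1)))
      by_contra hlt
      have h3 : zpowers r = K := eq_of_le_of_card_ge le_sup_left (by
        rw [Nat.card_zpowers, hr3, hci]
        interval_cases i <;> simp_all)
      exact x.2.2 (h3 ▸ le_sup_right (a := zpowers r) (mem_zpowers (x : G)))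
    have hle : K ≤ centralizer ({(u : G)} : Set G) := sup_le
      (zpowers_le.2 (mem_centralizer_singleton_iff.2 (mem_centralizer_singleton_iff.1 (hT u.2).2).symm))
      (zpowers_le.2 (mem_centralizer_singleton_iff.2 (mul_inv_eq_iff_eq_mul.1 hux).symm))
    rw [hK] at hle
    have huP : (u : G) ∈ centralizer ((P : Subgroup G) : Set G) :=
      mem_centralizer_iff.2 fun a ha => mem_centralizer_singleton_iff.1 (hle ha)
    rw [three_centralizer hcard P] at huP
    have : (u : G) ∈ T ⊓ (P : Subgroup G) := ⟨u.2, huP⟩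
    rw [hTP, mem_bot] at this
    exact mem_bot.2 (Subtype.ext this)
  rw [← hΩ, Nat.card_congr (MulAction.selfEquivOrbitsQuotientProd hfree), Nat.card_prod]
  exact dvd_mul_left _ _

/-- The stabilizer of an element of order three in the normalizer of a Sylow 3-subgroup is that
subgroup. -/
theorem three_stabilizer (P : Sylow 3 G) {r : G} (hr : r ∈ (P : Subgroup G)) (hr1 : r ≠ 1) :
    normalizer ((P : Subgroup G) : Set G) ⊓ centralizer ({r} : Set G) = (P : Subgroup G) := by
  haveI : Fact (Nat.Prime 3) := ⟨Nat.prime_three⟩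
  haveI : Fact (Nat.Prime 2) := ⟨Nat.prime_two⟩
  set S := normalizer ((P : Subgroup G) : Set G) ⊓ centralizer ({r} : Set G) with hS
  have hPC : (P : Subgroup G) ≤ centralizer ({r} : Set G) :=
    fun a ha => mem_centralizer_singleton_iff.2 (three_commute hcard P ha hr).eq
  have hle : (P : Subgroup G) ≤ S := le_inf le_normalizer hPC
  have hcen : Nat.card (centralizer ({r} : Set G)) = 36 :=
    M22Order.cen_three hcard (three_orderOf hcard P hr hr1)
  have hmod := M22Order.relIndex_mod P _ hPC
  have hmul : Nat.card S * (normalizer ((P : Subgroup G) : Set G)).relIndex (centralizer ({r} : Set G))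
      = 36 := by
    rw [Subgroup.relIndex, ← hcen, ← card_mul_index
      ((normalizer ((P : Subgroup G) : Set G)).subgroupOf (centralizer ({r} : Set G))), hS]
    congr 1
    rw [← inf_subgroupOf_right]
    exact (Nat.card_congr (subgroupOfEquivOfLe inf_le_right).toEquiv).symm
  have h9 : 9 ∣ Nat.card S := three_card hcard P ▸ card_dvd_of_le hle
  refine (eq_of_le_of_card_ge hle ?_).symm
  rw [three_card hcard P]
  by_contra hgt
  obtain ⟨k, hk⟩ := h9
  have h4 : 2 ^ 2 ∣ Nat.card S := by
    have hk4 : k ∣ 4 := ⟨_, Nat.eq_of_mul_eq_mul_left (by norm_num : 0 < 9)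
      (by rw [← mul_assoc, ← hk]; exact hmul.symm)⟩
    have := Nat.le_of_dvd (by norm_num) hk4
    interval_cases k
    · omega
    · omega
    · rw [hk] at hmul; omega
    · norm_num at hk4
    · rw [hk]; norm_num
  obtain ⟨T₀, hT₀⟩ := Sylow.exists_subgroup_card_pow_prime 2 h4
  have hT : Nat.card (T₀.map S.subtype) = 4 := by
    rw [card_map_of_injective S.subtype_injective, hT₀]; norm_num
  have := three_free hcard P hr hr1 (T₀.map S.subtype) (map_subtype_le _)
    (disjoint_of_coprime_natCard (by rw [hT, three_card hcard P]; norm_num)).eq_bot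
  rw [hT] at this
  norm_num at this

/-- The normalizer of a Sylow 3-subgroup has order 72. -/
theorem three_card_normalizer (P : Sylow 3 G) :
    Nat.card (normalizer ((P : Subgroup G) : Set G)) = 72 := by
  classical
  obtain ⟨r, hr, hr1⟩ := (P : Subgroup G).bot_or_exists_ne_one.resolve_left fun e => by
    have := three_card hcard P
    rw [e, Subgroup.card_bot] at this
    omega
  have h := M22Order.ncard_conj_orbit (normalizer ((P : Subgroup G) : Set G)) (le_normalizer hr)
  rw [inf_comm, three_stabilizer hcard P hr hr1, three_card hcard P] at h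
  have horb : {x : G | ∃ k ∈ normalizer ((P : Subgroup G) : Set G), k * r * k⁻¹ = x} =
      ((P : Subgroup G) : Set G) \ {1} := by
    ext x
    constructor
    · rintro ⟨k, hk, rfl⟩
      exact ⟨(mem_normalizer_iff.1 hk r).1 hr, fun h => hr1 (conj_eq_one_iff.1 h)⟩
    · rintro ⟨hx, hx1⟩
      exact three_trans hcard P hr hr1 hx hx1
  rw [horb, Set.ncard_sdiff_singleton_of_mem (one_mem (P : Subgroup G)), ← Nat.card_coe_set_eq] at h
  rw [← h]
  show (Nat.card (P : Subgroup G) - 1) * 9 = 72
  rw [three_card hcard P]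

theorem exists_elementary_sixteen :
    ∃ E : Subgroup G, Nat.card E = 16 ∧ (∀ x ∈ E, x * x = 1) ∧ ∀ x ∈ E, ∀ y ∈ E, Commute x y := by
  obtain ⟨S⟩ := M22Order.exists_setup hcard
  exact ⟨S.E, S.card_E hcard, fun x hx => S.sq hcard hx, fun x hx y hy => S.comm hcard hx hy⟩

end order

/-- The automorphism group of M22 has one subgroup of index two. -/
theorem inn_eq_of_index_two {K : Subgroup (MulAut Spor.M22)} (hK : K.index = 2) :
    K = Cfsg.Inn Spor.M22 := by
  haveI := Cfsg.Agent.Golay.M22TwoBlock.isSimple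
  haveI hn : K.Normal := normal_of_index_eq_two hK
  have hle : Cfsg.Inn Spor.M22 ≤ K := by
    rintro _ ⟨m, rfl⟩
    rcases (inferInstance : (K.comap MulAut.conj).Normal).eq_bot_or_eq_top with h | h
    · exfalso
      have hdvd : (K.comap (MulAut.conj (G := Spor.M22))).index ∣ 2 := by
        rw [index_comap]
        exact hK ▸ relIndex_dvd_index_of_normal K _
      rw [h, index_bot, Cfsg.Agent.Golay.M22Involution.card_M22] at hdvd
      norm_num at hdvd
    · exact mem_comap.1 (h ▸ mem_top m)
  refine (eq_of_le_of_card_ge hle (le_of_eq ?_)).symm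
  have h1 := K.card_mul_index
  have h2 := (Cfsg.Inn Spor.M22).card_mul_index
  rw [hK] at h1
  rw [Cfsg.Agent.Golay.AutM22.index_inn] at h2
  omega

end Cfsg.Agent.J4Local
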