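import Cfsg.Prelude.Def_JankoFourType
import Cfsg.Agent.Lib.J4Local.M22Facts
import Cfsg.Agent.Lib.Cores.Basic

/-!
# Janko four type: the centralizer of `P` in the centralizer of the involution

`C = C(z) ∩ C(P)` maps onto M22 with central kernel `P ⊔ ⟨z⟩` of order 6, and has index two in
`C(z) ∩ N(P)`, which maps onto the automorphism group of M22.
-/

set_option autoImplicit false
set_option linter.style.haveILetI false
set_option linter.unusedSectionVars false

namespace Cfsg.Agent.J4Local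

open Subgroup
open scoped commutatorElement

universe u

variable {G : Type u} [Group G] [Finite G]

/-- The centralizer of the involution. -/
abbrev Hz (z : G) : Subgroup G := centralizer ({z} : Set G)

/-- The centralizer of `P` in the centralizer of the involution. -/
abbrev CP (z : G) (P : Subgroup G) : Subgroup G := Hz z ⊓ centralizer (P : Set G)

/-- The normalizer of `P` in the centralizer of the involution. -/
abbrev NPz (z : G) (P : Subgroup G) : Subgroup G := Hz z ⊓ normalizer (P : Set G)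

variable {z : G} {P : Subgroup G} (hJ : Cfsg.IsOfJankoFourTypeWith z P)

include hJ

theorem orderOf_z : orderOf z = 2 := hJ.1

theorem card_P : Nat.card P = 3 := by obtain ⟨-, -, -, -, -, h, -⟩ := hJ; exact h

theorem core_inf : twoCoreOfCentralizer z ⊓ centralizer (P : Set G) = zpowers z := by
  obtain ⟨-, -, -, -, -, -, h, -⟩ := hJ; exact h

theorem P_le_Hz : P ≤ Hz z := by
  obtain ⟨-, -, -, -, ⟨N, -, hN, -, -, -, hPN⟩, -⟩ := hJ; exact hPN.trans hN

theorem P_comm {a b : G} (ha : a ∈ P) (hb : b ∈ P) : Commute a b := by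
  haveI : Fact (Nat.Prime 3) := ⟨Nat.prime_three⟩
  haveI := isCyclic_of_prime_card (card_P hJ)
  exact congrArg Subtype.val (mul_comm' (⟨a, ha⟩ : P) ⟨b, hb⟩)

theorem P_le_CP : P ≤ CP z P :=
  le_inf (P_le_Hz hJ) fun a ha => mem_centralizer_iff.2 fun b hb => (P_comm hJ hb ha).eq

theorem z_mem_CP : z ∈ CP z P :=
  ⟨mem_centralizer_singleton_iff.2 rfl, mem_centralizer_iff.2 fun a ha =>
    mem_centralizer_singleton_iff.1 (P_le_Hz hJ ha)⟩

theorem six_le : P ⊔ zpowers z ≤ CP z P :=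
  sup_le (P_le_CP hJ) (zpowers_le.2 (z_mem_CP hJ))

theorem six_central {a b : G} (ha : a ∈ P ⊔ zpowers z) (hb : b ∈ CP z P) : Commute a b := by
  have hle : P ⊔ zpowers z ≤ centralizer ({b} : Set G) := sup_le
    (fun x hx => mem_centralizer_singleton_iff.2 (mem_centralizer_iff.1 hb.2 x hx))
    (zpowers_le.2 (mem_centralizer_singleton_iff.2 (mem_centralizer_singleton_iff.1 hb.1).symm))
  exact mem_centralizer_singleton_iff.1 (hle ha)

theorem exists_gen : ∃ g, orderOf g = 3 ∧ zpowers g = P := by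
  haveI : Fact (Nat.Prime 3) := ⟨Nat.prime_three⟩
  obtain ⟨g, hg⟩ := exists_prime_orderOf_dvd_card' (G := P) 3 (by rw [card_P hJ])
  have hg' : orderOf (g : G) = 3 := by rw [Subgroup.orderOf_coe, hg]
  exact ⟨g, hg', eq_of_le_of_card_ge (zpowers_le.2 g.2) (by rw [card_P hJ, Nat.card_zpowers, hg'])⟩

theorem exists_six : ∃ x ∈ P ⊔ zpowers z, orderOf x = 6 ∧ zpowers x = P ⊔ zpowers z := by
  obtain ⟨g, hg, hgP⟩ := exists_gen hJ
  have hgm : g ∈ P := hgP ▸ mem_zpowers g
  have hc : Commute z g := (mem_centralizer_iff.1 (z_mem_CP hJ).2 g hgm).symm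
  have hx : orderOf (z * g) = 6 := by
    rw [hc.orderOf_mul_eq_mul_orderOf_of_coprime (by rw [orderOf_z hJ, hg]; norm_num), orderOf_z hJ, hg]
  refine ⟨z * g, mul_mem (mem_sup_right (mem_zpowers z)) (mem_sup_left hgm), hx, le_antisymm
    (zpowers_le.2 (mul_mem (mem_sup_right (mem_zpowers z)) (mem_sup_left hgm))) (sup_le ?_ ?_)⟩
  · rw [← hgP, zpowers_le, mem_zpowers_iff]
    refine ⟨4, ?_⟩
    rw [zpow_ofNat, hc.mul_pow, ← pow_mod_orderOf z, ← pow_mod_orderOf g, orderOf_z hJ, hg]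
    simp
  · rw [zpowers_le, mem_zpowers_iff]
    refine ⟨3, ?_⟩
    rw [zpow_ofNat, hc.mul_pow, ← pow_mod_orderOf z, ← pow_mod_orderOf g, orderOf_z hJ, hg]
    simp

theorem card_six : Nat.card ↥(P ⊔ zpowers z) = 6 := by
  obtain ⟨x, -, hx, e⟩ := exists_six hJ
  rw [← e, Nat.card_zpowers, hx]

/-- The normalizer of `P` in `C(z)` maps onto `Aut M22` with kernel `P ⊔ ⟨z⟩`. -/
theorem exists_aut_hom : ∃ f : ↥(NPz z P) →* MulAut ↥Spor.M22,
    Function.Surjective f ∧ f.ker = (P ⊔ zpowers z).subgroupOf (NPz z P) := by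
  classical
  haveI : Fact (Nat.Prime 3) := ⟨Nat.prime_three⟩
  have hP3 := card_P hJ
  have hcore := core_inf hJ
  obtain ⟨-, -, hEcard, -, ⟨N, hEN, hNH, hHN, hNcard, ⟨hnorm, ⟨ψ⟩⟩, hPN⟩, -⟩ := hJ
  haveI := hnorm
  let φ : ↥(Hz z) →* MulAut ↥Spor.M22 := ψ.toMonoidHom.comp (QuotientGroup.mk' _)
  have hker : ∀ x : ↥(Hz z), φ x = 1 ↔ (x : G) ∈ N := fun x => by
    show ψ (QuotientGroup.mk' _ x) = 1 ↔ _
    rw [MulEquiv.map_eq_one_iff, QuotientGroup.mk'_apply, QuotientGroup.eq_one_iff, mem_subgroupOf]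
  let f : ↥(NPz z P) →* MulAut ↥Spor.M22 := φ.comp (Subgroup.inclusion inf_le_left)
  refine ⟨f, fun a => ?_, ?_⟩
  · obtain ⟨⟨h, hh⟩, hha⟩ := (ψ.surjective.comp (QuotientGroup.mk'_surjective _)) a
    -- move `P` back by an element of `N`
    set Q := P.map (MulAut.conj h).toMonoidHom with hQ
    have hQN : Q ≤ N := by
      rintro _ ⟨x, hx, rfl⟩
      exact (mem_normalizer_iff.1 (hHN hh) x).1 (hPN hx)
    have hf : (Nat.card N).factorization 3 = 1 := by
      rw [hNcard, hEcard, Nat.factorization_mul (by norm_num) (by norm_num), Finsupp.add_apply,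
        Nat.Prime.factorization_self Nat.prime_three, Nat.Prime.factorization_pow Nat.prime_two,
        Finsupp.single_eq_of_ne (by norm_num), add_zero]
    have hPc : Nat.card (P.subgroupOf N) = 3 ^ (Nat.card N).factorization 3 := by
      rw [Nat.card_congr (subgroupOfEquivOfLe hPN).toEquiv, hP3, hf, pow_one]
    have hQc : Nat.card (Q.subgroupOf N) = 3 ^ (Nat.card N).factorization 3 := by
      rw [Nat.card_congr (subgroupOfEquivOfLe hQN).toEquiv, hQ,
        card_map_of_injective (MulAut.conj h).injective, hP3, hf, pow_one]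
    obtain ⟨n, hn⟩ := MulAction.exists_smul_eq N (Sylow.ofCard _ hQc) (Sylow.ofCard _ hPc)
    have hmem : ∀ x : G, x ∈ P → (n : G) * (h * x * h⁻¹) * (n : G)⁻¹ ∈ P := by
      intro x hx
      have h1 : h * x * h⁻¹ ∈ Q := ⟨x, hx, rfl⟩
      have h2 : n * ⟨_, hQN h1⟩ * n⁻¹ ∈ ((n • Sylow.ofCard _ hQc : Sylow 3 N) : Subgroup N) :=
        ⟨⟨_, hQN h1⟩, h1, rfl⟩
      rw [hn] at h2
      exact h2
    have hnh : (n : G) * h ∈ normalizer (P : Set G) := by
      have hle : P.map (MulAut.conj ((n : G) * h)).toMonoidHom ≤ P := by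
        rintro _ ⟨x, hx, rfl⟩
        show (n : G) * h * x * ((n : G) * h)⁻¹ ∈ P
        have := hmem x hx
        simpa [mul_assoc] using this
      have heq := eq_of_le_of_card_ge hle (le_of_eq (card_map_of_injective (MulAut.conj _).injective).symm)
      refine mem_normalizer_iff.2 fun x => ⟨fun hx => hle ⟨x, hx, rfl⟩, fun hx => ?_⟩
      rw [← heq] at hx
      obtain ⟨y, hy, e⟩ := hx
      rwa [← (MulAut.conj ((n : G) * h)).injective (e : MulAut.conj _ y = MulAut.conj _ x)]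
    refine ⟨⟨(n : G) * h, mul_mem (hNH n.2) hh, hnh⟩, ?_⟩
    show φ (⟨(n : G), hNH n.2⟩ * ⟨h, hh⟩) = a
    rw [map_mul, (hker _).2 n.2, one_mul]
    exact hha
  · ext ⟨x, hxH, hxP⟩
    rw [MonoidHom.mem_ker, mem_subgroupOf]
    refine (hker ⟨x, hxH⟩).trans ⟨fun hxN => ?_, fun hx => ?_⟩
    · -- `x ∈ N = E P` normalizes `P`
      set E := twoCoreOfCentralizer z with hE
      have hnormE : Hz z ≤ normalizer (E : Set G) := by
        haveI : (pCore 2 ↥(Hz z)).Normal := Cores.pCore_normal 2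
        intro a ha
        rw [mem_normalizer_iff]
        intro b
        constructor
        · rintro ⟨⟨b, hb⟩, hbc, rfl⟩
          exact ⟨⟨a, ha⟩ * ⟨b, hb⟩ * ⟨a, ha⟩⁻¹, Normal.conj_mem inferInstance _ hbc _, rfl⟩
        · rintro ⟨⟨c, hc⟩, hcc, e⟩
          exact ⟨⟨a, ha⟩⁻¹ * ⟨c, hc⟩ * ⟨a, ha⟩, Normal.conj_mem' inferInstance _ hcc _, by
            show a⁻¹ * c * a = b
            rw [show c = a * b * a⁻¹ from e]; group⟩
      have hPnE : P ≤ normalizer (E : Set G) := (hPN.trans hNH).trans hnormE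
      have hdisj : Disjoint P E := disjoint_of_coprime_natCard (by rw [hP3, hEcard]; norm_num)
      have hsup : P ⊔ E = N := by
        refine eq_of_le_of_card_ge (sup_le hPN hEN) ?_
        rw [hNcard]
        refine le_of_eq_of_le ?_ (Nat.le_of_dvd (Nat.card_pos) (Nat.Coprime.mul_dvd_of_dvd_of_dvd
          (by rw [hP3, hEcard]; norm_num) (card_dvd_of_le le_sup_left) (card_dvd_of_le le_sup_right)))
        rw [hP3]
      rw [← hsup] at hxN
      have hmul := coe_mul_of_left_le_normalizer_right P E hPnE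
      have hx' : x ∈ ((P ⊔ E : Subgroup G) : Set G) := hxN
      rw [hmul] at hx'
      obtain ⟨p, hp, e, he, rfl⟩ := hx'
      refine mul_mem (mem_sup_left hp) (mem_sup_right ?_)
      have hee : e ∈ normalizer (P : Set G) := by
        have := mul_mem (inv_mem (le_normalizer (H := P) hp)) hxP
        simpa using this
      have : e ∈ twoCoreOfCentralizer z ⊓ centralizer (P : Set G) := by
        refine ⟨he, mem_centralizer_iff.2 fun q hq => ?_⟩
        have h1 : e * q * e⁻¹ * q⁻¹ ∈ P := mul_mem ((mem_normalizer_iff.1 hee q).1 hq) (inv_mem hq)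
        have h2 : e * q * e⁻¹ * q⁻¹ ∈ E := by
          rw [mul_assoc e q, mul_assoc e]
          exact mul_mem he ((mem_normalizer_iff.1 (hPnE hq) _).1 (inv_mem he))
        have h3 := (Subgroup.disjoint_def.1 hdisj) h1 h2
        rw [mul_inv_eq_one, mul_inv_eq_iff_eq_mul] at h3
        exact h3.symm
      rwa [hcore] at this
    · have hz : z ∈ N := hEN ((hcore.symm ▸ mem_zpowers z :
        z ∈ twoCoreOfCentralizer z ⊓ centralizer (P : Set G)).1)
      exact (sup_le hPN (zpowers_le.2 hz)) hx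

/-- `C(z) ∩ C(P)` has index two in `C(z) ∩ N(P)`. -/
theorem index_CP : ((CP z P).subgroupOf (NPz z P)).index = 2 := by
  obtain ⟨g, hg, hgP⟩ := exists_gen hJ
  have hne : CP z P ≠ NPz z P := by obtain ⟨-, -, -, -, -, -, -, h, -⟩ := hJ; exact Ne.symm h
  have hle : CP z P ≤ NPz z P := inf_le_inf_left _ (centralizer_le_normalizer _)
  have hgm : g ∈ P := hgP ▸ mem_zpowers g
  have hmem : ∀ x : G, x ∈ NPz z P → (x ∈ CP z P ↔ x * g * x⁻¹ = g) := by
    intro x hx
    refine ⟨fun h => ?_, fun h => mem_inf.2 ⟨hx.1, ?_⟩⟩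
    · rw [← mem_centralizer_iff.1 h.2 g hgm, mul_inv_cancel_right]
    · rw [mem_centralizer_iff]
      intro a ha
      have hle' : P ≤ centralizer ({x} : Set G) := by
        rw [← hgP, zpowers_le, mem_centralizer_singleton_iff]
        exact (mul_inv_eq_iff_eq_mul.1 h).symm
      exact mem_centralizer_singleton_iff.1 (hle' ha)
  have hdich : ∀ x : G, x ∈ NPz z P → x * g * x⁻¹ = g ∨ x * g * x⁻¹ = g⁻¹ := by
    intro x hx
    have h1 : x * g * x⁻¹ ∈ zpowers g := hgP.symm ▸ (mem_normalizer_iff.1 hx.2 g).1 hgm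
    obtain ⟨i, hi⟩ := mem_zpowers_iff.1 h1
    rw [← zpow_mod_orderOf, hg] at hi
    have h0 : (0 : ℤ) ≤ i % ((3 : ℕ) : ℤ) := Int.emod_nonneg _ (by norm_num)
    have h3 : i % ((3 : ℕ) : ℤ) < 3 := Int.emod_lt_of_pos _ (by norm_num)
    interval_cases hv : i % ((3 : ℕ) : ℤ)
    · exfalso
      rw [zpow_zero] at hi
      have : g = 1 := conj_eq_one_iff.1 hi.symm
      rw [this, orderOf_one] at hg
      norm_num at hg
    · exact Or.inl (by simpa using hi.symm)
    · refine Or.inr ?_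
      rw [← hi, eq_inv_iff_mul_eq_one, ← zpow_add_one]
      have h3' : g ^ (3 : ℤ) = 1 := by rw [zpow_ofNat, ← hg, pow_orderOf_eq_one]
      simpa using h3'
  obtain ⟨t, ht, htC⟩ := (SetLike.not_le_iff_exists.1 fun h => hne (le_antisymm hle h))
  have htg : t * g * t⁻¹ = g⁻¹ := (hdich t ht).resolve_left fun h => htC ((hmem t ht).2 h)
  have hgi : g⁻¹ ≠ g := fun h => by
    have h1 : g ^ 2 = 1 := by rw [pow_two]; nth_rw 1 [← h]; rw [inv_mul_cancel]
    have := orderOf_dvd_of_pow_eq_one h1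
    rw [hg] at this
    norm_num at this
  rw [index_eq_two_iff]
  refine ⟨⟨t, ht⟩, fun b => ?_⟩
  simp only [mem_subgroupOf, coe_mul]
  rw [hmem _ b.2, hmem _ (mul_mem b.2 ht)]
  have e : (b : G) * t * g * ((b : G) * t)⁻¹ = ((b : G) * g * (b : G)⁻¹)⁻¹ := by
    calc (b : G) * t * g * ((b : G) * t)⁻¹ = (b : G) * (t * g * t⁻¹) * (b : G)⁻¹ := by group
      _ = _ := by rw [htg]; group
  rw [e]
  rcases hdich b b.2 with h | h <;> rw [h]
  · exact Or.inr ⟨rfl, hgi⟩
  · exact Or.inl ⟨inv_inv g, hgi⟩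

/-- `C(z) ∩ C(P)` maps onto M22 with kernel `P ⊔ ⟨z⟩`. -/
theorem exists_pi : ∃ π : ↥(CP z P) →* ↥Spor.M22,
    Function.Surjective π ∧ π.ker = (P ⊔ zpowers z).subgroupOf (CP z P) := by
  haveI := Cfsg.Agent.Golay.M22TwoBlock.isSimple
  obtain ⟨f, hf, hker⟩ := exists_aut_hom hJ
  have hle : CP z P ≤ NPz z P := inf_le_inf_left _ (centralizer_le_normalizer _)
  have hkC : f.ker ≤ (CP z P).subgroupOf (NPz z P) :=
    hker ▸ comap_mono (six_le hJ)
  have himg : ((CP z P).subgroupOf (NPz z P)).map f = Cfsg.Inn ↥Spor.M22 := by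
    refine inn_eq_of_index_two ?_
    rw [index_map_eq _ hf hkC, index_CP hJ]
  have hinj : Function.Injective (MulAut.conj : ↥Spor.M22 →* MulAut ↥Spor.M22) := by
    rw [injective_iff_map_eq_one]
    intro a ha
    have hac : a ∈ center ↥Spor.M22 := mem_center_iff.2 fun b => by
      have := DFunLike.congr_fun ha b
      rw [MulAut.conj_apply, MulAut.one_apply, mul_inv_eq_iff_eq_mul] at this
      exact this.symm
    rcases (inferInstance : (center ↥Spor.M22).Normal).eq_bot_or_eq_top with h | h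
    · rwa [h, mem_bot] at hac
    · exfalso
      refine M22Order.not_comm Cfsg.Agent.Golay.M22Involution.card_M22 ⟨⟨fun x y => ?_⟩⟩
      exact (mem_center_iff.1 (h ▸ mem_top x) y).symm
  let g : ↥(CP z P) →* MulAut ↥Spor.M22 := f.comp (Subgroup.inclusion hle)
  have hg : ∀ c, g c ∈ (MulAut.conj : ↥Spor.M22 →* MulAut ↥Spor.M22).range := fun c => by
    have : g c ∈ ((CP z P).subgroupOf (NPz z P)).map f := ⟨Subgroup.inclusion hle c, c.2, rfl⟩
    rwa [himg] at this
  let e := MonoidHom.ofInjective hinj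
  refine ⟨e.symm.toMonoidHom.comp (g.codRestrict _ hg), fun m => ?_, ?_⟩
  · have hm : MulAut.conj m ∈ ((CP z P).subgroupOf (NPz z P)).map f := by
      rw [himg]; exact ⟨m, rfl⟩
    obtain ⟨x, hx, e'⟩ := hm
    refine ⟨⟨(x : G), hx⟩, ?_⟩
    show e.symm (g.codRestrict _ hg ⟨(x : G), hx⟩) = m
    rw [MulEquiv.symm_apply_eq]
    exact Subtype.ext e'
  · ext c
    have h1 : f.ker.comap (Subgroup.inclusion hle) = (P ⊔ zpowers z).subgroupOf (CP z P) := by
      rw [hker]; rfl
    rw [← h1, MonoidHom.mem_ker, mem_comap, MonoidHom.mem_ker]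
    show e.symm (g.codRestrict _ hg c) = 1 ↔ g c = 1
    rw [MulEquiv.map_eq_one_iff, ← Subtype.coe_inj]
    rfl

theorem card_CP : Nat.card ↥(CP z P) = 6 * 443520 := by
  obtain ⟨π, hπ, hker⟩ := exists_pi hJ
  have h := π.ker.card_mul_index
  rw [index_ker, MonoidHom.range_eq_top.2 hπ, Nat.card_congr topEquiv.toEquiv, hker,
    Nat.card_congr (subgroupOfEquivOfLe (six_le hJ)).toEquiv, card_six hJ,
    Cfsg.Agent.Golay.M22Involution.card_M22] at h
  exact h.symm

/-- The centre of `C(z) ∩ C(P)` is `P ⊔ ⟨z⟩`. -/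
theorem center_CP : center ↥(CP z P) = (P ⊔ zpowers z).subgroupOf (CP z P) := by
  haveI := Cfsg.Agent.Golay.M22TwoBlock.isSimple
  refine le_antisymm ?_ fun x hx => mem_center_iff.2 fun y =>
    Subtype.ext (six_central hJ hx y.2).symm.eq
  obtain ⟨π, hπ, hker⟩ := exists_pi hJ
  rw [← hker]
  intro x hx
  rw [MonoidHom.mem_ker]
  have hxc : π x ∈ center ↥Spor.M22 := mem_center_iff.2 fun b => by
    obtain ⟨b, rfl⟩ := hπ b
    rw [← map_mul, ← map_mul, mem_center_iff.1 hx b]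
  rcases (inferInstance : (center ↥Spor.M22).Normal).eq_bot_or_eq_top with h | h
  · rwa [h, mem_bot] at hxc
  · exfalso
    refine M22Order.not_comm Cfsg.Agent.Golay.M22Involution.card_M22 ⟨⟨fun a b => ?_⟩⟩
    exact (mem_center_iff.1 (h ▸ mem_top a) b).symm

/-- The derived group and `z` generate `C(z) ∩ C(P)`. -/
theorem commutator_sup : ⁅CP z P, CP z P⁆ ⊔ zpowers z = CP z P := by
  haveI := Cfsg.Agent.Golay.M22TwoBlock.isSimple
  refine le_antisymm (sup_le (commutator_le_self _) (zpowers_le.2 (z_mem_CP hJ))) fun x hx => ?_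
  have hP : P ≤ ⁅CP z P, CP z P⁆ := by obtain ⟨-, -, -, -, -, -, -, -, h⟩ := hJ; exact h
  obtain ⟨π, hπ, hker⟩ := exists_pi hJ
  have htop : Subgroup.map π (⁅(⊤ : Subgroup ↥(CP z P)), ⊤⁆ : Subgroup ↥(CP z P)) = ⊤ := by
    rw [map_commutator, map_top_of_surjective π hπ]
    rcases (inferInstance : (⁅(⊤ : Subgroup ↥Spor.M22), ⊤⁆ : Subgroup ↥Spor.M22).Normal).eq_bot_or_eq_top with h | h
    · exfalso
      refine M22Order.not_comm Cfsg.Agent.Golay.M22Involution.card_M22 ⟨⟨fun a b => ?_⟩⟩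
      have h0 : ⁅a, b⁆ ∈ (⁅(⊤ : Subgroup ↥Spor.M22), ⊤⁆ : Subgroup ↥Spor.M22) := commutator_mem_commutator (mem_top _) (mem_top _)
      rwa [h, mem_bot, commutatorElement_eq_one_iff_mul_comm] at h0
    · exact h
  obtain ⟨y, hy, e⟩ := (htop ▸ mem_top (π ⟨x, hx⟩) : π ⟨x, hx⟩ ∈ _)
  have hyG : (y : G) ∈ ⁅CP z P, CP z P⁆ := by
    have := mem_map_of_mem (CP z P).subtype hy
    rwa [map_commutator, ← MonoidHom.range_eq_map, range_subtype] at this
  have hk : y⁻¹ * ⟨x, hx⟩ ∈ π.ker := by rw [MonoidHom.mem_ker, map_mul, map_inv, e, inv_mul_cancel]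
  rw [hker, mem_subgroupOf, coe_mul, InvMemClass.coe_inv] at hk
  have h2 : P ⊔ zpowers z ≤ ⁅CP z P, CP z P⁆ ⊔ zpowers z := sup_le_sup_right hP _
  simpa using mul_mem (mem_sup_left hyG : (y : G) ∈ _ ⊔ zpowers z) (h2 hk)

/-- The derived group of `C(z) ∩ C(P)` is perfect. -/
theorem commutator_perfect :
    ⁅⁅CP z P, CP z P⁆, ⁅CP z P, CP z P⁆⁆ = ⁅CP z P, CP z P⁆ := by
  refine le_antisymm (commutator_le_self _) ((commutator_le).2 fun a ha b hb => ?_)
  have key : ∀ x ∈ CP z P, ∃ y ∈ ⁅CP z P, CP z P⁆, ∀ w ∈ CP z P, ⁅x, w⁆ = ⁅y, w⁆ ∧ ⁅w, x⁆ = ⁅w, y⁆ := by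
    intro x hx
    rw [← commutator_sup hJ] at hx
    have hn : zpowers z ≤ normalizer ((⁅CP z P, CP z P⁆ : Subgroup G) : Set G) := by
      rw [zpowers_le]
      have hcz : ⁅CP z P, CP z P⁆ ≤ centralizer ({z} : Set G) := (commutator_le_self _).trans inf_le_left
      exact mem_normalizer_iff.2 fun w => ⟨fun hw => by
        rw [← mem_centralizer_singleton_iff.1 (hcz hw), mul_inv_cancel_right]; exact hw, fun hw => by
        have h := mem_centralizer_singleton_iff.1 (hcz hw)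
        have : w = z * w * z⁻¹ := by
          have h' : z * (z * w * z⁻¹) = z * w * z⁻¹ * z := h.symm
          rw [inv_mul_cancel_right] at h'
          calc w = z⁻¹ * (z * w) := by group
            _ = z⁻¹ * (z * (z * w * z⁻¹)) := by rw [h']
            _ = z * w * z⁻¹ := by group
        rwa [this]⟩
    have hx' : x ∈ ((⁅CP z P, CP z P⁆ ⊔ zpowers z : Subgroup G) : Set G) := hx
    rw [coe_mul_of_right_le_normalizer_left _ _ hn] at hx'
    obtain ⟨y, hy, c, hc, rfl⟩ := hx'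
    refine ⟨y, hy, fun w hw => ?_⟩
    have hcw : Commute c w := six_central hJ (mem_sup_right hc) hw
    have hcy : Commute c y := six_central hJ (mem_sup_right hc) (commutator_le_self _ hy)
    constructor
    · rw [commutatorElement_def, commutatorElement_def]
      calc y * c * w * (y * c)⁻¹ * w⁻¹ = y * (c * w * c⁻¹) * y⁻¹ * w⁻¹ := by group
        _ = _ := by rw [hcw.eq, mul_inv_cancel_right]
    · rw [commutatorElement_def, commutatorElement_def]
      calc w * (y * c) * w⁻¹ * (y * c)⁻¹ = w * y * (c * w⁻¹ * c⁻¹) * y⁻¹ := by group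
        _ = _ := by rw [hcw.inv_right.eq, mul_inv_cancel_right]
  obtain ⟨a', ha', hA⟩ := key a ha
  obtain ⟨b', hb', hB⟩ := key b hb
  rw [(hA b hb).1, (hB a' (commutator_le_self _ ha')).2]
  exact commutator_mem_commutator ha' hb'

theorem perfect_of_mem (hz : z ∈ ⁅CP z P, CP z P⁆) : ⁅CP z P, CP z P⁆ = CP z P :=
  le_antisymm (commutator_le_self _)
    ((commutator_sup hJ).ge.trans (sup_le le_rfl (zpowers_le.2 hz)))

theorem isCyclic_center : IsCyclic ↥(center ↥(CP z P)) ∧ Nat.card ↥(center ↥(CP z P)) = 6 := by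
  rw [center_CP hJ]
  obtain ⟨x, hx, ho, -⟩ := exists_six hJ
  have hc : Nat.card ↥((P ⊔ zpowers z).subgroupOf (CP z P)) = 6 := by
    rw [Nat.card_congr (subgroupOfEquivOfLe (six_le hJ)).toEquiv, card_six hJ]
  refine ⟨isCyclic_of_orderOf_eq_card (⟨⟨x, six_le hJ hx⟩, hx⟩ : ↥((P ⊔ zpowers z).subgroupOf (CP z P))) ?_, hc⟩
  rw [hc, ← ho, ← Subgroup.orderOf_coe, ← Subgroup.orderOf_coe]

theorem isoM22_quotient : Cfsg.Spor.IsoM22 (↥(CP z P) ⧸ center ↥(CP z P)) := by
  obtain ⟨π, hπ, hker⟩ := exists_pi hJ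
  exact ⟨(QuotientGroup.quotientMulEquivOfEq ((center_CP hJ).trans hker.symm)).trans
    (QuotientGroup.quotientKerEquivOfSurjective π hπ)⟩

end Cfsg.Agent.J4Local
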