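import Mathlib
import Cfsg.Prelude.Def_TwoFusion
import Cfsg.Prelude.Def_CaseTheorems
import Cfsg.Agent.Lib.J4Local.Conj
import Cfsg.Agent.Lib.J4Local.Count
import Cfsg.Agent.Lib.J4Local.Pair
import Cfsg.Agent.Lib.J4Local.Three
import Cfsg.Agent.Lib.ZStar.InvariantSylow
import Cfsg.Agent.Lib.Coprime.Action

/-!
`z` is isolated in the centraliser of `P`.
-/

set_option autoImplicit false
set_option linter.style.haveILetI false
set_option linter.unusedSectionVars false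
set_option linter.unusedVariables false

namespace Cfsg.Agent.J4Local

open Subgroup

variable {G : Type*} [Group G] [Finite G] {z : G} {P : Subgroup G}

/-- The normal subgroup of order `3 · 2 ^ 13`. -/
theorem JType.exists_N (h : JType z P) : ∃ N : Subgroup G, EE z ≤ N ∧ N ≤ HH z ∧
    (∀ g ∈ HH z, ∀ n ∈ N, g * n * g⁻¹ ∈ N) ∧ Nat.card ↥N = 3 * Nat.card ↥(EE z) ∧ P ≤ N ∧
    ∀ w ∈ N, w ^ 3 ∈ EE z := by
  obtain ⟨-, -, -, -, ⟨N, h1, h2, h3, h4, -, h5⟩, -⟩ := h
  refine ⟨N, h1, h2, fun g hg n hn => (mem_normalizer_iff.1 (h3 hg) n).1 hn, h4, h5, fun w hw => ?_⟩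
  haveI hn : ((EE z).subgroupOf N).Normal := ⟨fun x hx y => by
    rw [mem_subgroupOf] at hx ⊢
    exact conj_mem_EE (h2 y.2) hx⟩
  have hidx : ((EE z).subgroupOf N).index = 3 := by
    have e := ((EE z).subgroupOf N).card_mul_index
    rw [Nat.card_congr (subgroupOfEquivOfLe h1).toEquiv, h4, mul_comm 3] at e
    exact Nat.eq_of_mul_eq_mul_left Nat.card_pos e
  have h6 := pow_index_mem ((EE z).subgroupOf N) ⟨w, hw⟩
  rw [hidx] at h6
  exact h6

theorem JType.pow_four (h : JType z P) {w : G} (hw : w ∈ EE z) : w ^ 4 = 1 := by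
  haveI : Fact (Nat.Prime 2) := ⟨Nat.prime_two⟩
  exact congrArg Subtype.val (PGroups.Extraspecial.pow_prime_sq h.ext (⟨w, hw⟩ : ↥(EE z)))

/-- An involution of `C` other than `z` has `P` outside its normal subgroup of order `3 · 2 ^ 13`. -/
theorem not_P_le_N (L : Loc z P) {u : G} {Q : Subgroup G} (Lu : Loc u Q) {N : Subgroup G}
    (hN : ∀ g ∈ HH u, ∀ n ∈ N, g * n * g⁻¹ ∈ N) (hN3 : ∀ w ∈ N, w ^ 3 ∈ EE u)
    (hu : u ∈ CC z P) (huE : u ∉ EE z) (hne : u ≠ z) (hPN : P ≤ N) : False := by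
  have hJ := L.J
  have hu2 : u * u = 1 := Lu.J.ctr.zz
  obtain ⟨p, hp, hp1, -, -⟩ := hJ.exists_gen
  have hH := hJ.P_le_HH hp
  have hu2E : u * u ∈ EE z := hu2.symm ▸ one_mem _
  have hle : (nil z u).ker ≤ imgV z (II z u) := by
    intro w hw
    let K := (nil z u).ker
    have hinv : ∀ x ∈ K, act z p x ∈ K := fun x hx => by
      rw [AddMonoidHom.mem_ker, nil_comm hJ (CC_le_H0 z P hu) hp, AddMonoidHom.mem_ker.1 hx, map_zero]
    let f : ↥K → ↥K := fun x => ⟨act z p x + x, add_mem (hinv x x.2) x.2⟩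
    have hinj : Function.Injective f := fun a b e => by
      have e1 : act z p (a : VV z) + a = act z p b + b := congrArg Subtype.val e
      refine Subtype.ext (VV.eq_of_add hJ (act_fpf hJ hp hp1 ?_))
      rw [map_add]
      refine VV.eq_of_add hJ ?_
      calc act z p (a : VV z) + act z p b + (a + b) = (act z p (a : VV z) + a) + (act z p b + b) := by abel
        _ = 0 := by rw [e1, VV.two hJ]
    obtain ⟨⟨y, hy⟩, hyw⟩ := (Finite.injective_iff_surjective.1 hinj) ⟨w, hw⟩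
    have hy' : act z p y + y = w := congrArg Subtype.val hyw
    obtain ⟨t, ht, rfl⟩ := vk_surj y
    have htu : u * t = t * u := fixed_of_CC hJ hu ht ((mem_ker_nil hJ).1 hy)
    have htH : t ∈ HH u := mem_HH.2 htu.symm
    have hc : p * t * p⁻¹ * t⁻¹ ∈ EE z := mul_mem (conj_mem_EE hH ht) (inv_mem ht)
    have hcN : p * t * p⁻¹ * t⁻¹ ∈ N := by
      rw [mul_assoc p, mul_assoc p]
      exact mul_mem (hPN hp) (hN t htH _ (inv_mem (hPN hp)))
    have hcu : p * t * p⁻¹ * t⁻¹ ∈ EE u := by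
      have h4 := hJ.pow_four hc
      have h3 := hN3 _ hcN
      have e : p * t * p⁻¹ * t⁻¹ = (p * t * p⁻¹ * t⁻¹) ^ 4 * ((p * t * p⁻¹ * t⁻¹) ^ 3)⁻¹ := by group
      rw [e, h4, one_mul]
      exact inv_mem h3
    refine ⟨_, ⟨hc, hcu⟩, hc, ?_⟩
    rw [vk_mul (conj_mem_EE hH ht) (inv_mem ht), vk_inv hJ ht, ← act_vk hH ht, hy']
  have h1 := AddSubgroup.card_le_of_le hle
  rw [card_ker_inner L (CC_le_H0 z P hu) huE hu2E] at h1
  have h2 : Nat.card ↥(imgV z (II z u)) ≤ 2 ^ 6 := card_isotropic hJ (by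
    rintro _ ⟨x, hx, hxE, rfl⟩ _ ⟨y, hy, hyE, rfl⟩
    rw [BB_vk hJ hxE hyE, cm_eq_zero]
    exact (II_elementary hJ Lu.J hne hx hy).2)
  have h3 := h1.trans h2
  norm_num at h3

/-- The centraliser of `P`. -/
abbrev XX (P : Subgroup G) : Subgroup G := centralizer (P : Set G)

theorem z_mem_XX (h : JType z P) : z ∈ XX P := mem_centralizer_iff.2 fun _ hq => mem_HH.1 (h.P_le_HH hq)

theorem z_mem_CC (h : JType z P) : z ∈ CC z P := ⟨mem_HH.2 rfl, z_mem_XX h⟩

theorem not_mem_EE_of_CC (h : JType z P) {u : G} (hu : u ∈ CC z P) (hne : u ≠ z) (hu1 : u ≠ 1) :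
    u ∉ EE z := fun he => by
  rcases h.mem_zpowers (h.CC_inf_EE hu he) with e | e
  exacts [hu1 e, hne e]

theorem conj_ne_one (h : JType z P) (g : G) : g * z * g⁻¹ ≠ 1 := fun e =>
  h.ctr.ne_one (conj_eq_one_iff.1 e)

/-- `z` is isolated in the centraliser of `P`. -/
theorem isolated (hloc : ∀ (z : G) (P : Subgroup G), JType z P → Loc z P) (h : JType z P) {g : G}
    (hg : g ∈ XX P) (hc : g * z * g⁻¹ * z = z * (g * z * g⁻¹)) : g * z * g⁻¹ = z := by
  by_contra hne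
  have hu : g * z * g⁻¹ ∈ CC z P := mem_inf.2 ⟨mem_HH.2 hc, mul_mem (mul_mem hg (z_mem_XX h)) (inv_mem hg)⟩
  have hP : cjS g P = P := by
    ext w
    rw [mem_cjS]
    have hcomm : ∀ q ∈ P, g⁻¹ * q * g = q := fun q hq => by
      rw [mul_assoc, mem_centralizer_iff.1 hg q hq, inv_mul_cancel_left]
    constructor
    · intro hw
      have e : w = g⁻¹ * w * g := by
        have := mem_centralizer_iff.1 hg _ hw
        calc w = g * (g⁻¹ * w * g) * g⁻¹ := by group
          _ = _ := by rw [← this, mul_inv_cancel_right]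
      exact e ▸ hw
    · intro hw; rw [hcomm w hw]; exact hw
  have hJu : JType (g * z * g⁻¹) P := by
    have := h.conj g
    rwa [hP] at this
  obtain ⟨N, -, -, hN, -, hPN, hN3⟩ := hJu.exists_N
  exact not_P_le_N (hloc z P h) (hloc _ _ hJu) hN hN3 hu (not_mem_EE_of_CC h hu hne (conj_ne_one h g)) hne hPN

/-- The odd core of the centraliser of `P`. -/
def OO (P : Subgroup G) : Subgroup G := (Cfsg.oddCore ↥(XX P)).map (XX P).subtype

theorem OO_le (P : Subgroup G) : OO P ≤ XX P := map_subtype_le _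

theorem OO_odd (P : Subgroup G) : Odd (Nat.card ↥(OO P)) := by
  rw [OO, card_map_of_injective (XX P).subtype_injective]
  exact InvChar.Core.odd_card_oddCore

theorem OO_normal {P : Subgroup G} {x o : G} (hx : x ∈ XX P) (ho : o ∈ OO P) : x * o * x⁻¹ ∈ OO P := by
  obtain ⟨⟨o, hoX⟩, ho', rfl⟩ := ho
  haveI : (Cfsg.oddCore ↥(XX P)).Normal := ZStar.Main.oddCore_normal
  exact ⟨⟨x, hx⟩ * ⟨o, hoX⟩ * ⟨x, hx⟩⁻¹, Normal.conj_mem inferInstance _ ho' _, rfl⟩

theorem P_le_OO (h : JType z P) : P ≤ OO P := by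
  intro q hq
  have hle : P ≤ XX P := h.P_le_CC.trans inf_le_right
  haveI : (P.subgroupOf (XX P)).Normal := ⟨fun x hx y => by
    rw [mem_subgroupOf] at hx ⊢
    push_cast
    rw [← mem_centralizer_iff.1 y.2 _ hx, mul_inv_cancel_right]
    exact hx⟩
  have hodd : Odd (Nat.card ↥(P.subgroupOf (XX P))) := by
    rw [Nat.card_congr (subgroupOfEquivOfLe hle).toEquiv, h.cardP]; decide
  exact ⟨⟨q, hle hq⟩, Cores.le_oddCore hodd (mem_subgroupOf.2 hq), rfl⟩

/-- `X = O(X) C`. -/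
theorem XX_dec (hloc : ∀ (z : G) (P : Subgroup G), JType z P → Loc z P) (h : JType z P) {x : G}
    (hx : x ∈ XX P) : ∃ o ∈ OO P, ∃ c ∈ CC z P, x = o * c := by
  have hiso : Cfsg.IsIsolatedInvolution (⟨z, z_mem_XX h⟩ : ↥(XX P)) := by
    refine ⟨(Subgroup.orderOf_mk _ _).trans h.two, fun g hg => Subtype.ext (isolated hloc h g.2 ?_)⟩
    have := congrArg Subtype.val hg.eq
    push_cast at this
    exact this.symm
  have htop := ZStar.InvariantSylow.oddCore_sup_centralizer hiso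
  haveI : (Cfsg.oddCore ↥(XX P)).Normal := ZStar.Main.oddCore_normal
  have hmem : (⟨x, hx⟩ : ↥(XX P)) ∈ Cfsg.oddCore ↥(XX P) ⊔ centralizer ({⟨z, z_mem_XX h⟩} : Set ↥(XX P)) :=
    htop ▸ mem_top _
  obtain ⟨o, ho, c, hc, e⟩ := mem_sup_of_normal_left.1 hmem
  refine ⟨o, ⟨o, ho, rfl⟩, c, ⟨mem_HH.2 ?_, c.2⟩, (congrArg Subtype.val e).symm⟩
  exact congrArg Subtype.val (mem_centralizer_singleton_iff.1 hc)

/-- `O(X) ∩ C = P`. -/
theorem OO_inf_CC (h : JType z P) {y : G} (hy : y ∈ OO P) (hyC : y ∈ CC z P) : y ∈ P := by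
  obtain ⟨π, hπ, hker⟩ := exists_pi h
  haveI := Cfsg.Agent.Golay.M22TwoBlock.isSimple
  let K : Subgroup ↥(CP z P) := (OO P).subgroupOf (CP z P)
  haveI hK : K.Normal := ⟨fun a ha b => by
    rw [mem_subgroupOf] at ha ⊢
    exact OO_normal b.2.2 ha⟩
  have hmap : (K.map π) = ⊥ := by
    rcases (hK.map π hπ).eq_bot_or_eq_top with e | e
    · exact e
    · exfalso
      have h1 : Nat.card ↥(K.map π) ∣ Nat.card ↥(OO P) :=
        (card_map_dvd K π).trans (card_comap_dvd_of_injective (OO P) (CP z P).subtype (CP z P).subtype_injective)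
      rw [e, Subgroup.card_top, Cfsg.Agent.Golay.M22Involution.card_M22] at h1
      exact Nat.not_even_iff_odd.2 ((OO_odd P).of_dvd_nat h1) (by decide)
  have hy6 : (⟨y, hyC⟩ : ↥(CP z P)) ∈ π.ker := by
    rw [MonoidHom.mem_ker, ← mem_bot, ← hmap]
    exact ⟨_, mem_subgroupOf.2 hy, rfl⟩
  rw [hker, mem_subgroupOf] at hy6
  have h3 : y ^ 3 = 1 := by
    rcases z_cases h (six_cube h hy6) with e | e
    · exact e
    · exfalso
      have hd : orderOf z ∣ Nat.card ↥(OO P) := e ▸ (OO P).orderOf_dvd_natCard (pow_mem hy 3)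
      rw [h.two] at hd
      exact Nat.not_even_iff_odd.2 (OO_odd P) (even_iff_two_dvd.2 hd)
  have hn : P ≤ normalizer ((zpowers z : Subgroup G) : Set G) := fun q hq => by
    refine (centralizer_le_normalizer _) (mem_centralizer_iff.2 fun w hw => ?_)
    exact (six_central h (mem_sup_right hw) (P_le_CP h hq)).eq
  have hy' : y ∈ ((P ⊔ zpowers z : Subgroup G) : Set G) := hy6
  rw [coe_mul_of_left_le_normalizer_right P _ hn] at hy'
  obtain ⟨q, hq, c, hc, rfl⟩ := hy'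
  have hcq : Commute q c := (six_central h (mem_sup_right hc) (P_le_CP h hq)).symm
  rcases z_cases h hc with rfl | rfl
  · simpa using hq
  · exfalso
    rw [hcq.mul_pow, pow_three_eq_one h hq, one_mul, pow_succ, pow_two, h.ctr.zz, one_mul] at h3
    exact h.ctr.ne_one h3

/-- An involution centralising `P` only fixes `C_O(u) P` modulo `P`. -/
theorem fixed_mod_P (h : JType z P) {u o : G} (hu : u ∈ XX P) (hu2 : orderOf u = 2) (ho : o ∈ OO P)
    (hfix : u * o * u⁻¹ * o⁻¹ ∈ P) : ∃ c ∈ OO P, c * u = u * c ∧ o⁻¹ * c ∈ P := by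
  have hle : P ≤ XX P := h.P_le_CC.trans inf_le_right
  obtain ⟨c, hc, e⟩ := Coprime.exists_fixed_mod (A := zpowers u) (K := OO P) (N := P)
    (by rw [Nat.card_zpowers, hu2]; exact Nat.coprime_two_left.2 (OO_odd P))
    (Or.inl (Coprime.isSolvable_of_isMulCommutative _)) (P_le_OO h)
    (fun k hk => (centralizer_le_normalizer _) (OO_le P hk))
    ((zpowers_le.2 hu).trans (centralizer_le_normalizer _)) ho
    (by
      intro a ha
      obtain ⟨k, rfl⟩ := mem_zpowers_iff.1 ha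
      rw [← zpow_mod_orderOf, hu2]
      rcases Int.emod_two_eq_zero_or_one k with e | e
      · rw [show k % ((2 : ℕ) : ℤ) = 0 from e, zpow_zero]; simp
      · rw [show k % ((2 : ℕ) : ℤ) = 1 from e, zpow_one]; exact hfix)
  exact ⟨c, hc.1, (mem_centralizer_iff.1 hc.2 u (mem_zpowers u)).symm, e⟩

/-- `z` inverts `O(X)` modulo `P`. -/
theorem z_inverts (hloc : ∀ (z : G) (P : Subgroup G), JType z P → Loc z P) (h : JType z P) {o : G}
    (ho : o ∈ OO P) : z * o * z⁻¹ * o ∈ P := by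
  have hzX := z_mem_XX h
  have hfix : ∀ a ∈ OO P, z * a * z⁻¹ * a⁻¹ ∈ P → a ∈ P := fun a ha e => by
    obtain ⟨c, hc, hcz, e'⟩ := fixed_mod_P h hzX h.two ha e
    have hcP := OO_inf_CC h hc ⟨mem_HH.2 hcz, OO_le P hc⟩
    simpa using mul_mem hcP (inv_mem e')
  haveI hn : (P.subgroupOf (OO P)).Normal := ⟨fun x hx y => by
    rw [mem_subgroupOf] at hx ⊢
    push_cast
    rw [← mem_centralizer_iff.1 (OO_le P y.2) _ hx, mul_inv_cancel_right]
    exact hx⟩
  let W := ↥(OO P) ⧸ P.subgroupOf (OO P)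
  let φ : W →* W := QuotientGroup.map _ _
    ({ toFun := fun a => ⟨z * a * z⁻¹, OO_normal hzX a.2⟩
       map_one' := Subtype.ext (by simp)
       map_mul' := fun a b => Subtype.ext (by push_cast; group) } : ↥(OO P) →* ↥(OO P))
    (fun a ha => by
      rw [mem_comap, mem_subgroupOf] at *
      show z * (a : G) * z⁻¹ ∈ P
      rw [← mem_centralizer_iff.1 hzX _ ha, mul_inv_cancel_right]
      exact ha)
  have hφ : ∀ a : ↥(OO P), φ (QuotientGroup.mk a) = QuotientGroup.mk ⟨z * a * z⁻¹, OO_normal hzX a.2⟩ :=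
    fun a => rfl
  have hFPF : MonoidHom.FixedPointFree φ := by
    intro w hw
    obtain ⟨a, rfl⟩ := QuotientGroup.mk_surjective w
    rw [hφ, QuotientGroup.eq, mem_subgroupOf] at hw
    refine (QuotientGroup.eq_one_iff a).2 (mem_subgroupOf.2 ?_)
    refine hfix _ a.2 ?_
    push_cast at hw
    have hc := mem_centralizer_iff.1 (OO_le P a.2) _ hw
    have e : z * (a : G) * z⁻¹ * (a : G)⁻¹ = ((z * (a : G) * z⁻¹)⁻¹ * (a : G))⁻¹ := by
      calc z * (a : G) * z⁻¹ * (a : G)⁻¹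
          = (a : G) * ((z * (a : G) * z⁻¹)⁻¹ * (a : G))⁻¹ * (a : G)⁻¹ := by group
        _ = _ := by
          rw [← mem_centralizer_iff.1 (OO_le P a.2) _ (inv_mem hw), mul_inv_cancel_right]
    rw [e]; exact inv_mem hw
  have hinv : Function.Involutive φ := fun w => by
    obtain ⟨a, rfl⟩ := QuotientGroup.mk_surjective w
    rw [hφ, hφ]
    refine congrArg _ (Subtype.ext ?_)
    show z * (z * (a : G) * z⁻¹) * z⁻¹ = a
    calc z * (z * (a : G) * z⁻¹) * z⁻¹ = (z * z) * a * (z * z)⁻¹ := by group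
      _ = a := by rw [h.ctr.zz]; group
  have e := congrFun (hFPF.coe_eq_inv_of_involutive hinv) (QuotientGroup.mk ⟨o, ho⟩)
  rw [hφ, ← QuotientGroup.mk_inv, QuotientGroup.eq, mem_subgroupOf] at e
  push_cast at e
  have e2 : z * o * z⁻¹ * o = o⁻¹ * ((z * o * z⁻¹)⁻¹ * o⁻¹)⁻¹ * o := by group
  have hoX := inv_mem (OO_le P ho)
  rw [e2, ← mem_centralizer_iff.1 hoX _ (inv_mem e), inv_mul_cancel_right]
  exact inv_mem e

end Cfsg.Agent.J4Local
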