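import Cfsg.Agent.Lib.J4Local.M22Facts
import Cfsg.Agent.Lib.Golay.M24Involution

/-!
# M22: centralizers of involutory automorphisms

An involution of M24 interchanging the two special points commutes with at most 2597 elements of M22,
so an outer involutory automorphism has centralizer of order at most 5194 in `Aut M22`; an inner one
at most 768.
-/

set_option autoImplicit false
set_option linter.style.haveILetI false
set_option linter.unusedSectionVars false
set_option maxRecDepth 20000

namespace Cfsg.Agent.J4Local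

open Cfsg Cfsg.Agent.Golay.Basic Cfsg.Agent.Golay.Design Cfsg.Agent.Golay.Perm Cfsg.Agent.Golay.M24
  Cfsg.Agent.Golay.OctadStab Cfsg.Agent.Golay.AutM22
open scoped Pointwise

local notation "pG" => Equiv.Perm GolayPt

/-- The stabilizer of a point in a group of permutations. -/
abbrev fixAt (X : Subgroup pG) (x : GolayPt) : Subgroup pG := X ⊓ MulAction.stabilizer pG x

theorem card_le_orbit (X : Subgroup pG) (x : GolayPt) (S : Finset GolayPt)
    (h : ∀ k ∈ X, k x ∈ S) : Nat.card X ≤ S.card * Nat.card (fixAt X x) := by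
  set K := (fixAt X x).subgroupOf X with hK
  have hKc : Nat.card K = Nat.card (fixAt X x) :=
    Nat.card_congr (Subgroup.subgroupOfEquivOfLe inf_le_left).toEquiv
  rw [K.card_eq_card_quotient_mul_card_subgroup, hKc]
  refine Nat.mul_le_mul_right _ ?_
  rw [← Fintype.card_coe, ← Nat.card_eq_fintype_card]
  refine Nat.card_le_card_of_injective (fun q : ↥X ⧸ K => (⟨(q.out : pG) x, h _ q.out.2⟩ : ↥S)) ?_
  intro q q' e
  have e' : (q.out : pG) x = (q'.out : pG) x := congrArg Subtype.val e
  rw [← QuotientGroup.out_eq' q, ← QuotientGroup.out_eq' q', QuotientGroup.eq]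
  refine Subgroup.mem_subgroupOf.2 ?_
  have hu : (q.out : pG)⁻¹ * (q'.out : pG) ∈ X := mul_mem (inv_mem q.out.2) q'.out.2
  refine Subgroup.mem_inf.2 ⟨hu, ?_⟩
  show ((q.out : pG)⁻¹ * (q'.out : pG)) x = x
  rw [Equiv.Perm.mul_apply, ← e', ← Equiv.Perm.mul_apply, inv_mul_cancel, Equiv.Perm.one_apply]

/-- At most three elements of M24 fix five points of an octad and a point outside it. -/
theorem card_fix_six (X : Subgroup pG) (hX : X ≤ Cfsg.M24) {o s : Finset GolayPt} (ho : o ∈ octads)
    (hs : s.card = 5) (hso : s ⊆ o) {w : GolayPt} (hw : w ∉ o)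
    (hfix : ∀ k ∈ X, (∀ x ∈ s, k x = x) ∧ k w = w) : Nat.card X ≤ 3 := by
  classical
  have hsd : (o \ s).card = 3 := by rw [Finset.card_sdiff_of_subset hso, octad_card ho, hs]
  obtain ⟨p, hp⟩ := Finset.card_pos.1 (by omega : 0 < (o \ s).card)
  have hpo : p ∈ o := (Finset.mem_sdiff.1 hp).1
  have hok : ∀ k ∈ X, k • o = o := fun k hk =>
    smul_eq_of_fix_five (hX hk) ho hs.ge hso (hfix k hk).1
  have hmv : ∀ k ∈ X, k p ∈ o \ s := fun k hk => Finset.mem_sdiff.2
    ⟨by rw [← hok k hk]; exact (mem_smul_iff k o p).2 hpo, fun h => by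
      have := k.injective ((hfix k hk).1 _ h)
      rw [this] at h
      exact (Finset.mem_sdiff.1 hp).2 h⟩
  rw [← hsd, ← Fintype.card_coe, ← Nat.card_eq_fintype_card]
  refine Nat.card_le_card_of_injective (fun k : X => (⟨(k : pG) p, hmv k k.2⟩ : ↥(o \ s))) ?_
  intro k k' e
  have e' : (k : pG) p = (k' : pG) p := congrArg Subtype.val e
  set h : pG := (k : pG)⁻¹ * (k' : pG) with hh
  have hhX : h ∈ X := mul_mem (inv_mem k.2) k'.2
  have hhp : h p = p := by
    rw [hh, Equiv.Perm.mul_apply, ← e', ← Equiv.Perm.mul_apply, inv_mul_cancel, Equiv.Perm.one_apply]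
  let h' : OK o := ⟨h, hX hhX, hok h hhX⟩
  have hsix : ∀ x : ↥o, (x : GolayPt) ∈ insert p s → rho o h' x = x := by
    intro x hx
    refine Subtype.ext ?_
    show h x = x
    rcases Finset.mem_insert.1 hx with hx | hx
    · rw [hx, hhp]
    · exact (hfix h hhX).1 _ hx
  have hsupp : (rho o h').support.card ≤ 2 := by
    have hsub : (rho o h').support ⊆ (Finset.univ.filter fun x : ↥o => (x : GolayPt) ∉ insert p s) := by
      intro x hx
      refine Finset.mem_filter.2 ⟨Finset.mem_univ _, fun hc => Equiv.Perm.mem_support.1 hx (hsix x hc)⟩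
    refine (Finset.card_le_card hsub).trans ?_
    rw [← Finset.card_map (Function.Embedding.subtype _)]
    refine (Finset.card_le_card (t := o \ insert p s) ?_).trans ?_
    · intro x hx
      obtain ⟨y, hy, rfl⟩ := Finset.mem_map.1 hx
      exact Finset.mem_sdiff.2 ⟨y.2, (Finset.mem_filter.1 hy).2⟩
    · rw [Finset.card_sdiff_of_subset (Finset.insert_subset hpo hso),
        Finset.card_insert_of_notMem (Finset.mem_sdiff.1 hp).2, octad_card ho, hs]
  have hone : rho o h' = 1 := by
    have halt : rho o h' ∈ alternatingGroup ↥o := by rw [← range_rho ho]; exact ⟨h', rfl⟩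
    rw [← Equiv.Perm.card_support_le_one]
    by_contra hgt
    have h2 : (rho o h').support.card = 2 := by omega
    have := Equiv.Perm.IsSwap.sign_eq (Equiv.Perm.card_support_eq_two.1 h2)
    rw [Equiv.Perm.mem_alternatingGroup.1 halt] at this
    exact absurd this (by decide)
  have hF : h ∈ FK o := mem_FK.2 ⟨hX hhX, fun x hx =>
    congrArg Subtype.val (Equiv.congr_fun hone ⟨x, hx⟩)⟩
  have h1 : h = 1 := fix_eq_one ho hw hF (hfix h hhX).2
  exact Subtype.ext (inv_mul_eq_one.1 h1)

theorem card_five_set {a b c d e : GolayPt} (h : [a, b, c, d, e].Nodup) :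
    ({a, b, c, d, e} : Finset GolayPt).card = 5 := by
  classical
  rw [show ({a, b, c, d, e} : Finset GolayPt) = [a, b, c, d, e].toFinset by
    simp only [List.toFinset_cons, List.toFinset_nil, insert_empty_eq]]
  rw [List.toFinset_card_of_nodup h]
  rfl

theorem exists_octad_five (s : Finset GolayPt) (hs : s.card = 5) : ∃ o ∈ octads, s ⊆ o := by
  obtain ⟨o, ho, h5⟩ := Cfsg.Agent.Golay.FixedOctad.exists_octad_ge hs.ge
  refine ⟨o, ho, ?_⟩
  have := Finset.eq_of_subset_of_card_le Finset.inter_subset_left (show s.card ≤ (s ∩ o).card by omega)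
  intro x hx
  rw [← this] at hx
  exact (Finset.mem_inter.1 hx).2

section pair

variable {g : pG} (hg : g ∈ Cfsg.M24) (h2 : g * g = 1) (hab : g ea = eb)

include h2 in
theorem app_app (x : GolayPt) : g (g x) = x := by
  rw [← Equiv.Perm.mul_apply, h2, Equiv.Perm.one_apply]

include h2 hab in
theorem app_b : g eb = ea := by rw [← hab, app_app h2]

include hg h2 hab

/-- An involution of M24 interchanging the two points commutes with at most 2597 elements of M22. -/
theorem cent_pair_le (X : Subgroup pG) (hX : ∀ k ∈ X, k ∈ K22 ∧ k * g = g * k) :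
    Nat.card X ≤ 2597 := by
  classical
  have hne : (ea : GolayPt) ≠ eb := by decide
  have hXM : X ≤ Cfsg.M24 := fun k hk => (mem_K22.1 (hX k hk).1).1
  have ha : ∀ k ∈ X, k ea = ea := fun k hk => (mem_K22.1 (hX k hk).1).2.1
  have hb : ∀ k ∈ X, k eb = eb := fun k hk => (mem_K22.1 (hX k hk).1).2.2
  have hcg : ∀ k ∈ X, ∀ y, k (g y) = g (k y) := fun k hk y => by
    rw [← Equiv.Perm.mul_apply, (hX k hk).2, Equiv.Perm.mul_apply]
  have hord : orderOf (⟨g, hg⟩ : ↥Cfsg.M24) = 2 := by
    haveI : Fact (Nat.Prime 2) := ⟨Nat.prime_two⟩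
    refine orderOf_eq_prime (by rw [pow_two]; exact Subtype.ext h2) fun e => ?_
    have e' : g = 1 := congrArg Subtype.val e
    rw [e', Equiv.Perm.one_apply] at hab
    exact hne hab
  have hgb := app_b h2 hab
  rcases Cfsg.Agent.Golay.M24Involution.involution_cases hord with ⟨O, hO, hfixO⟩ | ⟨c, hc⟩
  · -- the fixed octad
    replace hfixO : ∀ q, g q = q ↔ q ∈ O := hfixO
    have haO : ea ∉ O := fun h => hne (by rw [← hab]; exact ((hfixO ea).2 h).symm)
    have hbO : eb ∉ O := fun h => hne (by rw [← hgb]; exact (hfixO eb).2 h)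
    have hkO : ∀ k ∈ X, ∀ q ∈ O, k q ∈ O := fun k hk q hq =>
      (hfixO _).1 (by rw [← hcg k hk, (hfixO q).2 hq])
    obtain ⟨x, hx⟩ := Finset.card_pos.1 (by rw [octad_card hO]; norm_num : 0 < O.card)
    set S₂ := (insert ea (insert eb O))ᶜ with hS₂
    have hins : (insert ea (insert eb O)).card = 10 := by
      rw [Finset.card_insert_of_notMem (by simp [hne, haO]), Finset.card_insert_of_notMem hbO, octad_card hO]
    have hS₂c : S₂.card = 14 := by
      rw [hS₂, Finset.card_compl, hins]
      decide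
    obtain ⟨y, hy⟩ := Finset.card_pos.1 (by omega : 0 < S₂.card)
    have hy' := hy
    simp only [hS₂, Finset.mem_compl, Finset.mem_insert, not_or] at hy'
    obtain ⟨hya, hyb, hyO⟩ := hy'
    have hgy : g y ≠ y := fun h => hyO ((hfixO y).1 h)
    have hgyO : g y ∉ O := fun h => hgy (by
      have := (hfixO _).2 h
      rw [app_app h2] at this
      exact this.symm)
    have hgya : g y ≠ ea := fun h => hyb (g.injective (h.trans hgb.symm))
    have hgyb : g y ≠ eb := fun h => hya (g.injective (h.trans hab.symm))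
    have hxa : x ≠ ea := fun h => haO (h ▸ hx)
    have hxb : x ≠ eb := fun h => hbO (h ▸ hx)
    have hxy : x ≠ y := fun h => hyO (h ▸ hx)
    have hxgy : x ≠ g y := fun h => hgyO (h ▸ hx)
    set s : Finset GolayPt := {ea, eb, x, y, g y} with hs
    have hs5 : s.card = 5 := card_five_set (by
      simp [hne, Ne.symm hxa, Ne.symm hxb, Ne.symm hya, Ne.symm hyb, Ne.symm hgya, Ne.symm hgyb, hxy,
        hxgy, Ne.symm hgy])
    obtain ⟨B, hB, hsB⟩ := exists_octad_five s hs5
    obtain ⟨x', hx', hxB⟩ : ∃ x' ∈ O.erase x, x' ∉ B := by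
      by_contra h
      push Not at h
      have := octads_eq_of_subset (s := O.erase x) (by rw [Finset.card_erase_of_mem hx, octad_card hO]; norm_num)
        hB hO h (Finset.erase_subset _ _)
      exact haO (this ▸ hsB (by simp [hs]))
    have h1 := card_le_orbit X x O fun k hk => hkO k hk x hx
    have h2' := card_le_orbit (fixAt X x) y S₂ fun k hk => by
      obtain ⟨hkX, -⟩ := Subgroup.mem_inf.1 hk
      simp only [hS₂, Finset.mem_compl, Finset.mem_insert, not_or]
      refine ⟨fun h => hya (k.injective (h.trans (ha k hkX).symm)),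
        fun h => hyb (k.injective (h.trans (hb k hkX).symm)), fun h => hgy ?_⟩
      have h' := (hfixO _).2 h
      rw [← hcg k hkX] at h'
      exact k.injective h'
    have h3 := card_le_orbit (fixAt (fixAt X x) y) x' (O.erase x) fun k hk => by
      obtain ⟨hk1, -⟩ := Subgroup.mem_inf.1 hk
      obtain ⟨hkX, hkx⟩ := Subgroup.mem_inf.1 hk1
      refine Finset.mem_erase.2 ⟨fun h => (Finset.mem_erase.1 hx').1 (k.injective (h.trans ?_)),
        hkO k hkX x' (Finset.mem_erase.1 hx').2⟩
      exact (MulAction.mem_stabilizer_iff.1 hkx).symm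
    have h4 := card_fix_six (fixAt (fixAt (fixAt X x) y) x')
      (inf_le_left.trans (inf_le_left.trans (inf_le_left.trans hXM))) hB hs5 hsB hxB fun k hk => by
        obtain ⟨hk2, hkx'⟩ := Subgroup.mem_inf.1 hk
        obtain ⟨hk1, hky⟩ := Subgroup.mem_inf.1 hk2
        obtain ⟨hkX, hkx⟩ := Subgroup.mem_inf.1 hk1
        have hy1 : k y = y := MulAction.mem_stabilizer_iff.1 hky
        refine ⟨fun q hq => ?_, MulAction.mem_stabilizer_iff.1 hkx'⟩
        simp only [hs, Finset.mem_insert, Finset.mem_singleton] at hq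
        rcases hq with rfl | rfl | rfl | rfl | rfl
        · exact ha k hkX
        · exact hb k hkX
        · exact MulAction.mem_stabilizer_iff.1 hkx
        · exact hy1
        · rw [hcg k hkX, hy1]
    rw [octad_card hO] at h1
    rw [hS₂c] at h2'
    rw [Finset.card_erase_of_mem hx, octad_card hO] at h3
    have := Nat.mul_le_mul_left 7 h4
    omega
  · -- no fixed point
    have hfree : ∀ q, g q ≠ q := by
      intro q h
      have e : g = (c : pG) * (Cfsg.Agent.Golay.M24Involution.freeInv : pG) * (c : pG)⁻¹ := congrArg Subtype.val hc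
      rw [e, Equiv.Perm.mul_apply, Equiv.Perm.mul_apply] at h
      refine Cfsg.Agent.Golay.M24Involution.freeInv_ne ((c : pG)⁻¹ q) ?_
      exact (c : pG).injective (h.trans (Equiv.apply_symm_apply (c : pG) q).symm)
    set S₁ := ({ea, eb} : Finset GolayPt)ᶜ with hS₁
    have hS₁c : S₁.card = 22 := by decide
    let S₂ : GolayPt → Finset GolayPt := fun x => ({ea, eb, x, g x} : Finset GolayPt)ᶜ
    have hfour : ∀ x ∈ S₁, [ea, eb, x, g x].Nodup := by
      intro x hx
      simp only [hS₁, Finset.mem_compl, Finset.mem_insert, Finset.mem_singleton, not_or] at hx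
      have hga : g x ≠ ea := fun h => hx.2 (g.injective (h.trans hgb.symm))
      have hgb' : g x ≠ eb := fun h => hx.1 (g.injective (h.trans hab.symm))
      simp [hne, Ne.symm hx.1, Ne.symm hx.2, Ne.symm hga, Ne.symm hgb', Ne.symm (hfree x)]
    have hS₂c : ∀ x ∈ S₁, (S₂ x).card = 20 := by
      intro x hx
      show (({ea, eb, x, g x} : Finset GolayPt)ᶜ).card = 20
      rw [Finset.card_compl, show ({ea, eb, x, g x} : Finset GolayPt).card = 4 by
        rw [show ({ea, eb, x, g x} : Finset GolayPt) = [ea, eb, x, g x].toFinset by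
          simp only [List.toFinset_cons, List.toFinset_nil, insert_empty_eq]]
        rw [List.toFinset_card_of_nodup (hfour x hx)]; rfl]
      decide
    have hfive : ∀ x ∈ S₁, ∀ y ∈ S₂ x, ({ea, eb, x, g x, y} : Finset GolayPt).card = 5 := by
      intro x hx y hy
      simp only [S₂, Finset.mem_compl, Finset.mem_insert, Finset.mem_singleton, not_or] at hy
      have h4 := hfour x hx
      simp only [List.nodup_cons, List.mem_cons, List.not_mem_nil, or_false, not_or, List.nodup_nil,
        not_false_eq_true, and_true] at h4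
      refine card_five_set ?_
      simp [h4, Ne.symm hy.1, Ne.symm hy.2.1, Ne.symm hy.2.2.1, Ne.symm hy.2.2.2]
    obtain ⟨x, hx, y, hy, B, hB, hsB, hgyB⟩ : ∃ x ∈ S₁, ∃ y ∈ S₂ x, ∃ B ∈ octads,
        ({ea, eb, x, g x, y} : Finset GolayPt) ⊆ B ∧ g y ∉ B := by
      by_contra hno
      push Not at hno
      -- then the blocks through two pairs would be triples of pairs
      let f : (_ : GolayPt) × GolayPt → Finset GolayPt := fun w =>
        if h : ∃ B ∈ octads, ({ea, eb, w.1, g w.1, w.2} : Finset GolayPt) ⊆ B then h.choose else ∅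
      set T := S₁.sigma S₂ with hT
      have hspec : ∀ w ∈ T, f w ∈ octads ∧ ({ea, eb, w.1, g w.1, w.2} : Finset GolayPt) ⊆ f w ∧ g w.2 ∈ f w := by
        rintro ⟨x, y⟩ hw
        rw [hT, Finset.mem_sigma] at hw
        have h := exists_octad_five _ (hfive x hw.1 y hw.2)
        have e : f ⟨x, y⟩ = h.choose := dif_pos h
        rw [e]
        exact ⟨h.choose_spec.1, h.choose_spec.2, hno x hw.1 y hw.2 _ h.choose_spec.1 h.choose_spec.2⟩
      have huniq : ∀ w ∈ T, ∀ B ∈ octads, ({ea, eb, w.1, g w.1, w.2} : Finset GolayPt) ⊆ B → f w = B := by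
        rintro ⟨x, y⟩ hw B hB hsub
        have hw' := hw
        rw [hT, Finset.mem_sigma] at hw'
        exact octads_eq_of_subset (hfive x hw'.1 y hw'.2).ge (hspec _ hw).1 hB (hspec _ hw).2.1 hsub
      have hfib : ∀ B ∈ T.image f, (T.filter fun w => f w = B).card = 24 := by
        intro B hB
        obtain ⟨⟨x, y⟩, hw, rfl⟩ := Finset.mem_image.1 hB
        obtain ⟨hoct, hsub, hgy⟩ := hspec _ hw
        have hw' := hw
        rw [hT, Finset.mem_sigma] at hw'
        set B := f ⟨x, y⟩
        have haB : ea ∈ B := hsub (by simp)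
        have hbB : eb ∈ B := hsub (by simp)
        have hxB : x ∈ B := hsub (by simp)
        have hgxB : g x ∈ B := hsub (by simp)
        have hyB : y ∈ B := hsub (by simp)
        have hclosed : ∀ q ∈ B, g q ∈ B := by
          intro q hq
          by_cases hq1 : q ∈ ({ea, eb, x, g x} : Finset GolayPt)
          · simp only [Finset.mem_insert, Finset.mem_singleton] at hq1
            rcases hq1 with rfl | rfl | rfl | rfl
            · rwa [hab]
            · rwa [hgb]
            · exact hgxB
            · rwa [app_app h2]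
          · have hwq : (⟨x, q⟩ : (_ : GolayPt) × GolayPt) ∈ T := by
              rw [hT, Finset.mem_sigma]
              exact ⟨hw'.1, by simpa [S₂] using hq1⟩
            have e : f ⟨x, q⟩ = B := huniq _ hwq B hoct (by
              simp [Finset.insert_subset_iff, haB, hbB, hxB, hgxB, hq])
            exact e ▸ (hspec _ hwq).2.2
        have hset : (T.filter fun w => f w = B) =
            (B \ {ea, eb}).sigma fun q => B \ ({ea, eb, q, g q} : Finset GolayPt) := by
          ext ⟨p, q⟩
          simp only [Finset.mem_filter, hT, Finset.mem_sigma, Finset.mem_sdiff]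
          constructor
          · rintro ⟨⟨hp, hq⟩, e⟩
            have hs' := (hspec ⟨p, q⟩ (by rw [hT, Finset.mem_sigma]; exact ⟨hp, hq⟩)).2.1
            rw [e] at hs'
            exact ⟨⟨hs' (by simp), by simpa [hS₁] using hp⟩, hs' (by simp), by simpa [S₂] using hq⟩
          · rintro ⟨⟨hpB, hp⟩, hqB, hq⟩
            have hp' : p ∈ S₁ := by simpa [hS₁] using hp
            have hq' : q ∈ S₂ p := by simpa [S₂] using hq
            exact ⟨⟨hp', hq'⟩, huniq _ (by rw [hT, Finset.mem_sigma]; exact ⟨hp', hq'⟩) B hoct (by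
              simp [Finset.insert_subset_iff, haB, hbB, hpB, hclosed p hpB, hqB])⟩
        rw [hset, Finset.card_sigma]
        have h6 : (B \ ({ea, eb} : Finset GolayPt)).card = 6 := by
          rw [Finset.card_sdiff_of_subset (by simp [Finset.insert_subset_iff, haB, hbB]), octad_card hoct,
            Finset.card_pair hne]
        rw [Finset.sum_congr rfl (g := fun _ => 4), Finset.sum_const, h6]
        · rfl
        · intro q hq
          obtain ⟨hqB, hq'⟩ := Finset.mem_sdiff.1 hq
          have h4 := hfour q (by simpa [hS₁] using hq')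
          rw [Finset.card_sdiff_of_subset (by simp [Finset.insert_subset_iff, haB, hbB, hqB, hclosed q hqB]),
            octad_card hoct, show ({ea, eb, q, g q} : Finset GolayPt) = [ea, eb, q, g q].toFinset by
              simp only [List.toFinset_cons, List.toFinset_nil, insert_empty_eq],
            List.toFinset_card_of_nodup h4]
          rfl
      have htot : T.card = 440 := by
        rw [hT, Finset.card_sigma, Finset.sum_congr rfl hS₂c, Finset.sum_const, hS₁c]
        rfl
      have := Finset.card_eq_sum_card_image f T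
      rw [Finset.sum_congr rfl hfib, Finset.sum_const, htot, smul_eq_mul] at this
      omega
    have hx' := hx
    simp only [hS₁, Finset.mem_compl, Finset.mem_insert, Finset.mem_singleton, not_or] at hx'
    have h1 := card_le_orbit X x S₁ fun k hk => by
      simp only [hS₁, Finset.mem_compl, Finset.mem_insert, Finset.mem_singleton, not_or]
      exact ⟨fun h => hx'.1 (k.injective (h.trans (ha k hk).symm)),
        fun h => hx'.2 (k.injective (h.trans (hb k hk).symm))⟩
    have hgx : ∀ k ∈ fixAt X x, k (g x) = g x := fun k hk => by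
      obtain ⟨hkX, hkx⟩ := Subgroup.mem_inf.1 hk
      rw [hcg k hkX, show k x = x from MulAction.mem_stabilizer_iff.1 hkx]
    have h2' := card_le_orbit (fixAt X x) y (S₂ x) fun k hk => by
      obtain ⟨hkX, hkx⟩ := Subgroup.mem_inf.1 hk
      simp only [S₂, Finset.mem_compl, Finset.mem_insert, Finset.mem_singleton, not_or] at hy ⊢
      exact ⟨fun h => hy.1 (k.injective (h.trans (ha k hkX).symm)),
        fun h => hy.2.1 (k.injective (h.trans (hb k hkX).symm)),
        fun h => hy.2.2.1 (k.injective (h.trans (show k x = x from MulAction.mem_stabilizer_iff.1 hkx).symm)),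
        fun h => hy.2.2.2 (k.injective (h.trans (hgx k hk).symm))⟩
    have h4 := card_fix_six (fixAt (fixAt X x) y) (inf_le_left.trans (inf_le_left.trans hXM)) hB
      (hfive x hx y hy) hsB hgyB fun k hk => by
        obtain ⟨hk1, hky⟩ := Subgroup.mem_inf.1 hk
        obtain ⟨hkX, hkx⟩ := Subgroup.mem_inf.1 hk1
        have hy1 : k y = y := MulAction.mem_stabilizer_iff.1 hky
        refine ⟨fun q hq => ?_, by rw [hcg k hkX, hy1]⟩
        simp only [Finset.mem_insert, Finset.mem_singleton] at hq
        rcases hq with rfl | rfl | rfl | rfl | rfl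
        · exact ha k hkX
        · exact hb k hkX
        · exact MulAction.mem_stabilizer_iff.1 hkx
        · exact hgx k hk1
        · exact hy1
    rw [hS₁c] at h1
    rw [hS₂c x hx] at h2'
    omega

end pair

/-- The elements fixed by an automorphism. -/
def fixedBy (φ : MulAut ↥Spor.M22) : Subgroup ↥Spor.M22 := φ.toMonoidHom.eqLocus (MonoidHom.id _)

theorem mem_fixedBy {φ : MulAut ↥Spor.M22} {m : ↥Spor.M22} : m ∈ fixedBy φ ↔ φ m = m := Iff.rfl

theorem conj_m22_inj : Function.Injective (MulAut.conj : ↥Spor.M22 →* MulAut ↥Spor.M22) := by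
  haveI := Cfsg.Agent.Golay.M22TwoBlock.isSimple
  rw [injective_iff_map_eq_one]
  intro a ha
  have hac : a ∈ Subgroup.center ↥Spor.M22 := Subgroup.mem_center_iff.2 fun b => by
    have := DFunLike.congr_fun ha b
    rw [MulAut.conj_apply, MulAut.one_apply, mul_inv_eq_iff_eq_mul] at this
    exact this.symm
  rcases (inferInstance : (Subgroup.center ↥Spor.M22).Normal).eq_bot_or_eq_top with h | h
  · rwa [h, Subgroup.mem_bot] at hac
  · exfalso
    refine M22Order.not_comm Cfsg.Agent.Golay.M22Involution.card_M22 ⟨⟨fun x y => ?_⟩⟩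
    exact (Subgroup.mem_center_iff.1 (h ▸ Subgroup.mem_top x) y).symm

theorem conj_commute {φ : MulAut ↥Spor.M22} {m : ↥Spor.M22} :
    φ * MulAut.conj m = MulAut.conj (φ m) * φ :=
  MulEquiv.ext fun x => by simp [MulAut.mul_apply]

theorem card_cent_aut_le (φ : MulAut ↥Spor.M22) :
    Nat.card (Subgroup.centralizer ({φ} : Set (MulAut ↥Spor.M22))) ≤ 2 * Nat.card (fixedBy φ) := by
  have hI := Cfsg.Agent.Golay.AutM22.index_inn
  haveI hn : (Cfsg.Inn ↥Spor.M22).Normal := Subgroup.normal_of_index_eq_two hI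
  set C := Subgroup.centralizer ({φ} : Set (MulAut ↥Spor.M22))
  set K := (Cfsg.Inn ↥Spor.M22).subgroupOf C with hK
  have hdvd : K.index ∣ 2 := hI ▸ Subgroup.relIndex_dvd_index_of_normal (Cfsg.Inn ↥Spor.M22) C
  have hKc : Nat.card K ≤ Nat.card (fixedBy φ) := by
    have h : ∀ k : K, ∃ m : fixedBy φ, MulAut.conj (m : ↥Spor.M22) = ((k : C) : MulAut ↥Spor.M22) := by
      intro k
      obtain ⟨m, hm⟩ := Subgroup.mem_subgroupOf.1 k.2
      refine ⟨⟨m, ?_⟩, hm⟩
      rw [mem_fixedBy]
      refine conj_m22_inj (mul_right_cancel (b := φ) ?_)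
      rw [← conj_commute, hm]
      exact (Subgroup.mem_centralizer_singleton_iff.1 (k : C).2).symm
    choose f hf using h
    exact Nat.card_le_card_of_injective f fun k k' e =>
      Subtype.ext (Subtype.ext (by rw [← hf k, ← hf k', e]))
  rw [← K.card_mul_index, mul_comm]
  exact Nat.mul_le_mul (Nat.le_of_dvd (by norm_num) hdvd) hKc

/-- An inner involutory automorphism has centralizer of order at most 768. -/
theorem card_cent_inner {φ : MulAut ↥Spor.M22} (h2 : φ * φ = 1) (h1 : φ ≠ 1)
    (hin : φ ∈ Cfsg.Inn ↥Spor.M22) :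
    Nat.card (Subgroup.centralizer ({φ} : Set (MulAut ↥Spor.M22))) ≤ 768 := by
  haveI := Cfsg.Agent.Golay.M22TwoBlock.isSimple
  haveI : Fact (Nat.Prime 2) := ⟨Nat.prime_two⟩
  obtain ⟨t, rfl⟩ := hin
  have ht : orderOf t = 2 := orderOf_eq_prime
    (conj_m22_inj (by rw [map_pow, map_one, pow_two]; exact h2)) (fun e => h1 (by rw [e, map_one]))
  refine (card_cent_aut_le _).trans ?_
  have e : fixedBy (MulAut.conj t) = Subgroup.centralizer ({t} : Set ↥Spor.M22) := by
    ext m
    rw [mem_fixedBy, MulAut.conj_apply, Subgroup.mem_centralizer_singleton_iff, mul_inv_eq_iff_eq_mul]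
    exact eq_comm
  rw [e]
  have h384 : Nat.card (Subgroup.centralizer ({t} : Set ↥Spor.M22)) = 384 :=
    M22Order.cen_involution Cfsg.Agent.Golay.M22Involution.card_M22 ht
  rw [h384]

/-- The involution of M24 giving an outer involutory automorphism. -/
theorem exists_outer_perm {φ : MulAut ↥Spor.M22} (h2 : φ * φ = 1) (hout : φ ∉ Cfsg.Inn ↥Spor.M22) :
    ∃ g : pG, g ∈ Cfsg.M24 ∧ g * g = 1 ∧ g ea = eb ∧
      ∀ k ∈ fixedBy φ, (k : pG) * g = g * (k : pG) := by
  classical
  obtain ⟨σ, ha, hb, hσ⟩ := exists_perm22 φ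
  have hn : ∀ k ∈ K22, σ * k * σ⁻¹ ∈ K22 := fun k hk => by
    have := mem22 (φ ⟨k, (SetLike.ext_iff.1 M22_eq k).2 hk⟩)
    rwa [← hσ] at this
  have hswap : Equiv.swap ea eb * σ ∈ Cfsg.M24 := (mem_or_swap ha hb hn).resolve_left fun hm =>
    hout (inner_of_mem hσ (mem_K22.2 ⟨hm, ha, hb⟩))
  set g : pG := Equiv.swap ea eb * σ with hg
  have hgc : ∀ k : ↥Spor.M22, g * (k : pG) * g⁻¹ = (φ k : pG) := by
    intro k
    obtain ⟨-, hka, hkb⟩ := mem_K22.1 (mem22 (φ k))
    rw [hg]
    calc Equiv.swap ea eb * σ * (k : pG) * (Equiv.swap ea eb * σ)⁻¹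
        = Equiv.swap ea eb * (σ * k * σ⁻¹) * (Equiv.swap ea eb)⁻¹ := by group
      _ = (φ k : pG) := by
        rw [hσ, mul_inv_eq_iff_eq_mul, Equiv.mul_swap_eq_swap_mul, hka, hkb]
  have hga : g ea = eb := by rw [hg, Equiv.Perm.mul_apply, ha, Equiv.swap_apply_left]
  have hgb : g eb = ea := by rw [hg, Equiv.Perm.mul_apply, hb, Equiv.swap_apply_right]
  have hg2 : g * g = 1 := by
    have hcomm : ∀ k : ↥Spor.M22, g * g * (k : pG) = (k : pG) * (g * g) := by
      intro k
      have hφ : φ (φ k) = k := by rw [← MulAut.mul_apply, h2, MulAut.one_apply]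
      calc g * g * (k : pG) = g * (g * k * g⁻¹) * g⁻¹ * (g * g) := by group
        _ = _ := by rw [hgc, hgc, hφ]
    ext u : 1
    rw [Equiv.Perm.one_apply]
    by_cases hua : u = ea
    · rw [hua, Equiv.Perm.mul_apply, hga, hgb]
    by_cases hub : u = eb
    · rw [hub, Equiv.Perm.mul_apply, hgb, hga]
    have hga2 : (g * g) ea = ea := by rw [Equiv.Perm.mul_apply, hga, hgb]
    have hgb2 : (g * g) eb = eb := by rw [Equiv.Perm.mul_apply, hgb, hga]
    have hw : (g * g) u ≠ ea ∧ (g * g) u ≠ eb :=
      ⟨fun h => hua ((g * g).injective (h.trans hga2.symm)),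
       fun h => hub ((g * g).injective (h.trans hgb2.symm))⟩
    refine (inj22 ⟨hua, hub⟩ hw ?_).symm
    ext k
    simp only [MulAction.mem_stabilizer_iff]
    show (k : pG) u = u ↔ (k : pG) ((g * g) u) = (g * g) u
    rw [← Equiv.Perm.mul_apply, ← hcomm, Equiv.Perm.mul_apply, (g * g).injective.eq_iff]
  refine ⟨g, hswap, hg2, hga, fun k hk => ?_⟩
  have := hgc k
  rw [mem_fixedBy.1 hk, mul_inv_eq_iff_eq_mul] at this
  exact this.symm

/-- An outer involutory automorphism has centralizer of order at most 5194. -/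
theorem card_cent_outer {φ : MulAut ↥Spor.M22} (h2 : φ * φ = 1) (hout : φ ∉ Cfsg.Inn ↥Spor.M22) :
    Nat.card (Subgroup.centralizer ({φ} : Set (MulAut ↥Spor.M22))) ≤ 5194 := by
  obtain ⟨g, hswap, hg2, hga, hcomm⟩ := exists_outer_perm h2 hout
  refine (card_cent_aut_le φ).trans ?_
  have hX := cent_pair_le hswap hg2 hga ((fixedBy φ).map Spor.M22.subtype) (by
    rintro _ ⟨k, hk, rfl⟩
    exact ⟨mem22 k, hcomm k hk⟩)
  rw [Subgroup.card_map_of_injective Spor.M22.subtype_injective] at hX
  omega

end Cfsg.Agent.J4Local
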