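import Cfsg.Agent.Lib.J4Local.Loc
import Cfsg.Agent.Lib.J4Local.Three
import Cfsg.Agent.Lib.J4Local.M22Rank
import Cfsg.Agent.Lib.J4Local.M22Outer

/-!
# Janko four type: the local facts hold
-/

set_option autoImplicit false
set_option linter.style.haveILetI false
set_option linter.unusedSectionVars false

namespace Cfsg.Agent.J4Local

open Subgroup
open scoped commutatorElement

variable {G : Type*} [Group G] [Finite G] {z : G} {P : Subgroup G}

/-- The map of `C(z)` onto `Aut M22`; its kernel is `P E`. -/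
theorem exists_full_hom (hJ : JType z P) : ∃ Φ : ↥(HH z) →* MulAut ↥Spor.M22,
    Function.Surjective Φ ∧ Φ.ker = (P ⊔ EE z).subgroupOf (HH z) ∧
      Nat.card ↥(P ⊔ EE z) = 3 * 2 ^ 13 := by
  have hPH := hJ.P_le_HH
  have hP3 := hJ.cardP
  obtain ⟨-, -, hE, -, ⟨N, hEN, hNH, -, hN, ⟨hn, ⟨ψ⟩⟩, hPN⟩, -⟩ := hJ
  haveI := hn
  have hsup : P ⊔ EE z = N := by
    refine eq_of_le_of_card_ge (sup_le hPN hEN) ?_
    rw [hN, hE, ← hP3, ← hE]
    exact Nat.le_of_dvd Nat.card_pos (Nat.Coprime.mul_dvd_of_dvd_of_dvd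
      (by rw [hP3, hE]; norm_num) (card_dvd_of_le le_sup_left) (card_dvd_of_le le_sup_right))
  refine ⟨ψ.toMonoidHom.comp (QuotientGroup.mk' _), ψ.surjective.comp (QuotientGroup.mk'_surjective _),
    ?_, by rw [hsup, hN, hE]⟩
  rw [hsup, ← MonoidHom.comap_ker, (MonoidHom.ker_eq_bot_iff ψ.toMonoidHom).2 ψ.injective,
    MonoidHom.comap_bot, QuotientGroup.ker_mk']

/-- An element of `P E` with square in `E` lies in `E`. -/
theorem mem_EE_of_sq (hJ : JType z P) {v : G} (hv : v ∈ P ⊔ EE z) (h2 : v * v ∈ EE z) : v ∈ EE z := by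
  have hn : P ≤ normalizer (EE z : Set G) := fun p hp => mem_normalizer_iff.2 fun x =>
    ⟨fun hx => conj_mem_EE (hJ.P_le_HH hp) hx, fun hx => by
      have := conj_mem_EE' (hJ.P_le_HH hp) hx
      simpa [mul_assoc] using this⟩
  have hv' : v ∈ ((P ⊔ EE z : Subgroup G) : Set G) := hv
  rw [coe_mul_of_left_le_normalizer_right P _ hn] at hv'
  obtain ⟨p, hp, e, he, rfl⟩ := hv'
  have hd : Disjoint P (EE z) := disjoint_of_coprime_natCard (by rw [hJ.cardP, hJ.cardE]; norm_num)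
  have hpp : p * p ∈ EE z := by
    have e1 : p * p = (p * e * (p * e)) * e⁻¹ * (p⁻¹ * e⁻¹ * p) := by group
    rw [e1]
    exact mul_mem (mul_mem h2 (inv_mem he)) (conj_mem_EE' (hJ.P_le_HH hp) (inv_mem he))
  have h1 : p * p = 1 := (Subgroup.disjoint_def.1 hd) (mul_mem hp hp) hpp
  have h3 := pow_three_eq_one hJ hp
  rw [pow_succ, pow_two, h1, one_mul] at h3
  show p * e ∈ EE z
  rw [h3, one_mul]; exact he

/-- `C(z) ∩ C(P) ∩ P E = P ⊔ ⟨z⟩`. -/
theorem CC_inf_PE (hJ : JType z P) {x : G} (hx : x ∈ CC z P) (hxN : x ∈ P ⊔ EE z) :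
    x ∈ P ⊔ zpowers z := by
  have hn : P ≤ normalizer (EE z : Set G) := fun p hp => mem_normalizer_iff.2 fun y =>
    ⟨fun hy => conj_mem_EE (hJ.P_le_HH hp) hy, fun hy => by
      have := conj_mem_EE' (hJ.P_le_HH hp) hy
      simpa [mul_assoc] using this⟩
  have hx' : x ∈ ((P ⊔ EE z : Subgroup G) : Set G) := hxN
  rw [coe_mul_of_left_le_normalizer_right P _ hn] at hx'
  obtain ⟨p, hp, e, he, rfl⟩ := hx'
  refine mul_mem (mem_sup_left hp) (mem_sup_right (hJ.CC_inf_EE ?_ he))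
  have := mul_mem (inv_mem (hJ.P_le_CC hp)) hx
  simpa using this

section setup

variable (hJ : JType z P) {Φ : ↥(HH z) →* MulAut ↥Spor.M22} (hΦ : Function.Surjective Φ)
  (hker : Φ.ker = (P ⊔ EE z).subgroupOf (HH z)) (hc : Nat.card ↥(P ⊔ EE z) = 3 * 2 ^ 13)

include hJ hΦ hker hc

theorem map_CC : ((CC z P).subgroupOf (HH z)).map Φ = Cfsg.Inn ↥Spor.M22 := by
  refine inn_eq_of_index_two ?_
  set S := (CC z P).subgroupOf (HH z)
  set g := Φ.comp S.subtype with hg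
  have hgr : g.range = S.map Φ := by rw [hg, MonoidHom.range_comp, range_subtype]
  have hk : Nat.card g.ker = 6 := by
    have h1 : ∀ x : g.ker, (((x : S) : ↥(HH z)) : G) ∈ P ⊔ zpowers z := fun x => by
      have hx : ((x : S) : ↥(HH z)) ∈ Φ.ker := x.2
      rw [hker, mem_subgroupOf] at hx
      exact CC_inf_PE hJ (mem_subgroupOf.1 (x : S).2) hx
    have h2 : ∀ y : ↥(P ⊔ zpowers z), (⟨y.1, (six_le hJ y.2).1⟩ : ↥(HH z)) ∈ Φ.ker := fun y => by
      rw [hker, mem_subgroupOf]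
      exact (sup_le le_sup_left (zpowers_le.2 (mem_sup_right hJ.ctr.z_mem)) :
          P ⊔ zpowers z ≤ P ⊔ EE z) y.2
    let e : g.ker ≃ ↥(P ⊔ zpowers z) :=
      { toFun := fun x => ⟨_, h1 x⟩
        invFun := fun y => ⟨⟨⟨y.1, (six_le hJ y.2).1⟩, six_le hJ y.2⟩, h2 y⟩
        left_inv := fun x => rfl
        right_inv := fun y => rfl }
    rw [Nat.card_congr e, card_six hJ]
  have h := g.ker.card_mul_index
  rw [index_ker, hgr, hk, Nat.card_congr (subgroupOfEquivOfLe (CC_le_HH z P)).toEquiv, card_CP hJ] at h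
  have h' := (S.map Φ).card_mul_index
  rw [card_mulAut_m22] at h'
  have hS : Nat.card ↥(S.map Φ) = 443520 := by omega
  rw [hS] at h'
  omega

theorem H0_eq : (H0 z P).subgroupOf (HH z) = (Cfsg.Inn ↥Spor.M22).comap Φ := by
  rw [← map_CC hJ hΦ hker hc, comap_map_eq, hker]
  rw [← subgroupOf_sup (CC_le_HH z P) (sup_le hJ.P_le_HH (EE_le_HH z))]
  congr 1
  exact le_antisymm (sup_le le_sup_left (le_sup_right.trans le_sup_right))
    (sup_le le_sup_left (sup_le (hJ.P_le_CC.trans le_sup_left) le_sup_right))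

theorem mem_H0_iff {v : G} (hv : v ∈ HH z) : v ∈ H0 z P ↔ Φ ⟨v, hv⟩ ∈ Cfsg.Inn ↥Spor.M22 := by
  rw [← mem_comap (f := Φ), ← H0_eq hJ hΦ hker hc, mem_subgroupOf]

theorem card_comap (Q : Subgroup (MulAut ↥Spor.M22)) :
    Nat.card ↥(Q.comap Φ) = Nat.card Q * (3 * 2 ^ 13) := by
  have h := Φ.ker.card_mul_index
  rw [index_ker, MonoidHom.range_eq_top.2 hΦ, Nat.card_congr topEquiv.toEquiv, hker,
    Nat.card_congr (subgroupOfEquivOfLe (sup_le hJ.P_le_HH (EE_le_HH z))).toEquiv, hc] at h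
  have h1 := (Q.comap Φ).card_mul_index
  rw [index_comap_of_surjective _ hΦ, ← h, ← Q.card_mul_index] at h1
  exact Nat.eq_of_mul_eq_mul_right (Nat.pos_of_ne_zero index_ne_zero_of_finite)
    (h1.trans (by ring))

theorem card_H0' : Nat.card ↥(H0 z P) = 2 ^ 13 * 1330560 := by
  rw [← Nat.card_congr (subgroupOfEquivOfLe (H0_le_HH z P)).toEquiv, H0_eq hJ hΦ hker hc,
    card_comap hJ hΦ hker hc]
  have h := (Cfsg.Inn ↥Spor.M22).card_mul_index
  rw [Cfsg.Agent.Golay.AutM22.index_inn, card_mulAut_m22] at h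
  have : Nat.card ↥(Cfsg.Inn ↥Spor.M22) = 443520 := by omega
  rw [this]; norm_num

theorem outer_inv' {h : G} (hh : h ∈ HH z) (h0 : h ∉ H0 z P) {p : G} (hp : p ∈ P) :
    h * p * h⁻¹ * p ∈ EE z := by
  classical
  have hPE : P ⊔ EE z ≤ H0 z P := sup_le (hJ.P_le_CC.trans le_sup_left) le_sup_right
  -- an element of `N(P)` with the same image
  set g := Φ.comp (Subgroup.inclusion (inf_le_left : NPz z P ≤ HH z)) with hg
  have hgker : Nat.card g.ker ≤ 6 := by
    rw [← card_six hJ]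
    refine Nat.card_le_card_of_injective (fun x => (⟨((x : ↥(NPz z P)) : G), ?_⟩ : ↥(P ⊔ zpowers z))) ?_
    · have hx : Subgroup.inclusion (inf_le_left : NPz z P ≤ HH z) (x : ↥(NPz z P)) ∈ Φ.ker := x.2
      rw [hker, mem_subgroupOf] at hx
      have hx' : ((x : ↥(NPz z P)) : G) ∈ P ⊔ EE z := hx
      refine CC_inf_PE hJ ⟨(x : ↥(NPz z P)).2.1, ?_⟩ hx'
      -- it acts trivially on `P` modulo `E`
      have hn : P ≤ normalizer (EE z : Set G) := fun q hq => mem_normalizer_iff.2 fun y =>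
        ⟨fun hy => conj_mem_EE (hJ.P_le_HH hq) hy, fun hy => by
          have := conj_mem_EE' (hJ.P_le_HH hq) hy
          simpa [mul_assoc] using this⟩
      have hd : Disjoint P (EE z) := disjoint_of_coprime_natCard (by rw [hJ.cardP, hJ.cardE]; norm_num)
      have hx'' : ((x : ↥(NPz z P)) : G) ∈ ((P ⊔ EE z : Subgroup G) : Set G) := hx'
      rw [coe_mul_of_left_le_normalizer_right P _ hn] at hx''
      obtain ⟨q, hq, e, he, hqe⟩ := hx''
      have hqe' : q * e = ((x : ↥(NPz z P)) : G) := hqe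
      show ((x : ↥(NPz z P)) : G) ∈ centralizer (P : Set G)
      rw [mem_centralizer_iff]
      intro a ha
      have hen : e ∈ normalizer (P : Set G) := by
        have := mul_mem (inv_mem (le_normalizer (H := P) hq)) (x : ↥(NPz z P)).2.2
        rw [← hqe'] at this
        simpa using this
      have h1 : e * a * e⁻¹ * a⁻¹ ∈ P := mul_mem ((mem_normalizer_iff.1 hen a).1 ha) (inv_mem ha)
      have h2 : e * a * e⁻¹ * a⁻¹ ∈ EE z := by
        have := mul_mem he (conj_mem_EE (hJ.P_le_HH ha) (inv_mem he))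
        simpa [mul_assoc] using this
      have h3 := (Subgroup.disjoint_def.1 hd) h1 h2
      rw [mul_inv_eq_one, mul_inv_eq_iff_eq_mul] at h3
      have haq : Commute q a := P_comm hJ hq ha
      show a * ((x : ↥(NPz z P)) : G) = ((x : ↥(NPz z P)) : G) * a
      rw [← hqe', ← mul_assoc, ← haq.eq, mul_assoc, ← h3, mul_assoc]
    · exact fun x y e => Subtype.ext (Subtype.ext (congrArg (fun w : ↥(P ⊔ zpowers z) => (w : G)) e :))
  have hgs : Function.Surjective g := by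
    rw [← MonoidHom.range_eq_top]
    refine eq_top_of_le_card _ ?_
    obtain ⟨f, hf, hfk⟩ := exists_aut_hom hJ
    have hN := f.ker.card_mul_index
    rw [index_ker, MonoidHom.range_eq_top.2 hf, Nat.card_congr topEquiv.toEquiv, hfk,
      Nat.card_congr (subgroupOfEquivOfLe ((six_le hJ).trans
        (inf_le_inf_left _ (centralizer_le_normalizer _)))).toEquiv, card_six hJ, card_mulAut_m22] at hN
    have h1 := g.ker.card_mul_index
    rw [index_ker, ← hN] at h1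
    rw [card_mulAut_m22]
    have := Nat.mul_le_mul_right (Nat.card g.range) hgker
    omega
  obtain ⟨n, hn⟩ := hgs (Φ ⟨h, hh⟩)
  have hk : (Subgroup.inclusion (inf_le_left : NPz z P ≤ HH z) n)⁻¹ * ⟨h, hh⟩ ∈ Φ.ker := by
    rw [MonoidHom.mem_ker, map_mul, map_inv, inv_mul_eq_one]
    exact hn
  rw [hker, mem_subgroupOf] at hk
  have hk' : (n : G)⁻¹ * h ∈ P ⊔ EE z := hk
  have hn0 : (n : G) ∉ H0 z P := fun hc0 => h0 (by simpa using mul_mem hc0 (hPE hk'))
  have hnp : (n : G) * p * (n : G)⁻¹ * p = 1 := by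
    by_cases hp1 : p = 1
    · simp [hp1]
    have ho : orderOf p = 3 := by
      haveI : Fact (Nat.Prime 3) := ⟨Nat.prime_three⟩
      exact orderOf_eq_prime (pow_three_eq_one hJ hp) hp1
    have hgen : zpowers p = P :=
      eq_of_le_of_card_ge (zpowers_le.2 hp) (by rw [hJ.cardP, Nat.card_zpowers, ho])
    have hmem : (n : G) * p * (n : G)⁻¹ ∈ zpowers p := hgen.symm ▸ (mem_normalizer_iff.1 n.2.2 p).1 hp
    obtain ⟨i, hi⟩ := mem_zpowers_iff.1 hmem
    rw [← zpow_mod_orderOf, ho] at hi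
    have hA : (0 : ℤ) ≤ i % ((3 : ℕ) : ℤ) := Int.emod_nonneg _ (by norm_num)
    have hB : i % ((3 : ℕ) : ℤ) < 3 := Int.emod_lt_of_pos _ (by norm_num)
    interval_cases hv : i % ((3 : ℕ) : ℤ)
    · rw [zpow_zero] at hi
      exact absurd (conj_eq_one_iff.1 hi.symm) hp1
    · exfalso
      rw [zpow_one] at hi
      refine hn0 (CC_le_H0 z P ⟨n.2.1, mem_centralizer_iff.2 fun a ha => ?_⟩)
      have hle : P ≤ centralizer ({(n : G)} : Set G) := le_of_eq_of_le hgen.symm (by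
        rw [zpowers_le, mem_centralizer_singleton_iff]
        exact (mul_inv_eq_iff_eq_mul.1 hi.symm).symm)
      exact mem_centralizer_singleton_iff.1 (hle ha)
    · rw [← hi, ← zpow_add_one]
      have := pow_three_eq_one hJ hp
      simpa using this
  have hnn : P ≤ normalizer (EE z : Set G) := fun q hq => mem_normalizer_iff.2 fun y =>
    ⟨fun hy => conj_mem_EE (hJ.P_le_HH hq) hy, fun hy => by
      have := conj_mem_EE' (hJ.P_le_HH hq) hy
      simpa [mul_assoc] using this⟩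
  have hk'' : (n : G)⁻¹ * h ∈ ((P ⊔ EE z : Subgroup G) : Set G) := hk'
  rw [coe_mul_of_left_le_normalizer_right P _ hnn] at hk''
  obtain ⟨q, hq, e, he, hqe⟩ := hk''
  have hh' : h = (n : G) * (q * e) := by rw [show q * e = (n : G)⁻¹ * h from hqe, mul_inv_cancel_left]
  have hqp : q * p * q⁻¹ = p := by rw [(P_comm hJ hq hp).eq, mul_inv_cancel_right]
  have e2 : h * p * h⁻¹ * p = ((n : G) * (q * (e * p * e⁻¹ * p⁻¹) * q⁻¹) * (n : G)⁻¹) *
      ((n : G) * (q * p * q⁻¹) * (n : G)⁻¹ * p) := by rw [hh']; group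
  rw [e2, hqp, hnp, mul_one]
  have hee : e * p * e⁻¹ * p⁻¹ ∈ EE z := by
    have := mul_mem he (conj_mem_EE (hJ.P_le_HH hp) (inv_mem he))
    simpa [mul_assoc] using this
  exact conj_mem_EE n.2.1 (conj_mem_EE (hJ.P_le_HH hq) hee)

theorem centMod_le {v : G} (hv : v ∈ HH z) :
    (centMod z v).subgroupOf (HH z) ≤
      (centralizer ({Φ ⟨v, hv⟩} : Set (MulAut ↥Spor.M22))).comap Φ := by
  intro h hh
  obtain ⟨-, hh2⟩ := mem_centMod.1 (mem_subgroupOf.1 hh)
  have hk : h * ⟨v, hv⟩ * h⁻¹ * (⟨v, hv⟩ : ↥(HH z))⁻¹ ∈ Φ.ker := by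
    rw [hker, mem_subgroupOf]
    exact mem_sup_right hh2
  rw [MonoidHom.mem_ker, map_mul, map_mul, map_mul, map_inv, map_inv, mul_inv_eq_one,
    mul_inv_eq_iff_eq_mul] at hk
  exact mem_centralizer_singleton_iff.2 hk

theorem sq_image {v : G} (hv : v ∈ HH z) (hvE : v ∉ EE z) (h2 : v * v ∈ EE z) :
    Φ ⟨v, hv⟩ * Φ ⟨v, hv⟩ = 1 ∧ Φ ⟨v, hv⟩ ≠ 1 := by
  constructor
  · rw [← map_mul, ← MonoidHom.mem_ker, hker, mem_subgroupOf]
    exact mem_sup_right h2
  · intro e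
    have : (⟨v, hv⟩ : ↥(HH z)) ∈ Φ.ker := e
    rw [hker, mem_subgroupOf] at this
    exact hvE (mem_EE_of_sq hJ this h2)

theorem cent_inner' {v : G} (hv0 : v ∈ H0 z P) (hvE : v ∉ EE z) (h2 : v * v ∈ EE z) :
    Nat.card ↥(centMod z v) ≤ 2 ^ 13 * 2304 := by
  have hv := H0_le_HH z P hv0
  obtain ⟨hsq, hne⟩ := sq_image hJ hΦ hker hc hv hvE h2
  have hle := Nat.le_of_dvd Nat.card_pos (card_dvd_of_le (centMod_le hJ hΦ hker hc hv))
  rw [card_comap hJ hΦ hker hc,
    Nat.card_congr (subgroupOfEquivOfLe (fun h hh => (mem_centMod.1 hh).1 : centMod z v ≤ HH z)).toEquiv] at hle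
  have := Nat.mul_le_mul_right (3 * 2 ^ 13)
    (card_cent_inner hsq hne ((mem_H0_iff hJ hΦ hker hc hv).1 hv0))
  exact hle.trans (this.trans (by norm_num))

theorem cent_outer' {v : G} (hv : v ∈ HH z) (hv0 : v ∉ H0 z P) (h2 : v * v ∈ EE z) :
    Nat.card ↥(centMod z v) ≤ 2 ^ 13 * 5194 := by
  classical
  have hvE : v ∉ EE z := fun h => hv0 (EE_le_H0 z P h)
  obtain ⟨hsq, -⟩ := sq_image hJ hΦ hker hc hv hvE h2
  set M := (centMod z v).subgroupOf (HH z) with hM
  set g := Φ.comp M.subtype with hg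
  have hgk : Nat.card g.ker ≤ 2 ^ 13 := by
    rw [← hJ.cardE]
    refine Nat.card_le_card_of_injective (fun x => (⟨(((x : M) : ↥(HH z)) : G), ?_⟩ : ↥(EE z))) ?_
    · set y := (((x : M) : ↥(HH z)) : G) with hy
      have hx : ((x : M) : ↥(HH z)) ∈ Φ.ker := x.2
      rw [hker, mem_subgroupOf] at hx
      obtain ⟨-, hcm⟩ := mem_centMod.1 (mem_subgroupOf.1 (x : M).2)
      have hnn : P ≤ normalizer (EE z : Set G) := fun q hq => mem_normalizer_iff.2 fun w =>
        ⟨fun hw => conj_mem_EE (hJ.P_le_HH hq) hw, fun hw => by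
          have := conj_mem_EE' (hJ.P_le_HH hq) hw
          simpa [mul_assoc] using this⟩
      have hx' : y ∈ ((P ⊔ EE z : Subgroup G) : Set G) := hx
      rw [coe_mul_of_left_le_normalizer_right P _ hnn] at hx'
      obtain ⟨p, hp, e, he, hpe⟩ := hx'
      have hye : y = p * e := hpe.symm
      have hinv := outer_inv' hJ hΦ hker hc hv hv0 hp
      change y * v * y⁻¹ * v⁻¹ ∈ EE z at hcm
      change y ∈ EE z
      rw [hye] at hcm ⊢
      -- `v` inverts and centralizes `p` modulo `E`, so `p = 1`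
      have hA : p * v * p⁻¹ * v⁻¹ ∈ EE z := by
        have e1 : p * v * p⁻¹ * v⁻¹ = (p * (e * (v * e⁻¹ * v⁻¹)) * p⁻¹)⁻¹ *
            (p * e * v * (p * e)⁻¹ * v⁻¹) := by group
        rw [e1]
        exact mul_mem (inv_mem (conj_mem_EE (hJ.P_le_HH hp) (mul_mem he (conj_mem_EE hv (inv_mem he))))) hcm
      have hpp : p * p ∈ EE z := by
        have e2 : p * p = (p * v * p⁻¹ * v⁻¹) * (v * p * v⁻¹ * p) := by group
        rw [e2]
        exact mul_mem hA hinv
      exact mem_EE_of_sq hJ (mul_mem (mem_sup_left hp) (mem_sup_right he)) (by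
        have e3 : p * e * (p * e) = (p * p) * ((p⁻¹ * e * p) * e) := by group
        rw [e3]
        exact mul_mem hpp (mul_mem (conj_mem_EE' (hJ.P_le_HH hp) he) he))
    · exact fun x y e => Subtype.ext (Subtype.ext (Subtype.ext (congrArg (fun w : ↥(EE z) => (w : G)) e :)))
  have hgr : g.range ≤ centralizer ({Φ ⟨v, hv⟩} : Set (MulAut ↥Spor.M22)) := by
    rw [hg, MonoidHom.range_comp, range_subtype, map_le_iff_le_comap]
    exact centMod_le hJ hΦ hker hc hv
  have hrc := (Nat.le_of_dvd Nat.card_pos (card_dvd_of_le hgr)).trans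
    (card_cent_outer hsq fun h => hv0 ((mem_H0_iff hJ hΦ hker hc hv).2 h))
  have h := g.ker.card_mul_index
  rw [index_ker] at h
  rw [← Nat.card_congr (subgroupOfEquivOfLe (fun h hh => (mem_centMod.1 hh).1 : centMod z v ≤ HH z)).toEquiv,
    ← h]
  exact Nat.mul_le_mul hgk hrc

theorem elem_le' (A : Subgroup G) (hA0 : A ≤ H0 z P) (hsq : ∀ a ∈ A, a * a ∈ EE z) :
    Nat.card ↥A ≤ 2 ^ 13 * 16 := by
  classical
  haveI := Cfsg.Agent.Golay.M22TwoBlock.isSimple
  have hAH : A ≤ HH z := hA0.trans (H0_le_HH z P)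
  set M := A.subgroupOf (HH z) with hM
  set g := Φ.comp M.subtype with hg
  have hgk : Nat.card g.ker ≤ 2 ^ 13 := by
    rw [← hJ.cardE]
    refine Nat.card_le_card_of_injective (fun x => (⟨(((x : M) : ↥(HH z)) : G), ?_⟩ : ↥(EE z))) ?_
    · have hx : ((x : M) : ↥(HH z)) ∈ Φ.ker := x.2
      rw [hker, mem_subgroupOf] at hx
      exact mem_EE_of_sq hJ hx (hsq _ (mem_subgroupOf.1 (x : M).2))
    · exact fun x y e => Subtype.ext (Subtype.ext (Subtype.ext (congrArg (fun w : ↥(EE z) => (w : G)) e :)))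
  set c : ↥Spor.M22 →* MulAut ↥Spor.M22 := MulAut.conj with hcd
  have hcinj : Function.Injective c := conj_m22_injective
  have hgr : g.range ≤ c.range := by
    rintro _ ⟨x, rfl⟩
    exact (mem_H0_iff hJ hΦ hker hc _).1 (hA0 (mem_subgroupOf.1 x.2))
  have hB := rank_le Cfsg.Agent.Golay.M22Involution.card_M22 (g.range.comap c) fun m hm => by
    obtain ⟨x, hx⟩ := (mem_comap.1 hm : c m ∈ g.range)
    refine hcinj ?_
    rw [map_mul, map_one, ← hx, ← map_mul]
    show Φ ((x : ↥(HH z)) * (x : ↥(HH z))) = 1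
    rw [← MonoidHom.mem_ker, hker, mem_subgroupOf]
    exact mem_sup_right (hsq _ (mem_subgroupOf.1 x.2))
  rw [← card_map_of_injective hcinj, map_comap_eq_self hgr] at hB
  have h := g.ker.card_mul_index
  rw [index_ker] at h
  rw [← Nat.card_congr (subgroupOfEquivOfLe hAH).toEquiv, ← h]
  exact Nat.mul_le_mul hgk hB

end setup

/-- An element of `C(z) ∩ C(P)` outside `E` with square in `⟨z⟩` maps onto an involution. -/
theorem orderOf_pi (hJ : JType z P) {π : ↥(CP z P) →* ↥Spor.M22}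
    (hker : π.ker = (P ⊔ zpowers z).subgroupOf (CP z P)) {u : G} (hu : u ∈ CC z P)
    (h2 : u * u ∈ zpowers z) (huE : u ∉ EE z) : orderOf (π ⟨u, hu⟩) = 2 := by
  haveI : Fact (Nat.Prime 2) := ⟨Nat.prime_two⟩
  refine orderOf_eq_prime ?_ fun e => huE ?_
  · rw [pow_two, ← map_mul, ← MonoidHom.mem_ker, hker, mem_subgroupOf]
    exact mem_sup_right h2
  · have hk : (⟨u, hu⟩ : ↥(CP z P)) ∈ π.ker := e
    rw [hker, mem_subgroupOf] at hk
    have h3 : u ^ 3 ∈ zpowers z := six_cube hJ hk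
    have hzE : z ∈ EE z := hJ.ctr.z_mem
    have hu' : u = u ^ 3 * (u * u)⁻¹ := by rw [pow_succ, pow_two]; group
    rw [hu']
    exact zpowers_le.2 hzE (mul_mem h3 (inv_mem h2))

/-- A lift of an involution with square in `⟨z⟩`. -/
theorem exists_lift_sq (hJ : JType z P) {π : ↥(CP z P) →* ↥Spor.M22} (hπ : Function.Surjective π)
    (hker : π.ker = (P ⊔ zpowers z).subgroupOf (CP z P)) {m : ↥Spor.M22} (hm : m * m = 1) :
    ∃ u : ↥(CP z P), π u = m ∧ ((u : G) * u) ∈ zpowers z := by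
  obtain ⟨a, rfl⟩ := hπ m
  refine ⟨a ^ 3, by rw [map_pow, pow_succ, pow_two, hm, one_mul], ?_⟩
  have hk : a * a ∈ π.ker := by rw [MonoidHom.mem_ker, map_mul, hm]
  rw [hker, mem_subgroupOf] at hk
  have := six_cube hJ hk
  rw [coe_mul] at this
  rw [coe_pow, ← pow_add, show 3 + 3 = 2 * 3 from rfl, pow_mul, pow_two]
  exact this

theorem exists_root' (hJ : JType z P) :
    ∃ x ∈ CC z P, x * x ∉ EE z ∧ x * x * (x * x) ∈ zpowers z := by
  haveI := Cfsg.Agent.Golay.M22TwoBlock.isSimple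
  obtain ⟨π, hπ, hker⟩ := exists_pi hJ
  obtain ⟨y, hy4, hy2⟩ := exists_order_four Cfsg.Agent.Golay.M22Involution.card_M22
  obtain ⟨a, rfl⟩ := hπ y
  refine ⟨((a ^ 3 : ↥(CP z P)) : G), (a ^ 3 : ↥(CP z P)).2, fun hE => hy2 ?_, ?_⟩
  · have hz : ((a ^ 3 : ↥(CP z P)) : G) * ((a ^ 3 : ↥(CP z P)) : G) ∈ zpowers z :=
      hJ.CC_inf_EE (mul_mem (a ^ 3 : ↥(CP z P)).2 (a ^ 3 : ↥(CP z P)).2) hE
    have hk : a ^ 3 * a ^ 3 ∈ π.ker := by
      rw [hker, mem_subgroupOf]; exact mem_sup_right hz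
    rw [MonoidHom.mem_ker, ← pow_add, map_pow, show 3 + 3 = 4 + 2 from rfl, pow_add, hy4, one_mul,
      pow_two] at hk
    exact hk
  · have hk : a ^ 4 ∈ π.ker := by rw [MonoidHom.mem_ker, map_pow, hy4]
    rw [hker, mem_subgroupOf] at hk
    have := six_cube hJ hk
    rw [coe_pow, ← pow_mul] at this
    rw [coe_pow, ← pow_add, ← pow_add]
    exact this

theorem gen_three' (hJ : JType z P) : ∃ u₁ ∈ CC z P, ∃ u₂ ∈ CC z P, ∃ u₃ ∈ CC z P,
    u₁ * u₁ ∈ zpowers z ∧ u₂ * u₂ ∈ zpowers z ∧ u₃ * u₃ ∈ zpowers z ∧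
      P ≤ closure ({u₁, u₂, u₃} : Set G) := by
  classical
  haveI := Cfsg.Agent.Golay.M22TwoBlock.isSimple
  haveI : Fact (Nat.Prime 3) := ⟨Nat.prime_three⟩
  have hM := Cfsg.Agent.Golay.M22Involution.card_M22
  obtain ⟨π, hπ, hker⟩ := exists_pi hJ
  obtain ⟨T, hT, hT27⟩ := exists_twenty_seven hJ
  have hna := not_comm_T hJ hT hT27
  push Not at hna
  obtain ⟨s, s', hss⟩ := hna
  set a : ↥(CP z P) := ⟨(s : G), hT s.2⟩ with ha
  set b : ↥(CP z P) := ⟨(s' : G), hT s'.2⟩ with hb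
  have himg : IsPGroup 3 ↥((T.subgroupOf (CP z P)).map π) :=
    ((IsPGroup.of_card (n := 3) (by rw [Nat.card_congr (subgroupOfEquivOfLe hT).toEquiv, hT27]; norm_num)) :
      IsPGroup 3 ↥(T.subgroupOf (CP z P))).map π
  obtain ⟨S, hS⟩ := himg.exists_le_sylow
  have haS : π a ∈ (S : Subgroup ↥Spor.M22) := hS ⟨a, s.2, rfl⟩
  have hbS : π b ∈ (S : Subgroup ↥Spor.M22) := hS ⟨b, s'.2, rfl⟩
  obtain ⟨t, ht, hinv⟩ := exists_inverting hM S
  have htt : t * t = 1 := by rw [← pow_two, ← ht, pow_orderOf_eq_one]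
  have hinvol : ∀ x ∈ (S : Subgroup ↥Spor.M22), t * x * (t * x) = 1 := by
    intro x hx
    have h := hinv x hx
    rw [inv_eq_of_mul_eq_one_right htt] at h
    calc t * x * (t * x) = (t * x * t) * x := by group
      _ = 1 := by rw [h, inv_mul_cancel]
  obtain ⟨u₁, h11, h12⟩ := exists_lift_sq hJ hπ hker htt
  obtain ⟨u₂, h21, h22⟩ := exists_lift_sq hJ hπ hker (hinvol _ haS)
  obtain ⟨u₃, h31, h32⟩ := exists_lift_sq hJ hπ hker (hinvol _ hbS)
  refine ⟨u₁, u₁.2, u₂, u₂.2, u₃, u₃.2, h12, h22, h32, ?_⟩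
  set K := closure ({(u₁ : G), (u₂ : G), (u₃ : G)} : Set G) with hK
  have hA : ((u₁⁻¹ * u₂ : ↥(CP z P)) : G) ∈ K :=
    mul_mem (inv_mem (subset_closure (by simp))) (subset_closure (by simp))
  have hB : ((u₁⁻¹ * u₃ : ↥(CP z P)) : G) ∈ K :=
    mul_mem (inv_mem (subset_closure (by simp))) (subset_closure (by simp))
  -- lifts differ by central elements
  have hdiff : ∀ {w : ↥(CP z P)} {x : ↥(CP z P)}, π w = π x → ∀ y : ↥(CP z P), ⁅w, y⁆ = ⁅x, y⁆ ∧ ⁅y, w⁆ = ⁅y, x⁆ := by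
    intro w x h y
    have hk : x⁻¹ * w ∈ π.ker := by rw [MonoidHom.mem_ker, map_mul, map_inv, h, inv_mul_cancel]
    rw [hker, mem_subgroupOf] at hk
    have hc : Commute (x⁻¹ * w) y := Subtype.ext (six_central hJ hk y.2).eq
    have hw : w = x * (x⁻¹ * w) := (mul_inv_cancel_left x w).symm
    constructor
    · rw [hw, commutatorElement_def, commutatorElement_def]
      calc x * (x⁻¹ * w) * y * (x * (x⁻¹ * w))⁻¹ * y⁻¹
          = x * ((x⁻¹ * w) * y * (x⁻¹ * w)⁻¹) * x⁻¹ * y⁻¹ := by group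
        _ = _ := by rw [hc.eq, mul_inv_cancel_right]
    · rw [hw, commutatorElement_def, commutatorElement_def]
      calc y * (x * (x⁻¹ * w)) * y⁻¹ * (x * (x⁻¹ * w))⁻¹
          = y * x * ((x⁻¹ * w) * y⁻¹ * (x⁻¹ * w)⁻¹) * x⁻¹ := by group
        _ = _ := by rw [hc.inv_right.eq, mul_inv_cancel_right]
  have hpa : π (u₁⁻¹ * u₂) = π a := by
    rw [map_mul, map_inv, h11, h21, inv_mul_cancel_left]
  have hpb : π (u₁⁻¹ * u₃) = π b := by
    rw [map_mul, map_inv, h11, h31, inv_mul_cancel_left]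
  have hcomm : ⁅u₁⁻¹ * u₂, u₁⁻¹ * u₃⁆ = ⁅a, b⁆ :=
    ((hdiff hpa _).1).trans (hdiff hpb a).2
  have hcK : ((⁅a, b⁆ : ↥(CP z P)) : G) ∈ K := by
    rw [← hcomm, commutatorElement_def, coe_mul, coe_mul, coe_mul, InvMemClass.coe_inv, InvMemClass.coe_inv]
    exact mul_mem (mul_mem (mul_mem hA hB) (inv_mem hA)) (inv_mem hB)
  have hmemP : ((⁅a, b⁆ : ↥(CP z P)) : G) ∈ P := by
    have hcm : (⁅s, s'⁆ : ↥T) ∈ commutator ↥T :=
      commutator_mem_commutator (mem_top _) (mem_top _)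
    rw [(T_extraspecial hJ hT hT27).1.2.2, center_T hJ hT hT27, mem_subgroupOf] at hcm
    exact hcm
  have hne : ((⁅a, b⁆ : ↥(CP z P)) : G) ≠ 1 := fun e => hss <| by
    have : ⁅s, s'⁆ = 1 := Subtype.ext e
    exact commutatorElement_eq_one_iff_mul_comm.1 this
  intro q hq
  have ho : orderOf ((⁅a, b⁆ : ↥(CP z P)) : G) = 3 :=
    orderOf_eq_prime (pow_three_eq_one hJ hmemP) hne
  have hgen : zpowers ((⁅a, b⁆ : ↥(CP z P)) : G) = P :=
    eq_of_le_of_card_ge (zpowers_le.2 hmemP) (by rw [hJ.cardP, Nat.card_zpowers, ho])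
  rw [← hgen] at hq
  exact (zpowers_le.2 hcK) hq

theorem inv_conj' (hJ : JType z P) : ∀ u ∈ CC z P, ∀ w ∈ CC z P, u * u ∈ zpowers z → w * w ∈ zpowers z →
    u ∉ EE z → w ∉ EE z → ∃ c ∈ CC z P, c * u * c⁻¹ * w⁻¹ ∈ zpowers z := by
  haveI := Cfsg.Agent.Golay.M22TwoBlock.isSimple
  intro u hu w hw hu2 hw2 huE hwE
  obtain ⟨π, hπ, hker⟩ := exists_pi hJ
  obtain ⟨m, hm⟩ := isConj_iff.1 (M22Order.isConj_involution Cfsg.Agent.Golay.M22Involution.card_M22
    (orderOf_pi hJ hker hu hu2 huE) (orderOf_pi hJ hker hw hw2 hwE))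
  obtain ⟨c, rfl⟩ := hπ m
  refine ⟨(c : G), c.2, ?_⟩
  set k := (c : G) * u * (c : G)⁻¹ * w⁻¹ with hk
  have hkm : k ∈ P ⊔ zpowers z := by
    have : c * (⟨u, hu⟩ : ↥(CP z P)) * c⁻¹ * (⟨w, hw⟩ : ↥(CP z P))⁻¹ ∈ π.ker := by
      rw [MonoidHom.mem_ker, map_mul, map_mul, map_mul, map_inv, map_inv, hm, mul_inv_cancel]
    rw [hker, mem_subgroupOf] at this
    exact this
  have h3 := six_cube hJ hkm
  have hcw : Commute k w := six_central hJ hkm hw
  have hkw : (c : G) * u * (c : G)⁻¹ = k * w := by rw [hk, inv_mul_cancel_right]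
  have hcu : (c : G) * (u * u) * (c : G)⁻¹ = u * u := by
    rw [← (six_central hJ (mem_sup_right hu2) c.2).eq, mul_inv_cancel_right]
  have hk2 : k * k ∈ zpowers z := by
    have e1 : k * k * (w * w) = u * u := by
      rw [← hcu]
      calc k * k * (w * w) = k * (k * w) * w := by group
        _ = (k * w) * (k * w) := by rw [mul_assoc k w (k * w), ← mul_assoc w k, ← hcw.eq]; group
        _ = _ := by rw [← hkw]; group
    have : k * k = (u * u) * (w * w)⁻¹ := by rw [← e1, mul_inv_cancel_right]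
    rw [this]; exact mul_mem hu2 (inv_mem hw2)
  have : k = k ^ 3 * (k * k)⁻¹ := by rw [pow_succ, pow_two]; group
  rw [this]; exact mul_mem h3 (inv_mem hk2)

/-- **The local facts.** -/
theorem loc_of_jtype (hJ : JType z P) : Loc z P := by
  obtain ⟨Φ, hΦ, hker, hc⟩ := exists_full_hom hJ
  exact
    { J := hJ
      cardH := (card_Hz hJ).trans (by norm_num)
      cardH0 := card_H0' hJ hΦ hker hc
      outer_inv := fun h hh h0 p hp => outer_inv' hJ hΦ hker hc hh h0 hp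
      inv_conj := inv_conj' hJ
      exists_root := exists_root' hJ
      gen_three := gen_three' hJ
      elem_le := fun A _ hA0 hsq => elem_le' hJ hΦ hker hc A hA0 hsq
      cent_inner := fun v hv hvE h2 => cent_inner' hJ hΦ hker hc hv hvE h2
      cent_outer := fun v hv hv0 h2 => cent_outer' hJ hΦ hker hc hv hv0 h2 }

end Cfsg.Agent.J4Local
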