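import Mathlib
import Cfsg.Agent.Lib.J4Local.Isolated
import Cfsg.Agent.Lib.J4Local.LocMk
import Cfsg.Agent.Lib.J4Local.AutThree

/-!
The conjugate `u` of `z` in `C`: the centraliser of `u` in the centraliser of `P`.
-/

set_option autoImplicit false
set_option linter.style.haveILetI false
set_option linter.unusedSectionVars false
set_option linter.unusedVariables false

namespace Cfsg.Agent.J4Local

open Subgroup
open scoped commutatorElement

variable {G : Type*} [Group G] [Finite G]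

/-- The centraliser of an involution of M22 has no normal subgroup of order 128. -/
theorem no_normal_sylow [IsSimpleGroup G] (hcard : Nat.card G = 443520) {t : G} (ht : orderOf t = 2)
    (A : Subgroup G) (hA : A ≤ centralizer ({t} : Set G)) (hcardA : Nat.card ↥A = 128)
    (hn : ∀ g ∈ centralizer ({t} : Set G), ∀ a ∈ A, g * a * g⁻¹ ∈ A) : False := by
  set C := centralizer ({t} : Set G) with hC
  have hC384 : Nat.card ↥C = 384 := M22Order.cen_involution hcard ht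
  haveI : Fact (Nat.Prime 3) := ⟨Nat.prime_three⟩
  obtain ⟨⟨r, hrC⟩, hr'⟩ := exists_prime_orderOf_dvd_card' (G := ↥C) 3 (by rw [hC384]; norm_num)
  have hr : orderOf r = 3 := by rw [← hr']; exact Subgroup.orderOf_coe (⟨r, hrC⟩ : ↥C)
  have hrt : Commute r t := mem_centralizer_singleton_iff.1 hrC
  set L' := normalizer (zpowers (⟨r, mem_centralizer_singleton_iff.2 hrt⟩ : ↥C) : Set ↥C)
  have hL : Nat.card ↥L' = 24 := M22Order.card_normalizer_three hcard hr ht hrt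
  set A' := A.subgroupOf C
  have hA' : Nat.card ↥A' = 128 := by rw [Nat.card_congr (subgroupOfEquivOfLe hA).toEquiv, hcardA]
  have hidx : A'.index = 3 := by
    have := A'.card_mul_index
    rw [hA', hC384] at this
    omega
  have hrel : A'.relIndex L' ≤ 3 :=
    (relIndex_le_of_le_right le_top index_ne_zero_of_finite).trans_eq
      (by rw [relIndex_top_right, hidx])
  have hI : 8 ≤ Nat.card ↥(A' ⊓ L' : Subgroup ↥C) := by
    have h1 : Nat.card ↥(A' ⊓ L' : Subgroup ↥C) * A'.relIndex L' = Nat.card ↥L' := by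
      rw [← relIndex_bot_left (A' ⊓ L'), ← relIndex_bot_left L', ← inf_relIndex_right A' L',
        relIndex_mul_relIndex _ _ _ bot_le inf_le_right]
    rw [hL] at h1
    nlinarith
  -- this part centralises `r`
  have hcent : (A' ⊓ L' : Subgroup ↥C) ≤ centralizer ({⟨r, hrC⟩} : Set ↥C) := by
    intro a ha
    obtain ⟨haA, haL⟩ := mem_inf.1 ha
    rw [mem_centralizer_singleton_iff]
    set r' : ↥C := ⟨r, hrC⟩
    have h1 : a * r' * a⁻¹ * r'⁻¹ ∈ zpowers r' :=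
      mul_mem ((mem_normalizer_iff.1 haL r').1 (mem_zpowers r')) (inv_mem (mem_zpowers r'))
    have h2 : a * r' * a⁻¹ * r'⁻¹ ∈ A' := by
      rw [mul_assoc a r', mul_assoc a]
      exact mul_mem haA (mem_subgroupOf.2 (hn r hrC _ (inv_mem (mem_subgroupOf.1 haA))))
    have h3 : a * r' * a⁻¹ * r'⁻¹ = 1 := by
      refine (Subgroup.disjoint_def.1 (disjoint_of_coprime_natCard (H := zpowers r') (K := A') ?_)) h1 h2
      rw [Nat.card_zpowers, hr', hA']; norm_num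
    rw [mul_inv_eq_one, mul_inv_eq_iff_eq_mul] at h3
    exact h3
  have hle : Nat.card ↥(A' ⊓ L' : Subgroup ↥C) ≤
      Nat.card ↥(A ⊓ (centralizer ({r} : Set G) ⊓ C) : Subgroup G) := by
    refine Nat.card_le_card_of_injective (fun a => ⟨((a : ↥C) : G), ?_⟩) fun a b e =>
      Subtype.ext (Subtype.ext (congrArg (fun x : ↥(A ⊓ (centralizer ({r} : Set G) ⊓ C) : Subgroup G) => (x : G)) e))
    exact mem_inf.2 ⟨mem_subgroupOf.1 (mem_inf.1 a.2).1, mem_inf.2 ⟨mem_centralizer_singleton_iff.2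
      (congrArg Subtype.val (mem_centralizer_singleton_iff.1 (hcent a.2))), (a : ↥C).2⟩⟩
  have hd1 : Nat.card ↥(A ⊓ (centralizer ({r} : Set G) ⊓ C) : Subgroup G) ∣ 12 :=
    M22Order.cen_three_inf_involution hcard hr ht hrt ▸ card_dvd_of_le inf_le_right
  have hd2 : Nat.card ↥(A ⊓ (centralizer ({r} : Set G) ⊓ C) : Subgroup G) ∣ 2 ^ 7 :=
    (show (2 : ℕ) ^ 7 = Nat.card ↥A by rw [hcardA]; norm_num) ▸ card_dvd_of_le inf_le_left
  have h9 : Nat.card ↥(A ⊓ (centralizer ({r} : Set G) ⊓ C) : Subgroup G) ≤ 4 :=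
    (Nat.le_of_dvd (by norm_num) (Nat.dvd_gcd hd1 hd2)).trans (by norm_num)
  omega

variable {z : G} {P : Subgroup G}

/-- A conjugate of `z` in `C`, with its own data. -/
structure Win (z : G) (P : Subgroup G) where
  hJ : JType z P
  u : G
  Q : Subgroup G
  huC : u ∈ CC z P
  hne : u ≠ z
  hJu : JType u Q
  Φ : ↥(HH u) →* MulAut ↥Spor.M22
  hΦ : Function.Surjective Φ
  hker : Φ.ker = (Q ⊔ EE u).subgroupOf (HH u)
  hc : Nat.card ↥(Q ⊔ EE u) = 3 * 2 ^ 13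

theorem exists_win_data (h : JType z P) {u : G} (hu : u ∈ CC z P) (hne : u ≠ z) (hc : IsConj z u) :
    Nonempty (Win z P) := by
  obtain ⟨Q, hQ⟩ := h.exists_of_isConj hc
  obtain ⟨Φ, hΦ, hker, hcard⟩ := exists_full_hom hQ
  exact ⟨⟨h, u, Q, hu, hne, hQ, Φ, hΦ, hker, hcard⟩⟩

namespace Win

variable (W : Win z P)

theorem uu : W.u * W.u = 1 := W.hJu.ctr.zz

theorem u_ne_one : W.u ≠ 1 := W.hJu.ctr.ne_one

theorem u_mem_XX : W.u ∈ XX P := (mem_inf.1 W.huC).2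

theorem P_le : P ≤ HH W.u := fun q hq => mem_HH.2 (mem_centralizer_iff.1 W.u_mem_XX q hq)

theorem z_mem : z ∈ HH W.u := mem_HH.2 (mem_HH.1 (mem_inf.1 W.huC).1).symm

theorem u_not_EE : W.u ∉ EE z := not_mem_EE_of_CC W.hJ W.huC W.hne W.u_ne_one

/-- The normal subgroup at `u`. -/
abbrev N : Subgroup G := W.Q ⊔ EE W.u

theorem mem_N_iff {g : G} (hg : g ∈ HH W.u) : g ∈ W.N ↔ W.Φ ⟨g, hg⟩ = 1 := by
  rw [← MonoidHom.mem_ker, W.hker, mem_subgroupOf]

theorem N_le : W.N ≤ HH W.u := sup_le W.hJu.P_le_HH (EE_le_HH W.u)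

theorem N_conj : ∀ g ∈ HH W.u, ∀ n ∈ W.N, g * n * g⁻¹ ∈ W.N := by
  intro g hg n hn
  rw [W.mem_N_iff (mul_mem (mul_mem hg (W.N_le hn)) (inv_mem hg))]
  show W.Φ (⟨g, hg⟩ * ⟨n, W.N_le hn⟩ * ⟨g, hg⟩⁻¹) = 1
  rw [map_mul, map_mul, (W.mem_N_iff (W.N_le hn)).1 hn, mul_one, ← map_mul, mul_inv_cancel, map_one]

theorem N_cube : ∀ w ∈ W.N, w ^ 3 ∈ EE W.u := by
  obtain ⟨N', h1, -, -, h4, h5, h6⟩ := W.hJu.exists_N
  have e : W.N = N' := eq_of_le_of_card_ge (sup_le h5 h1) (by rw [h4, W.hJu.cardE, W.hc])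
  intro w hw
  exact h6 w (e ▸ hw)

theorem P_not_le : ¬ P ≤ W.N :=
  not_P_le_N (loc_of_jtype W.hJ) (loc_of_jtype W.hJu) W.N_conj W.N_cube W.huC W.u_not_EE W.hne

theorem P_inf_N {q : G} (hq : q ∈ P) (hqN : q ∈ W.N) : q = 1 := by
  by_contra h1
  refine W.P_not_le fun x hx => ?_
  have hle : zpowers q ≤ P := zpowers_le.2 hq
  have hd : orderOf q ∣ 3 := W.hJ.cardP ▸ P.orderOf_dvd_natCard hq
  rcases (Nat.dvd_prime Nat.prime_three).1 hd with e | e
  · exact absurd (orderOf_eq_one_iff.1 e) h1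
  · have heq : zpowers q = P := eq_of_le_of_card_ge hle (by rw [Nat.card_zpowers, e, W.hJ.cardP])
    rw [← heq] at hx
    exact zpowers_le.2 hqN hx

theorem mul_self_decomp {a b : G} : ⁅a, b⁆ = (a * a) * ((a⁻¹ * b) * (a⁻¹ * b)) * (b⁻¹ * b⁻¹) := by
  rw [commutatorElement_def]; group

theorem z_inner : z ∈ H0 W.u W.Q := by
  have hJ := W.hJ
  have L := loc_of_jtype hJ
  have Lu := loc_of_jtype W.hJu
  have hu0 := CC_le_H0 z P W.huC
  have hu2 : W.u * W.u ∈ EE z := W.uu.symm ▸ one_mem _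
  obtain ⟨a, ha, b, hb, hab⟩ : ∃ a ∈ CE z W.u, ∃ b ∈ CE z W.u, a * b ≠ b * a := by
    by_contra hno
    push Not at hno
    have hiso : Nat.card ↥(nil z W.u).ker ≤ 2 ^ 6 := card_isotropic hJ (fun v hv w hw => by
      obtain ⟨x, hx, rfl⟩ := vk_surj v
      obtain ⟨y, hy, rfl⟩ := vk_surj w
      rw [BB_vk hJ hx hy, cm_eq_zero]
      refine hno x ⟨hx, mem_centralizer_singleton_iff.2 ?_⟩ y ⟨hy, mem_centralizer_singleton_iff.2 ?_⟩
      · exact (fixed_of_CC hJ W.huC hx ((mem_ker_nil hJ).1 hv)).symm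
      · exact (fixed_of_CC hJ W.huC hy ((mem_ker_nil hJ).1 hw)).symm)
    rw [card_ker_inner L hu0 W.u_not_EE hu2] at hiso
    norm_num at hiso
  have hc : ⁅a, b⁆ = z := (hJ.ctr.comm_cases (mem_inf.1 ha).1 (mem_inf.1 hb).1).resolve_left
    fun e => hab (commutatorElement_eq_one_iff_mul_comm.1 e)
  have hidx : ((H0 W.u W.Q).subgroupOf (HH W.u)).index = 2 := by
    have h1 := ((H0 W.u W.Q).subgroupOf (HH W.u)).card_mul_index
    rw [Nat.card_congr (subgroupOfEquivOfLe (H0_le_HH W.u W.Q)).toEquiv, Lu.cardH, Lu.cardH0] at h1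
    omega
  have hsq : ∀ x ∈ HH W.u, x * x ∈ H0 W.u W.Q := fun x hx =>
    mem_subgroupOf.1 (mul_self_mem_of_index_two hidx (⟨x, hx⟩ : ↥(HH W.u)))
  have key : ⁅a, b⁆ ∈ H0 W.u W.Q := by
    rw [mul_self_decomp]
    exact mul_mem (mul_mem (hsq a (mem_inf.1 ha).2) (hsq _ (mul_mem (inv_mem (mem_inf.1 ha).2) (mem_inf.1 hb).2)))
      (hsq _ (inv_mem (mem_inf.1 hb).2))
  exact (congrArg (· ∈ H0 W.u W.Q) hc).mp key

theorem inner_comm_mod {a n : G} (ha : a ∈ H0 W.u W.Q) (hn : n ∈ W.N) : a * n * a⁻¹ * n⁻¹ ∈ EE W.u := by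
  have hJu := W.hJu
  have hnn : W.Q ≤ normalizer (EE W.u : Set G) := fun q hq => mem_normalizer_iff.2 fun x =>
    ⟨fun hx => conj_mem_EE (hJu.P_le_HH hq) hx, fun hx => by
      simpa [mul_assoc] using conj_mem_EE' (hJu.P_le_HH hq) hx⟩
  have hn' : n ∈ EE W.u ⊔ W.Q := by rwa [sup_comm]
  obtain ⟨e, he, q, hq, rfl⟩ := (Coprime.mem_sup_of_le_normalizer hnn).1 hn'
  obtain ⟨c, hc, e', he', rfl⟩ := exists_dec ha
  have hcH := (mem_inf.1 hc).1
  have hqH := hJu.P_le_HH hq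
  have haH : c * e' ∈ HH W.u := mul_mem hcH (EE_le_HH _ he')
  have h1 : c * e' * q * (c * e')⁻¹ * q⁻¹ = c * (e' * (q * e'⁻¹ * q⁻¹)) * c⁻¹ := by
    have hcq : c * q = q * c := commute_CC_P hc hq
    calc c * e' * q * (c * e')⁻¹ * q⁻¹ = c * (e' * (q * e'⁻¹ * q⁻¹)) * ((q * c⁻¹) * q⁻¹) := by group
      _ = c * (e' * (q * e'⁻¹ * q⁻¹)) * ((c⁻¹ * (c * q) * c⁻¹) * q⁻¹) := by group
      _ = _ := by rw [hcq]; group
  have h2 : c * e' * q * (c * e')⁻¹ * q⁻¹ ∈ EE W.u := by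
    rw [h1]; exact conj_mem_EE hcH (mul_mem he' (conj_mem_EE hqH (inv_mem he')))
  have h3 : c * e' * (e * q) * (c * e')⁻¹ * (e * q)⁻¹ =
      (c * e' * e * (c * e')⁻¹) * (c * e' * q * (c * e')⁻¹ * q⁻¹) * e⁻¹ := by group
  rw [h3]
  exact mul_mem (mul_mem (conj_mem_EE haH he) h2) (inv_mem he)

theorem Phi_inner {g : G} (hg : g ∈ HH W.u) (h0 : g ∈ H0 W.u W.Q) :
    W.Φ ⟨g, hg⟩ ∈ Cfsg.Inn ↥Spor.M22 := (mem_H0_iff W.hJu W.hΦ W.hker W.hc hg).1 h0

theorem exists_p : ∃ p, ∃ hp : p ∈ P, p ≠ 1 ∧ P = zpowers p ∧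
    orderOf (W.Φ ⟨p, W.P_le hp⟩) = 3 ∧ W.Φ ⟨p, W.P_le hp⟩ ∈ Cfsg.Inn ↥Spor.M22 := by
  haveI : Fact (Nat.Prime 3) := ⟨Nat.prime_three⟩
  obtain ⟨p, hp, hp1, hP, hp3⟩ := W.hJ.exists_gen
  have h3 : W.Φ ⟨p, W.P_le hp⟩ ^ 3 = 1 := by
    rw [← map_pow, show (⟨p, W.P_le hp⟩ : ↥(HH W.u)) ^ 3 = 1 from Subtype.ext hp3, map_one]
  refine ⟨p, hp, hp1, hP, orderOf_eq_prime h3
    (fun e => hp1 (W.P_inf_N hp ((W.mem_N_iff _).2 e))), ?_⟩
  have hin := mul_self_mem_of_index_two Cfsg.Agent.Golay.AutM22.index_inn (W.Φ ⟨p, W.P_le hp⟩ ^ 2)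
  rwa [← pow_two, ← pow_mul, show 2 * 2 = 3 + 1 from rfl, pow_succ, h3, one_mul] at hin

theorem mem_EE_of_two {k : ℕ} : ∀ {w : G}, w ∈ W.N → w ^ 2 ^ k ∈ EE W.u → w ∈ EE W.u := by
  induction k with
  | zero => intro w _ h; simpa using h
  | succ k ih =>
    intro w hw h
    refine mem_EE_of_sq W.hJu hw (ih (mul_mem hw hw) ?_)
    rwa [pow_succ', pow_mul, pow_two] at h

/-- The centraliser of `u` in `O(X)` is `P`. -/
theorem cent_OO {o : G} (ho : o ∈ OO P) (hou : o * W.u = W.u * o) : o ∈ P := by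
  have hJ := W.hJ
  have hoX := OO_le P ho
  have hoH : o ∈ HH W.u := mem_HH.2 hou
  obtain ⟨p, hp, hp1, hP, hx3, hxin⟩ := W.exists_p
  set x := W.Φ ⟨p, W.P_le hp⟩ with hxdef
  set w := W.Φ ⟨o, hoH⟩ with hwdef
  have hodd : Odd (orderOf o) := (OO_odd P).of_dvd_nat ((OO P).orderOf_dvd_natCard ho)
  have hwodd : Odd (orderOf w) := hodd.of_dvd_nat (by
    rw [← Subgroup.orderOf_mk o hoH]; exact orderOf_map_dvd W.Φ _)
  have hwx : w ∈ centralizer ({x} : Set (MulAut ↥Spor.M22)) := by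
    rw [mem_centralizer_singleton_iff, hwdef, hxdef, ← map_mul, ← map_mul]
    exact congrArg W.Φ (Subtype.ext (mem_centralizer_iff.1 hoX p hp).symm)
  obtain ⟨-, hw3⟩ := aut_three_odd hxin hx3 hwx hwodd
  have hzo := z_inverts (fun z P h => loc_of_jtype h) hJ ho
  rw [hP] at hzo
  obtain ⟨i, hi⟩ := mem_zpowers_iff.1 hzo
  set t := W.Φ ⟨z, W.z_mem⟩ with htdef
  have e : t * w * t⁻¹ * w = x ^ i := by
    rw [htdef, hwdef, hxdef, ← map_zpow, ← map_inv, ← map_mul, ← map_mul, ← map_mul]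
    exact congrArg W.Φ (Subtype.ext (by push_cast; exact hi.symm))
  have hwxi : Commute w (x ^ i) :=
    (show Commute w x from mem_centralizer_singleton_iff.1 hwx).zpow_right i
  have hinv : w * (t * w * t⁻¹) ∈ zpowers x := by
    have e2 : w * (t * w * t⁻¹) = w * (t * w * t⁻¹ * w) * w⁻¹ := by group
    rw [e2, e, hwxi.eq, mul_inv_cancel_right]
    exact zpow_mem (mem_zpowers x) i
  have ht2 : t * t = 1 := by
    rw [htdef, ← map_mul, show (⟨z, W.z_mem⟩ : ↥(HH W.u)) * ⟨z, W.z_mem⟩ = 1 from Subtype.ext hJ.ctr.zz, map_one]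
  have hwz : w ∈ zpowers x := by
    by_cases ht1 : t = 1
    · rw [ht1, one_mul, inv_one, mul_one] at hinv
      have e3 : w = (w * w) * (w * w) := by
        calc w = w ^ 3 * w := by rw [hw3, one_mul]
          _ = _ := by simp only [pow_succ, pow_zero, one_mul, mul_assoc]
      rw [e3]; exact mul_mem hinv hinv
    · have htord : orderOf t = 2 := orderOf_eq_prime (by rw [pow_two]; exact ht2) ht1
      refine aut_three_invert hxin hx3 hwx hwodd (W.Phi_inner _ W.z_inner) ?_ htord hinv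
      rw [mem_centralizer_singleton_iff]
      show W.Φ ⟨z, W.z_mem⟩ * W.Φ ⟨p, W.P_le hp⟩ = W.Φ ⟨p, W.P_le hp⟩ * W.Φ ⟨z, W.z_mem⟩
      rw [← map_mul, ← map_mul]
      exact congrArg W.Φ (Subtype.ext (mem_HH.1 (hJ.P_le_HH hp)).symm)
  obtain ⟨j, hj⟩ := mem_zpowers_iff.1 hwz
  set n := o * (p ^ j)⁻¹ with hn
  have hnH : n ∈ HH W.u := mul_mem hoH (inv_mem (zpow_mem (W.P_le hp) j))
  have hnN : n ∈ W.N := by
    rw [W.mem_N_iff hnH]
    show W.Φ (⟨o, hoH⟩ * (⟨p, W.P_le hp⟩ ^ j)⁻¹) = 1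
    rw [map_mul, map_inv, map_zpow, ← hxdef, hj, hwdef, mul_inv_cancel]
  have hnO : n ∈ OO P := mul_mem ho (inv_mem (zpow_mem (P_le_OO hJ hp) j))
  have hn3 : n ^ 3 = 1 := by
    have h4 := W.hJu.pow_four (W.N_cube n hnN)
    have h1 : orderOf (n ^ 3) ∣ 2 ^ 2 := orderOf_dvd_of_pow_eq_one h4
    have h2 : Odd (orderOf (n ^ 3)) := (OO_odd P).of_dvd_nat ((OO P).orderOf_dvd_natCard (pow_mem hnO 3))
    have h3 : (orderOf (n ^ 3)).Coprime (2 ^ 2) := (Nat.coprime_two_right.2 h2).pow_right 2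
    exact orderOf_eq_one_iff.1 (h3.eq_one_of_dvd h1)
  have hinvn : z * n * z⁻¹ * n = 1 := by
    refine W.P_inf_N (z_inverts (fun z P h => loc_of_jtype h) hJ hnO) ?_
    exact mul_mem (W.N_conj z W.z_mem n hnN) hnN
  have hmod := W.inner_comm_mod W.z_inner hnN
  rw [mul_eq_one_iff_eq_inv.1 hinvn] at hmod
  have hnE : n ∈ EE W.u := by
    have e4 : n⁻¹ * n⁻¹ = n := by
      calc n⁻¹ * n⁻¹ = n * (n ^ 3)⁻¹ := by group
        _ = n := by rw [hn3, inv_one, mul_one]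
    rwa [e4] at hmod
  have hn1 : n = 1 := by
    have h4 := W.hJu.pow_four hnE
    rwa [pow_succ, hn3, one_mul] at h4
  rw [hn, mul_inv_eq_one] at hn1
  rw [hn1]
  exact zpow_mem hp j

/-- The centraliser of `u` in `X` lies in `C`. -/
theorem cent_XX {x : G} (hx : x ∈ XX P) (hxu : x * W.u = W.u * x) : x ∈ CC z P := by
  have hJ := W.hJ
  obtain ⟨o, ho, c, hc, rfl⟩ := XX_dec (fun z P h => loc_of_jtype h) hJ hx
  have huX := W.u_mem_XX
  have hoX := OO_le P ho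
  have h1 : o⁻¹ * (W.u * o * W.u⁻¹) = c * (W.u * c * W.u⁻¹)⁻¹ := by
    rw [eq_mul_inv_iff_mul_eq]
    calc o⁻¹ * (W.u * o * W.u⁻¹) * (W.u * c * W.u⁻¹) = o⁻¹ * (W.u * (o * c)) * W.u⁻¹ := by group
      _ = _ := by rw [← hxu]; group
  have hP' : o⁻¹ * (W.u * o * W.u⁻¹) ∈ P := by
    refine OO_inf_CC hJ (mul_mem (inv_mem ho) (OO_normal huX ho)) ?_
    rw [h1]
    exact mul_mem hc (inv_mem (mul_mem (mul_mem W.huC hc) (inv_mem W.huC)))
  have hfix : W.u * o * W.u⁻¹ * o⁻¹ ∈ P := by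
    have e : W.u * o * W.u⁻¹ * o⁻¹ = o * (o⁻¹ * (W.u * o * W.u⁻¹)) * o⁻¹ := by group
    rw [e, ← mem_centralizer_iff.1 hoX _ hP', mul_inv_cancel_right]
    exact hP'
  obtain ⟨d, hd, hdu, hd'⟩ := fixed_mod_P hJ huX (orderOf_eq_prime (by rw [pow_two]; exact W.uu) W.u_ne_one) ho hfix
  have hoP : o ∈ P := by
    have := mul_mem (W.cent_OO hd hdu) (inv_mem hd')
    simpa using this
  exact mul_mem (hJ.P_le_CC hoP) hc

/-- The fixed points of `P` in `E_u`. -/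
abbrev Q2 : Subgroup G := EE W.u ⊓ XX P

theorem Q2_le : W.Q2 ≤ CC z P := fun x hx =>
  W.cent_XX (mem_inf.1 hx).2 (W.hJu.ctr.comm (mem_inf.1 hx).1)

theorem P_inner {p : G} (hp : p ∈ P) : p ∈ H0 W.u W.Q := by
  have Lu := loc_of_jtype W.hJu
  have hidx : ((H0 W.u W.Q).subgroupOf (HH W.u)).index = 2 := by
    have h1 := ((H0 W.u W.Q).subgroupOf (HH W.u)).card_mul_index
    rw [Nat.card_congr (subgroupOfEquivOfLe (H0_le_HH W.u W.Q)).toEquiv, Lu.cardH, Lu.cardH0] at h1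
    omega
  have h3 := pow_three_eq_one W.hJ hp
  have := mul_self_mem_of_index_two hidx ((⟨p, W.P_le hp⟩ : ↥(HH W.u)) ^ 2)
  rw [mem_subgroupOf] at this
  push_cast at this
  rwa [← pow_two, ← pow_mul, show 2 * 2 = 3 + 1 from rfl, pow_succ, h3, one_mul] at this

theorem vk_fixed_iff {p : G} (hp : p ∈ P) (hP : P = zpowers p) {w : VV W.u} :
    act W.u p w = w ↔ w ∈ imgV W.u W.Q2 := by
  have hJu := W.hJu
  have hH := W.P_le hp
  constructor
  · intro hw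
    obtain ⟨x, hx, rfl⟩ := vk_surj w
    refine vk_mem_imgV (mem_inf.2 ⟨hx, ?_⟩) hx
    rw [act_vk hH hx] at hw
    have hpx : p * x = x * p := by
      rcases (vk_eq_vk_iff hJu (conj_mem_EE hH hx) hx).1 hw with e | e
      · exact mul_inv_eq_iff_eq_mul.1 e
      · exfalso
        have hpu : p * W.u = W.u * p := mem_HH.1 hH
        have e2 : p * p * x * (p * p)⁻¹ = x := by
          calc p * p * x * (p * p)⁻¹ = p * (p * x * p⁻¹) * p⁻¹ := by group
            _ = p * (x * W.u) * p⁻¹ := by rw [e]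
            _ = p * x * p⁻¹ * (p * W.u * p⁻¹) := by group
            _ = x * (W.u * W.u) := by rw [e, hpu, mul_inv_cancel_right, mul_assoc]
            _ = x := by rw [W.uu, mul_one]
        have h3 := pow_three_eq_one W.hJ hp
        have e4 : p * p = p⁻¹ := eq_inv_of_mul_eq_one_left (by rw [← h3, pow_succ, pow_two])
        have e3 : (p * p)⁻¹ = p := by rw [e4, inv_inv]
        rw [e3, e4] at e2
        have hxp : x * p = p * x := by
          calc x * p = p * (p⁻¹ * x * p) := by group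
            _ = _ := by rw [e2]
        rw [← hxp, mul_inv_cancel_right] at e
        exact W.u_ne_one (left_eq_mul.1 e)
    rw [mem_centralizer_iff]
    intro q hq
    rw [hP] at hq
    obtain ⟨k, rfl⟩ := mem_zpowers_iff.1 hq
    exact ((show Commute p x from hpx).zpow_left k).eq
  · rintro ⟨x, hx, hxE, rfl⟩
    rw [act_vk hH hxE, mem_centralizer_iff.1 (mem_inf.1 hx).2 p hp, mul_inv_cancel_right]

/-- Vectors orthogonal to the fixed space and fixed by `p` vanish. -/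
theorem eq_zero_of_fixed {p : G} (hp : p ∈ P) (hP : P = zpowers p) {v : VV W.u} (hv : act W.u p v = v)
    (hperp : ∀ w ∈ imgV W.u W.Q2, BB W.u v w = 0) : v = 0 := by
  have hJu := W.hJu
  have hH := W.P_le hp
  have h3 := pow_three_eq_one W.hJ hp
  refine BB_nondeg hJu fun y => ?_
  let s : VV W.u := y + act W.u p y + act W.u p (act W.u p y)
  have hppp : act W.u p (act W.u p (act W.u p y)) = y := by
    rw [← act_mul hH hH, ← act_mul (mul_mem hH hH) hH, ← pow_two, ← pow_succ, h3, act_one]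
  have hs : act W.u p s = s := by simp only [s, map_add, hppp]; abel
  have e := hperp s ((W.vk_fixed_iff hp hP).1 hs)
  have e1 : BB W.u v (act W.u p y) = BB W.u v y := by
    conv_lhs => rw [← hv, BB_act hJu hH]
  have e2 : BB W.u v (act W.u p (act W.u p y)) = BB W.u v y := by
    conv_lhs => rw [← hv, BB_act hJu hH, e1]
  simp only [s, BB_add_right hJu, e1, e2] at e
  rwa [CharTwo.add_self_eq_zero, zero_add] at e

theorem z_not_Q2 : z ∉ W.Q2 := by
  intro hz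
  have hJu := W.hJu
  obtain ⟨p, hp, -, hP, -, -⟩ := W.exists_p
  have hzE := (mem_inf.1 hz).1
  have h0 : vk W.u z = 0 := by
    refine W.eq_zero_of_fixed hp hP ((W.vk_fixed_iff hp hP).2 (vk_mem_imgV hz hzE)) ?_
    rintro _ ⟨x, hx, hxE, rfl⟩
    rw [BB_vk hJu hzE hxE, cm_eq_zero]
    exact (mem_HH.1 (mem_inf.1 (W.Q2_le hx)).1).symm
  rcases hJu.mem_zpowers ((vk_eq_zero_iff hJu hzE).1 h0) with e | e
  · exact W.hJ.ctr.ne_one e
  · exact W.hne e.symm

end Win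

end Cfsg.Agent.J4Local
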