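import Mathlib
import Cfsg.Agent.Lib.J4Local.Residue

/-!
Some residue is not empty.
-/

set_option autoImplicit false
set_option linter.style.haveILetI false
set_option linter.unusedSectionVars false
set_option linter.unusedVariables false

namespace Cfsg.Agent.J4Local

open Subgroup

variable {G : Type*} [Group G] [Finite G] {z₀ z : G} {P : Subgroup G}

theorem exists_not_mem_line (hz : Good z₀ z P) {p : G} (hp : p ∈ P) (hp1 : p ≠ 1) {w : VV z}
    (hw : w ∈ KV z₀ z) : ∃ x ∈ KV z₀ z, x ∉ line z p w := by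
  by_contra hno
  push Not at hno
  have hJ := hz.J
  have hall : ∀ c ∈ CC z P, ∀ x ∈ line z p w, act z c x ∈ line z p w := by
    intro c hc x hx
    have h1 : act z c w ∈ line z p w := hno _ (KV_act hz hc.1 hw)
    rcases (mem_line hJ).1 hx with rfl | rfl | rfl | rfl
    · rw [map_zero]; exact zero_mem _
    · exact h1
    · rw [act_inner hJ (CC_le_H0 z P hc) hp]; exact act_mem_line hJ hp hp1 h1
    · rw [map_add, act_inner hJ (CC_le_H0 z P hc) hp]
      exact add_mem h1 (act_mem_line hJ hp hp1 h1)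
  have hcm : ∀ a ∈ CC z P, ∀ b ∈ CC z P, act z a (act z b w) = act z b (act z a w) := by
    intro a ha b hb
    rcases (mem_line hJ).1 (hall a ha w (self_mem_line _ _ _)) with e | e | e | e <;>
      rcases (mem_line hJ).1 (hall b hb w (self_mem_line _ _ _)) with e' | e' | e' | e' <;>
      simp only [e, e', map_zero, map_add, act_inner hJ (CC_le_H0 z P ha) hp,
        act_inner hJ (CC_le_H0 z P hb) hp] <;> abel
  let A : Subgroup G :=
    { carrier := {g | g ∈ HH z ∧ act z g w = w}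
      one_mem' := ⟨one_mem _, act_one w⟩
      mul_mem' := fun {a b} ha hb => ⟨mul_mem ha.1 hb.1, by rw [act_mul ha.1 hb.1, hb.2, ha.2]⟩
      inv_mem' := fun {a} ha => ⟨inv_mem ha.1, by
        apply act_injective ha.1
        rw [act_act_inv ha.1, ha.2]⟩ }
  have hle : ⁅CC z P, CC z P⁆ ≤ A := by
    rw [commutator_le]
    intro a ha b hb
    have haH := ha.1
    have hbH := hb.1
    refine ⟨mul_mem (mul_mem (mul_mem haH hbH) (inv_mem haH)) (inv_mem hbH), ?_⟩
    rw [commutatorElement_def, act_mul (mul_mem (mul_mem haH hbH) (inv_mem haH)) (inv_mem hbH),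
      act_mul (mul_mem haH hbH) (inv_mem haH), act_mul haH hbH, hcm a⁻¹ (inv_mem ha) b⁻¹ (inv_mem hb),
      act_act_inv hbH, act_act_inv haH]
  exact KV_ne hz hw (act_fpf hJ hp hp1 (hle (hJ.P_le_derived hp)).2)

namespace Pt

variable (D : Pt z₀ z P)

theorem fix_b {d : G} (hd : d ∈ EE D.b) (hd0 : d ∈ H0 z P) :
    act z d (vk z D.b) = vk z D.b ∧ act z d (act z D.p (vk z D.b)) = act z D.p (vk z D.b) := by
  have h1 : act z d (vk z D.b) = vk z D.b := by
    rw [act_vk (H0_le_HH z P hd0) D.hb.mem, D.hgb.J.ctr.comm hd, mul_inv_cancel_right]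
  exact ⟨h1, by rw [act_inner D.hz.J hd0 D.hp, h1]⟩

theorem sq_mem {d : G} (hd : d ∈ EE D.b) : d * d ∈ EE z := by
  rcases D.hgb.J.ctr.sq_cases hd with e | e <;> rw [e]
  exacts [one_mem _, D.hb.mem]

theorem adj {d : G} (hd : d ∈ EE D.b) (hd0 : d ∈ H0 z P) (x y : VV z) :
    BB z (nil z d x) y = BB z x (nil z d y) := by
  have hJ := D.hz.J
  have hH := H0_le_HH z P hd0
  rw [nil_apply, nil_apply, BB_add_left hJ, BB_add_right hJ, BB_act_inv hJ hH,
    eq_inv_of_sq hJ hH (D.sq_mem hd)]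

theorem nil_mem_perp {d : G} (hd : d ∈ EE D.b) (hd0 : d ∈ H0 z P) (x : VV z) :
    nil z d x ∈ perp D.hz.J D.T := by
  rw [T, mem_perp_line]
  obtain ⟨h1, h2⟩ := D.fix_b hd hd0
  constructor <;> rw [D.adj hd hd0, nil_apply]
  · rw [h1, VV.two D.hz.J, BB_zero_right D.hz.J]
  · rw [h2, VV.two D.hz.J, BB_zero_right D.hz.J]

theorem nil_PI_cases {d : G} (hd : d ∈ EE D.b) (hd0 : d ∈ H0 z P) {y : VV z} (hy : y ∈ D.I) :
    nil z d y = 0 ∨ nil z d y = vk z D.b := by
  rcases act_PI D.hz D.hgb D.hb hd (H0_le_HH z P hd0) hy with e | e <;> rw [nil_apply, e]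
  · exact Or.inl (VV.two D.hz.J _)
  · right; rw [add_right_comm, VV.two D.hz.J, zero_add]

theorem singular_nil {d : G} (hd : d ∈ EE D.b) (hd0 : d ∈ H0 z P) (c : VV z) :
    QQ z (nil z d c) = 0 := by
  have hJ := D.hz.J
  have hH := hJ.P_le_HH D.hp
  set m := nil z d c
  set bv := vk z D.b
  have key : ∀ x, x ∈ perp hJ D.I → QQ z x = 0 := fun x hx => by
    rw [I, perp_PI D.hz D.hgb D.hb] at hx
    exact PI_singular D.hz D.hgb D.hb hx
  have hy : ∀ y ∈ D.I, (BB z m y = 0 ∧ BB z m (act z D.p y) = 0) ∨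
      (BB z m y = BB z c bv ∧ BB z m (act z D.p y) = BB z c (act z D.p bv)) := by
    intro y hy
    rcases D.nil_PI_cases hd hd0 hy with e | e
    · left; constructor <;> rw [D.adj hd hd0]
      · rw [e, BB_zero_right hJ]
      · rw [nil_comm hJ hd0 D.hp, e, map_zero, BB_zero_right hJ]
    · right; constructor <;> rw [D.adj hd hd0]
      · rw [e]
      · rw [nil_comm hJ hd0 D.hp, e]
  have h2 : ∀ r : ZMod 2, r = 0 ∨ r = 1 := by decide
  rcases h2 (BB z c bv) with h0 | h0
  · refine key m fun y hyI => ?_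
    rcases hy y hyI with e | e
    exacts [e.1, e.1.trans h0]
  rcases h2 (BB z c (act z D.p bv)) with h1 | h1
  · have e := key (act z D.p⁻¹ m) fun y hyI => by
      rw [BB_act_inv hJ (inv_mem hH), inv_inv]
      rcases hy y hyI with e | e
      exacts [e.2, e.2.trans h1]
    rwa [QQ_act hJ (inv_mem hH)] at e
  · have e := key (act z D.p m) fun y hyI => by
      rw [← BB_act hJ hH, act_act hJ D.hp D.hp1, BB_add_left hJ]
      rcases hy y hyI with e | e
      · rw [e.2]
        have : BB z (act z D.p m) (act z D.p y) = BB z m y := BB_act hJ hH _ _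
        rw [this, e.1, add_zero]
      · rw [e.2, h1]
        have : BB z (act z D.p m) (act z D.p y) = BB z m y := BB_act hJ hH _ _
        rw [this, e.1, h0]
        decide
    rwa [QQ_act hJ hH] at e

theorem mem_II_of_nil_eq_zero {d : G} (hd : d ∈ EE D.b) (hd0 : d ∈ H0 z P) {c : VV z}
    (hc : c ∉ perp D.hz.J D.T) (h : nil z d c = 0) : d ∈ II z D.b := by
  have hJ := D.hz.J
  refine ⟨?_, hd⟩
  by_contra hdE
  have hI : ∀ y ∈ D.I, nil z d y = 0 := by
    intro y hy
    refine (D.nil_PI_cases hd hd0 hy).resolve_right fun e => hc ?_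
    rw [T, mem_perp_line]
    constructor
    · rw [← e, ← D.adj hd hd0, h, BB_zero_left hJ]
    · rw [← e, ← nil_comm hJ hd0 D.hp, ← D.adj hd hd0, h, BB_zero_left hJ]
  have hle : perp hJ D.T ≤ (nil z d).ker := fun x hx => by
    obtain ⟨u, hu, v, hv, rfl⟩ := (mem_perp_line_iff D.hz D.hgb D.hb D.hp D.hp1).1 hx
    rw [AddMonoidHom.mem_ker, map_add, hI u hu, nil_comm hJ hd0 D.hp, hI v hv, map_zero, add_zero]
  have h1 := AddSubgroup.card_le_of_le hle
  rw [card_perp_line hJ D.hp D.hp1 (D.hb.vk_ne D.hz), card_ker_inner D.hz.L hd0 hdE (D.sq_mem hd)] at h1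
  norm_num at h1

include D in
theorem nil_mul {d e : G} (hd : d ∈ H0 z P) (he : e ∈ H0 z P) (x : VV z) :
    nil z (d * e) x = nil z d x + nil z e x + nil z d (nil z e x) := by
  have hJ := D.hz.J
  simp only [nil_apply, map_add, act_mul (H0_le_HH z P hd) (H0_le_HH z P he)]
  calc act z d (act z e x) + x = act z d (act z e x) + x + (act z d x + act z d x) + (act z e x + act z e x)
        + (x + x) := by rw [VV.two hJ, VV.two hJ, VV.two hJ]; abel
    _ = _ := by abel

/-- An element of `E_b` moves a point off the orthogonal of the line to a fully orthogonal one. -/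
theorem exists_orth {c : VV z} (hc : c ∉ perp D.hz.J D.T) (hq : QQ z c = 0) :
    ∃ d ∈ H0 z P, nil z d c ≠ 0 ∧ nil z d c ∈ perp D.hz.J D.T ∧
      BB z (act z d c) c = 0 ∧ BB z c (act z D.p (act z d c)) = 0 := by
  classical
  have hJ := D.hz.J
  have hzb := D.hz.z_mem D.hb.mem D.hb.conj
  set S := EE D.b ⊓ H0 z P with hS
  have hScard : 2 ^ 11 ≤ Nat.card ↥S := by
    have hz' : z ∉ zpowers D.b := D.hgb.not_mem_zpowers (fun e => D.hb.ne e.symm) D.hz.isConj
    have hcard := card_CE D.hgb.J hzb hz'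
    have h5 : Nat.card ↥(CE D.b z ⊓ H0 z P : Subgroup G) * (H0 z P).relIndex (CE D.b z) = Nat.card ↥(CE D.b z) := by
      rw [← relIndex_bot_left (CE D.b z ⊓ H0 z P), ← relIndex_bot_left (CE D.b z),
        ← inf_relIndex_left (CE D.b z) (H0 z P), relIndex_mul_relIndex _ _ _ bot_le inf_le_left]
    have h6 : (H0 z P).relIndex (CE D.b z) ≤ 2 := by
      refine (relIndex_le_of_le_right (inf_le_right : CE D.b z ≤ HH z) index_ne_zero_of_finite).trans ?_
      have h4 : Nat.card ↥(H0 z P) * (H0 z P).relIndex (HH z) = Nat.card ↥(HH z) := by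
        rw [← relIndex_bot_left (H0 z P), ← relIndex_bot_left (HH z),
          relIndex_mul_relIndex _ _ _ bot_le (H0_le_HH z P)]
      rw [D.hz.L.cardH, D.hz.L.cardH0] at h4
      exact (Nat.eq_of_mul_eq_mul_left (by norm_num) (h4.trans
        (show 2 ^ 13 * 2661120 = 2 ^ 13 * 1330560 * 2 by norm_num))).le
    have h7 : Nat.card ↥(CE D.b z ⊓ H0 z P : Subgroup G) ≤ Nat.card ↥S :=
      Subgroup.card_le_of_le fun x hx => mem_inf.2 ⟨(mem_inf.1 (mem_inf.1 hx).1).1, (mem_inf.1 hx).2⟩
    rw [hcard] at h5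
    nlinarith
  set II' := II z D.b
  have hII : Nat.card ↥II' = 2 ^ 7 := (pair_structure D.hz D.hgb D.hb.mem D.hb.ne).1
  -- an element outside the intersection
  obtain ⟨d, hdS, hdI⟩ : ∃ d ∈ S, d ∉ II' := by
    by_contra hno
    push Not at hno
    have := Subgroup.card_le_of_le (K := II') hno
    omega
  obtain ⟨hd, hd0⟩ := mem_inf.1 hdS
  have hvan : ∀ {x t : VV z}, x ∈ perp hJ D.T → t ∈ D.T → BB z x (act z D.p t) = 0 := fun hx ht =>
    hx _ (act_mem_line hJ D.hp D.hp1 ht)
  -- the pairing with the value at `d`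
  let χ : ↥S →* Multiplicative (ZMod 2) :=
    { toFun := fun e => Multiplicative.ofAdd (BB z (nil z d c) (act z D.p (nil z e c)))
      map_one' := by
        rw [show nil z ((1 : ↥S) : G) c = 0 by rw [OneMemClass.coe_one, nil_apply, act_one, VV.two hJ],
          map_zero, BB_zero_right hJ]
        rfl
      map_mul' := fun e f => by
        obtain ⟨he, he0⟩ := mem_inf.1 e.2
        obtain ⟨hf, hf0⟩ := mem_inf.1 f.2
        rw [← ofAdd_add, Subgroup.coe_mul, D.nil_mul he0 hf0, map_add, map_add, BB_add_right hJ, BB_add_right hJ,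
          hvan (D.nil_mem_perp hd hd0 c)
            (nil_perp_line D.hz D.hgb D.hb D.hp D.hp1 he he0 (D.nil_mem_perp hf hf0 c)), add_zero] }
  obtain ⟨e, heS, heI, hdeI, hpair⟩ : ∃ e ∈ S, e ∉ II' ∧ d * e ∉ II' ∧
      BB z (nil z d c) (act z D.p (nil z e c)) = 0 := by
    by_contra hno
    push Not at hno
    let g : ↥χ.ker → ↥II' × Bool := fun k =>
      if h : ((k : ↥S) : G) ∈ II' then (⟨_, h⟩, true)
      else (⟨d * ((k : ↥S) : G), by
        by_contra h2
        exact hno _ (k : ↥S).2 h h2 (Multiplicative.ofAdd.injective (MonoidHom.mem_ker.1 k.2))⟩, false)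
    have hg : Function.Injective g := by
      intro a b e
      simp only [g] at e
      split_ifs at e with ha hb hb <;> simp only [Prod.mk.injEq, Subtype.mk.injEq] at e
      · exact Subtype.ext (Subtype.ext e.1)
      · exact absurd e.2 (by decide)
      · exact absurd e.2 (by decide)
      · exact Subtype.ext (Subtype.ext (mul_left_cancel e.1))
    have h1 := Nat.card_le_card_of_injective g hg
    rw [Nat.card_prod, hII, Nat.card_eq_fintype_card (α := Bool), Fintype.card_bool] at h1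
    have h2 := χ.ker.card_mul_index
    rw [index_ker] at h2
    have h3 : Nat.card ↥χ.range ≤ 2 := (Nat.card_le_card_of_injective _ Subtype.val_injective).trans_eq
      (by rw [Nat.card_congr Multiplicative.toAdd, Nat.card_zmod])
    nlinarith
  obtain ⟨he, he0⟩ := mem_inf.1 heS
  have hde0 : d * e ∈ H0 z P := mul_mem hd0 he0
  have hdeb : d * e ∈ EE D.b := mul_mem hd he
  -- the quadratic function
  let F : G → ZMod 2 := fun k => BB z c (act z D.p (nil z k c))
  have hadd : F (d * e) = F d + F e := by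
    simp only [F]
    have e3 : BB z c (act z D.p (nil z d (nil z e c))) = 0 := by
      rw [← nil_comm hJ hd0 D.hp, ← D.adj hd hd0 c, hpair]
    rw [D.nil_mul hd0 he0, map_add, map_add, BB_add_right hJ, BB_add_right hJ, e3, add_zero]
  have hgood : ∀ k ∈ EE D.b, k ∈ H0 z P → k ∉ II' → F k = 0 →
      ∃ d ∈ H0 z P, nil z d c ≠ 0 ∧ nil z d c ∈ perp hJ D.T ∧
        BB z (act z d c) c = 0 ∧ BB z c (act z D.p (act z d c)) = 0 := by
    intro k hk hk0 hkI hF
    refine ⟨k, hk0, fun e => hkI (D.mem_II_of_nil_eq_zero hk hk0 hc e), D.nil_mem_perp hk hk0 c, ?_, ?_⟩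
    · have h1 := D.singular_nil hk hk0 c
      rw [nil_apply, QQ_add hJ, QQ_act hJ (H0_le_HH z P hk0), hq, zero_add, zero_add] at h1
      exact h1
    · have h1 : act z k c = nil z k c + c := by rw [nil_apply, add_assoc, VV.two hJ, add_zero]
      rw [h1, map_add, BB_add_right hJ, BB_act_self hJ D.hp D.hp1, hq, add_zero]
      exact hF
  have h2 : ∀ r : ZMod 2, r = 0 ∨ r = 1 := by decide
  rcases h2 (F d) with h | h
  · exact hgood d hd hd0 hdI h
  rcases h2 (F e) with h' | h'
  · exact hgood e he he0 heI h'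
  exact hgood _ hdeb hde0 hdeI (by rw [hadd, h, h']; decide)

end Pt

theorem exists_RR (hX : Ctx z₀) (hz : Good z₀ z P) (hex : ∃ v ∈ HH z, v ≠ z ∧ IsConj z₀ v) :
    ∃ D : Pt z₀ z P, D.RR.Nonempty := by
  have hJ := hz.J
  obtain ⟨b, hb1, hb2, hb3⟩ := exists_mem_EE hX hz hex
  obtain ⟨p, hp, hp1, -, -⟩ := hJ.exists_gen
  obtain ⟨Q, hgb⟩ := hX b hb3
  let D : Pt z₀ z P := ⟨hz, b, Q, p, hgb, ⟨hb1, hb3, hb2⟩, hp, hp1⟩
  obtain ⟨x, hxK, hxT⟩ := exists_not_mem_line hz hp hp1 (w := vk z b) ⟨b, D.hb, rfl⟩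
  by_cases hx : x ∈ perp hJ D.T
  · exact ⟨D, x, hxK, hx, hxT⟩
  obtain ⟨d, hd0, hne, hperp, h1, h2⟩ := D.exists_orth hx (KV_sq hz hxK)
  obtain ⟨a, ha, rfl⟩ := hxK
  obtain ⟨Q', hga⟩ := hX a ha.conj
  refine ⟨⟨hz, a, Q', p, hga, ha, hp, hp1⟩, act z d (vk z a), KV_act hz (H0_le_HH z P hd0) ⟨a, ha, rfl⟩, ?_, ?_⟩
  · show act z d (vk z a) ∈ perp hJ (line z p (vk z a))
    rw [mem_perp_line]
    refine ⟨h1, ?_⟩
    rw [BB_act_comm hJ hp hp1 h1]
    exact h2
  · show act z d (vk z a) ∉ line z p (vk z a)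
    intro hmem
    apply hx
    have hn : act z d (vk z a) + vk z a ∈ perp hJ D.T := hperp
    have hback : ∀ {v : VV z}, act z p v ∈ perp hJ D.T → v ∈ perp hJ D.T := fun {v} hv => by
      have e : v = act z p (act z p (act z p v)) := by
        rw [act_act hJ hp hp1, act_act hJ hp hp1, add_left_comm, VV.two hJ, add_zero]
      rw [e]
      exact D.act_mem_perp (D.act_mem_perp hv)
    rcases (mem_line hJ).1 hmem with e | e | e | e
    · rw [e, zero_add] at hn; exact hn
    · exact absurd (by rw [nil_apply, e, VV.two hJ]) hne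
    · rw [e, add_comm, ← act_act hJ hp hp1] at hn
      exact hback (hback hn)
    · rw [e, add_right_comm, VV.two hJ, zero_add] at hn
      exact hback hn

end Cfsg.Agent.J4Local
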