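import Mathlib

/-!
Pairs spanning totally isotropic planes in a four-dimensional symplectic space over the field with two
elements: a closed system has at most 30 of them, and none if a large isometry group preserves it.
-/

set_option autoImplicit false
set_option maxRecDepth 20000

namespace Cfsg.Agent.J4Local

/-- A set of pairs spanning totally isotropic planes, closed under rotation and under sums of orthogonal
members. -/
structure QuadSys (V : Type*) [AddCommGroup V] (β : V →+ V →+ ZMod 2) (S : Set (V × V)) : Prop where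
  card : Nat.card V = 16
  two : ∀ v : V, v + v = 0
  alt : ∀ v, β v v = 0
  nondeg : ∀ v, (∀ w, β v w = 0) → v = 0
  mem : ∀ c ∈ S, c.1 ≠ 0 ∧ c.2 ≠ 0 ∧ c.1 ≠ c.2 ∧ β c.1 c.2 = 0
  rot : ∀ c ∈ S, (c.2, c.1 + c.2) ∈ S
  sum : ∀ c ∈ S, ∀ d ∈ S, c ≠ d → β c.1 d.2 + β d.1 c.2 = 0 →
    β c.1 (d.1 + d.2) + β d.2 c.2 = 0 → c + d ∈ S

namespace Quad

/-- A binary digit. -/
def bit (i a : ℕ) : ℕ := a >>> i % 2

/-- The symplectic form on codes. -/
def form (a b : ℕ) : ℕ := (bit 0 a * bit 1 b + bit 1 a * bit 0 b + bit 2 a * bit 3 b + bit 3 a * bit 2 b) % 2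

/-- The rotation of a pair code `x + 16 * y`. -/
def rotC (c : ℕ) : ℕ := c / 16 + 16 * Nat.xor (c % 16) (c / 16)

/-- The three members of the orbit of a pair code. -/
def orb (c : ℕ) : List ℕ := [c, rotC c, rotC (rotC c)]

/-- Two pair codes whose sum is forced. -/
def ortho (c d : ℕ) : Bool :=
  c != d && (form (c % 16) (d / 16) + form (d % 16) (c / 16)) % 2 == 0 &&
    (form (c % 16) (Nat.xor (d % 16) (d / 16)) + form (d / 16) (c / 16)) % 2 == 0

/-- The admissible pair codes. -/
def adm (c : ℕ) : Bool :=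
  decide (c < 256) && c % 16 != 0 && c / 16 != 0 && c % 16 != c / 16 && form (c % 16) (c / 16) == 0

/-- Representatives of the six rows. -/
def reps : List (List ℕ) := [[130, 193, 67, 105, 235], [138, 69, 207, 109, 231], [66, 129, 195, 229, 167], [194, 65, 131, 173, 111], [70, 205, 139, 233, 175], [206, 137, 71, 165, 107]]

/-- The six rows, of five orbits each. -/
def row (i : ℕ) : List ℕ := (reps.getD i []).flatMap orb

/-- An enumeration of the admissible pair codes along a tree of images under two isometries. -/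
def nodes : List ℕ := [65, 162, 226, 181, 21, 245, 152, 60, 40, 44, 56, 220, 206, 100, 116, 122, 94, 84, 90, 126, 138, 175, 250, 190, 218, 158, 219, 145, 129, 207, 139, 193, 209, 159, 235, 179, 29, 59, 63, 107, 111, 105, 131, 194, 98, 66, 67, 173, 233, 130, 195, 109, 25, 243, 151, 55, 38, 121, 115, 125, 249, 189, 252, 182, 231, 71, 69, 165, 229, 167, 24, 28, 246, 184, 215, 205, 95, 91, 150, 214, 52, 168, 236, 46, 36, 42, 137, 70, 20, 81]

/-- The tree: the parent and the isometry. -/
def parents : List ℕ := [0, 1, 2, 3, 5, 6, 7, 8, 9, 10, 11, 12, 13, 14, 15, 16, 17, 19, 20, 23, 25, 26, 27, 28, 29, 30, 31, 32, 33, 36, 37, 38, 39, 40, 42, 43, 44, 47, 48, 51, 52, 53, 54, 55, 57, 58, 59, 60, 65, 66, 67, 68, 69, 70, 71, 72, 74, 75, 77, 78, 81, 82, 83, 84, 85, 86, 87, 91, 92, 95, 96, 97, 103, 107, 108, 112, 113, 115, 118, 124, 132, 133, 140, 141, 143, 149, 150, 163, 166]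

/-- Two isometries of order five. -/
def isoC (i : ℕ) : List ℕ := if i == 0 then [0, 2, 5, 7, 10, 8, 15, 13, 14, 12, 11, 9, 4, 6, 1, 3] else [0, 2, 5, 7, 14, 12, 11, 9, 4, 6, 1, 3, 10, 8, 15, 13]

/-- The image of a pair code under one of the two isometries. -/
def move (i c : ℕ) : ℕ := (isoC i).getD (c % 16) 0 + 16 * (isoC i).getD (c / 16) 0

theorem row_cover : ((List.range 256).all fun c => !adm c || (List.range 6).any fun i => (row i).contains c) = true := by
  decide +kernel

theorem row_spec : ((List.range 6).all fun i => (row i).length == 15 && (row i).all fun c =>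
    decide (c < 256) && orb c ⊆ row i && (row i).all fun d => (orb c).contains d ||
      (row i).all fun e => (orb c).contains e || (orb d).contains e ||
        (orb c).any fun c' => (orb d).any fun d' => ortho c' d' && Nat.xor c' d' == e) = true := by
  decide +kernel

theorem row_clash : ((List.range 6).all fun i => (List.range 6).all fun j => i == j ||
    (row i).any fun c => (row j).any fun d => ortho c d && !adm (Nat.xor c d)) = true := by
  decide +kernel

theorem tree_spec : nodes.length = 90 ∧ ((List.range 89).all fun i =>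
    decide (parents.getD i 0 / 2 ≤ i) &&
      nodes.getD (i + 1) 0 == move (parents.getD i 0 % 2) (nodes.getD (parents.getD i 0 / 2) 0)) = true ∧
    ((List.range 256).all fun c => !adm c || nodes.contains c) = true := by
  decide +kernel

theorem iso_spec : ([0, 1].all fun i => (List.range 16).all fun a =>
    decide ((isoC i).getD a 0 < 16) &&
      (isoC i).getD ((isoC i).getD ((isoC i).getD ((isoC i).getD ((isoC i).getD a 0) 0) 0) 0) 0 == a &&
      (List.range 16).all fun b =>
        (isoC i).getD (Nat.xor a b) 0 == Nat.xor ((isoC i).getD a 0) ((isoC i).getD b 0) &&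
          form ((isoC i).getD a 0) ((isoC i).getD b 0) == form a b) = true := by
  decide +kernel

/-- The symplectic frames. -/
def frames : List (ℕ × ℕ × ℕ × ℕ) :=
  (List.range 16).flatMap fun a => ((List.range 16).filter fun b => form a b == 1).flatMap fun b =>
    ((List.range 16).filter fun c => form a c == 0 && form b c == 0).flatMap fun c =>
      ((List.range 16).filter fun d => form c d == 1 && form a d == 0 && form b d == 0).map fun d =>
        (a, b, c, d)

theorem frames_length : frames.length = 720 := by decide +kernel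

theorem clash_free : ∃ c d, adm c = true ∧ adm d = true ∧ ortho c d = true ∧ adm (Nat.xor c d) = false := by
  refine ⟨65, 81, ?_⟩
  decide +kernel

theorem code_xor : ∀ a < 16, ∀ b < 16, Nat.xor a b < 16 ∧ ∀ i < 4,
    bit i (Nat.xor a b) = (bit i a + bit i b) % 2 := by
  decide +kernel

theorem pair_xor : ((List.range 256).all fun c => (List.range 256).all fun d =>
    Nat.xor c d % 16 == Nat.xor (c % 16) (d % 16) && Nat.xor c d / 16 == Nat.xor (c / 16) (d / 16) &&
      decide (Nat.xor c d < 256)) = true := by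
  decide +kernel

end Quad

namespace Quad

variable {V : Type*} [AddCommGroup V] {β : V →+ V →+ ZMod 2} {S : Set (V × V)}

theorem bit_cases (i a : ℕ) : bit i a = 0 ∨ bit i a = 1 := Nat.mod_two_eq_zero_or_one _

theorem cast_mod_two (n : ℕ) : ((n % 2 : ℕ) : ZMod 2) = n := ZMod.natCast_mod n 2

/-- A symplectic basis. -/
structure Frame (β : V →+ V →+ ZMod 2) (e₁ f₁ e₂ f₂ : V) : Prop where
  ef₁ : β e₁ f₁ = 1
  ef₂ : β e₂ f₂ = 1
  ee : β e₁ e₂ = 0
  fe : β f₁ e₂ = 0
  ef : β e₁ f₂ = 0
  ff : β f₁ f₂ = 0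

/-- The vector with a given code. -/
def vec (e₁ f₁ e₂ f₂ : V) (a : ℕ) : V := bit 0 a • e₁ + bit 1 a • f₁ + bit 2 a • e₂ + bit 3 a • f₂

theorem beta_comm (h : QuadSys V β S) (x y : V) : β x y = β y x := by
  have e := h.alt (x + y)
  simp only [map_add, AddMonoidHom.add_apply, h.alt, zero_add, add_zero] at e
  revert e
  generalize β x y = a
  generalize β y x = b
  revert a b
  decide

theorem two_val : ∀ a : ZMod 2, a ≠ 0 → a = 1 := by decide

theorem smul_mod (h : QuadSys V β S) (n : ℕ) (v : V) : (n % 2) • v = n • v := by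
  conv_rhs => rw [← Nat.mod_add_div n 2, add_nsmul, mul_comm, mul_nsmul', two_nsmul, h.two, nsmul_zero, add_zero]

theorem exists_frame (h : QuadSys V β S) : ∃ e₁ f₁ e₂ f₂, Frame β e₁ f₁ e₂ f₂ := by
  haveI : Finite V := Nat.finite_of_card_ne_zero (by rw [h.card]; norm_num)
  haveI := Fintype.ofFinite V
  classical
  obtain ⟨e₁, he⟩ : ∃ v : V, v ≠ 0 := by
    by_contra hh
    push Not at hh
    haveI : Subsingleton V := ⟨fun a b => (hh a).trans (hh b).symm⟩
    have := h.card
    rw [Nat.card_unique] at this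
    omega
  obtain ⟨f₁, hf⟩ : ∃ w, β e₁ w = 1 := by
    by_contra hh
    push Not at hh
    exact he (h.nondeg e₁ fun w => by_contra fun hw => hh w (two_val _ hw))
  -- the projection to the orthogonal complement
  let π : V → V := fun x => x + (β f₁ x).val • e₁ + (β e₁ x).val • f₁
  have hp1 : ∀ x, β e₁ (π x) = 0 := fun x => by
    simp only [π, map_add, map_nsmul, h.alt, hf, nsmul_eq_mul, mul_zero, add_zero, mul_one,
      ZMod.natCast_zmod_val, CharTwo.add_self_eq_zero]
  have hfe : β f₁ e₁ = 1 := by rw [beta_comm h, hf]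
  have hp2 : ∀ x, β f₁ (π x) = 0 := fun x => by
    simp only [π, map_add, map_nsmul, h.alt, hfe, nsmul_eq_mul, mul_zero, add_zero, mul_one,
      ZMod.natCast_zmod_val, CharTwo.add_self_eq_zero]
  obtain ⟨e₂, he2, h1, h2⟩ : ∃ v : V, v ≠ 0 ∧ β e₁ v = 0 ∧ β f₁ v = 0 := by
    by_contra hh
    push Not at hh
    have hz : ∀ x, π x = 0 := fun x => by_contra fun hx => hh _ hx (hp1 x) (hp2 x)
    let F : ZMod 2 × ZMod 2 → V := fun p => p.1.val • e₁ + p.2.val • f₁
    have hF : Function.Surjective F := fun x => ⟨(β f₁ x, β e₁ x), by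
      have e := hz x
      simp only [π, add_assoc] at e
      rw [add_eq_zero_iff_eq_neg] at e
      refine Eq.symm (e.trans ?_)
      exact neg_eq_iff_add_eq_zero.2 (h.two _)⟩
    have := Nat.card_le_card_of_surjective F hF
    rw [h.card] at this
    simp at this
  obtain ⟨w, hw⟩ : ∃ w, β e₂ w = 1 := by
    by_contra hh
    push Not at hh
    exact he2 (h.nondeg e₂ fun w => by_contra fun hw => hh w (two_val _ hw))
  refine ⟨e₁, f₁, e₂, π w, hf, ?_, h1, h2, hp1 w, hp2 w⟩
  simp only [π, map_add, map_nsmul, beta_comm h e₂ e₁, beta_comm h e₂ f₁, h1, h2, hw, nsmul_zero, add_zero]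

variable {e₁ f₁ e₂ f₂ : V}

theorem vec_xor (h : QuadSys V β S) {a b : ℕ} (ha : a < 16) (hb : b < 16) :
    vec e₁ f₁ e₂ f₂ (Nat.xor a b) = vec e₁ f₁ e₂ f₂ a + vec e₁ f₁ e₂ f₂ b := by
  obtain ⟨-, hbit⟩ := code_xor a ha b hb
  simp only [vec, hbit 0 (by norm_num), hbit 1 (by norm_num), hbit 2 (by norm_num), hbit 3 (by norm_num),
    smul_mod h, add_nsmul]
  abel

theorem vec_zero : vec e₁ f₁ e₂ f₂ 0 = 0 := by simp [vec, bit]

theorem beta_vec (h : QuadSys V β S) (F : Frame β e₁ f₁ e₂ f₂) (a b : ℕ) :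
    β (vec e₁ f₁ e₂ f₂ a) (vec e₁ f₁ e₂ f₂ b) = (form a b : ZMod 2) := by
  have c1 := beta_comm h f₁ e₁
  have c2 := beta_comm h f₂ e₂
  have c3 := beta_comm h e₂ e₁
  have c4 := beta_comm h e₂ f₁
  have c5 := beta_comm h f₂ e₁
  have c6 := beta_comm h f₂ f₁
  simp only [vec, map_add, map_nsmul, AddMonoidHom.add_apply, AddMonoidHom.nsmul_apply, h.alt, F.ef₁, F.ef₂,
    F.ee, F.fe, F.ef, F.ff, c1, c2, c3, c4, c5, c6, nsmul_zero, add_zero, zero_add, nsmul_eq_mul, mul_one,
    mul_zero, form, cast_mod_two, Nat.cast_add, Nat.cast_mul]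
  ring

theorem form_nondeg : ∀ a < 16, (∀ b < 16, form a b = 0) → a = 0 := by decide +kernel

theorem xor_eq_zero : ∀ a < 16, ∀ b < 16, Nat.xor a b = 0 → a = b := by decide +kernel

theorem form_lt (a b : ℕ) : form a b < 2 := Nat.mod_lt _ two_pos

theorem form_eq_of_cast {a b : ℕ} (ha : a < 2) (hb : b < 2) (e : (a : ZMod 2) = b) : a = b := by
  have := congrArg ZMod.val e
  rwa [ZMod.val_natCast, ZMod.val_natCast, Nat.mod_eq_of_lt ha, Nat.mod_eq_of_lt hb] at this

theorem vec_inj (h : QuadSys V β S) (F : Frame β e₁ f₁ e₂ f₂) {a b : ℕ} (ha : a < 16) (hb : b < 16)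
    (e : vec e₁ f₁ e₂ f₂ a = vec e₁ f₁ e₂ f₂ b) : a = b := by
  refine xor_eq_zero a ha b hb (form_nondeg _ (code_xor a ha b hb).1 fun c _ => ?_)
  refine form_eq_of_cast (form_lt _ _) two_pos ?_
  rw [← beta_vec h F, vec_xor h ha hb, e, h.two, map_zero, AddMonoidHom.zero_apply, Nat.cast_zero]

theorem vec_surj (h : QuadSys V β S) (F : Frame β e₁ f₁ e₂ f₂) (v : V) :
    ∃ a < 16, vec e₁ f₁ e₂ f₂ a = v := by
  haveI : Finite V := Nat.finite_of_card_ne_zero (by rw [h.card]; norm_num)
  have hb := (Function.Injective.bijective_of_nat_card_le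
    (f := fun a : Fin 16 => vec e₁ f₁ e₂ f₂ a) (fun a b e => Fin.ext (vec_inj h F a.2 b.2 e))
    (by rw [h.card]; simp))
  obtain ⟨a, e⟩ := hb.2 v
  exact ⟨a, a.2, e⟩

/-- The pair with a given code. -/
def pairV (e₁ f₁ e₂ f₂ : V) (c : ℕ) : V × V := (vec e₁ f₁ e₂ f₂ (c % 16), vec e₁ f₁ e₂ f₂ (c / 16))

/-- A set of pair codes with the closure properties. -/
structure Closed (T : ℕ → Prop) : Prop where
  adm : ∀ c, T c → Quad.adm c = true
  rot : ∀ c, T c → T (rotC c)
  sum : ∀ c d, T c → T d → ortho c d = true → T (Nat.xor c d)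

theorem closed_pairs (h : QuadSys V β S) (F : Frame β e₁ f₁ e₂ f₂) :
    Closed fun c => c < 256 ∧ pairV e₁ f₁ e₂ f₂ c ∈ S := by
  refine ⟨fun c ⟨hc, hS⟩ => ?_, fun c ⟨hc, hS⟩ => ?_, fun c d ⟨hc, hS⟩ ⟨hd, hS'⟩ ho => ?_⟩
  · obtain ⟨m1, m2, m3, m4⟩ := h.mem _ hS
    simp only [pairV] at m1 m2 m3 m4
    simp only [Quad.adm, Bool.and_eq_true, decide_eq_true_eq, bne_iff_ne, ne_eq, beq_iff_eq]
    refine ⟨⟨⟨⟨hc, fun e => m1 (by rw [e, vec_zero])⟩, fun e => m2 (by rw [e, vec_zero])⟩,
      fun e => m3 (by rw [e])⟩, form_eq_of_cast (form_lt _ _) two_pos ?_⟩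
    rw [← beta_vec h F, m4, Nat.cast_zero]
  · have hx := (code_xor (c % 16) (Nat.mod_lt _ (by norm_num)) (c / 16) (by omega)).1
    refine ⟨by simp only [rotC]; omega, ?_⟩
    have e1 : rotC c % 16 = c / 16 := by simp only [rotC]; omega
    have e2 : rotC c / 16 = Nat.xor (c % 16) (c / 16) := by simp only [rotC]; omega
    simp only [pairV, e1, e2, vec_xor h (Nat.mod_lt _ (by norm_num : 16 > 0)) (show c / 16 < 16 by omega)]
    exact h.rot _ hS
  · have hp := List.all_eq_true.1 (List.all_eq_true.1 pair_xor c (List.mem_range.2 hc)) d (List.mem_range.2 hd)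
    simp only [Bool.and_eq_true, beq_iff_eq, decide_eq_true_eq] at hp
    simp only [ortho, Bool.and_eq_true, bne_iff_ne, ne_eq, beq_iff_eq] at ho
    obtain ⟨⟨hne, o1⟩, o2⟩ := ho
    refine ⟨hp.2, ?_⟩
    have hm : ∀ x : ℕ, x % 16 < 16 := fun x => Nat.mod_lt _ (by norm_num)
    simp only [pairV, hp.1.1, hp.1.2, vec_xor h (hm _) (hm _),
      vec_xor h (show c / 16 < 16 by omega) (show d / 16 < 16 by omega)]
    refine h.sum _ hS _ hS' (fun e => hne ?_) ?_ ?_
    · simp only [pairV, Prod.mk.injEq] at e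
      have a := vec_inj h F (hm c) (hm d) e.1
      have b := vec_inj h F (by omega) (by omega) e.2
      omega
    · simp only [pairV, beta_vec h F]
      rw [← Nat.cast_add, ← cast_mod_two, o1, Nat.cast_zero]
    · simp only [pairV, ← vec_xor h (hm d) (show d / 16 < 16 by omega), beta_vec h F]
      rw [← Nat.cast_add, ← cast_mod_two, o2, Nat.cast_zero]

theorem Closed.orb {T : ℕ → Prop} (hT : Closed T) {c : ℕ} (hc : T c) : ∀ e ∈ Quad.orb c, T e := by
  intro e he
  simp only [Quad.orb, List.mem_cons, List.not_mem_nil, or_false] at he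
  rcases he with rfl | rfl | rfl
  · exact hc
  · exact hT.rot _ hc
  · exact hT.rot _ (hT.rot _ hc)

theorem Closed.full_or_small {T : ℕ → Prop} (hT : Closed T) {i : ℕ} (hi : i < 6) :
    (∀ e ∈ row i, T e) ∨ ∃ c, ∀ e ∈ row i, T e → e ∈ Quad.orb c := by
  have hs := List.all_eq_true.1 row_spec i (List.mem_range.2 hi)
  simp only [Bool.and_eq_true, List.all_eq_true, Bool.or_eq_true, List.contains_iff_mem, List.any_eq_true,
    beq_iff_eq, decide_eq_true_eq] at hs
  by_cases h0 : ∃ c ∈ row i, T c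
  · obtain ⟨c, hc, hcT⟩ := h0
    by_cases h1 : ∃ d ∈ row i, T d ∧ d ∉ Quad.orb c
    · obtain ⟨d, hd, hdT, hdo⟩ := h1
      refine Or.inl fun e he => ?_
      rcases ((hs.2 c hc).2 d hd).resolve_left hdo e he with (h | h) | ⟨c', hc', d', hd', ho, rfl⟩
      · exact hT.orb hcT e h
      · exact hT.orb hdT e h
      · exact hT.sum _ _ (hT.orb hcT _ hc') (hT.orb hdT _ hd') ho
    · push Not at h1
      exact Or.inr ⟨c, h1⟩
  · push Not at h0
    exact Or.inr ⟨0, fun e he hT => absurd hT (h0 e he)⟩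

theorem Closed.ncard_le {T : ℕ → Prop} (hT : Closed T) : {c | T c}.ncard ≤ 30 := by
  classical
  let R : ℕ → Finset ℕ := fun i => (row i).toFinset.filter T
  have hsub : {c | T c} ⊆ ↑((Finset.range 6).biUnion R) := by
    intro c hc
    have ha := hT.adm c hc
    have hlt : c < 256 := by
      simp only [Quad.adm, Bool.and_eq_true, decide_eq_true_eq] at ha
      exact ha.1.1.1.1
    have h := List.all_eq_true.1 row_cover c (List.mem_range.2 hlt)
    rw [ha, Bool.not_true, Bool.false_or, List.any_eq_true] at h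
    obtain ⟨i, hi, h⟩ := h
    simp only [Finset.coe_biUnion, Set.mem_iUnion, Finset.coe_range, Set.mem_Iio]
    exact ⟨i, List.mem_range.1 hi, Finset.mem_filter.2
      ⟨List.mem_toFinset.2 (List.contains_iff_mem.1 h), hc⟩⟩
  refine (Set.ncard_le_ncard hsub (Finset.finite_toSet _)).trans ?_
  rw [Set.ncard_coe_finset]
  refine Finset.card_biUnion_le.trans ?_
  have h15 : ∀ i < 6, (R i).card ≤ 15 := fun i hi => by
    have hs := List.all_eq_true.1 row_spec i (List.mem_range.2 hi)
    simp only [Bool.and_eq_true, beq_iff_eq] at hs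
    exact (Finset.card_filter_le _ _).trans ((List.toFinset_card_le _).trans hs.1.le)
  have h3 : ∀ i < 6, ¬(∀ e ∈ row i, T e) → (R i).card ≤ 3 := fun i hi hn => by
    obtain ⟨c, hc⟩ := (hT.full_or_small hi).resolve_left hn
    refine (Finset.card_le_card (t := (Quad.orb c).toFinset) fun e he => ?_).trans (List.toFinset_card_le _)
    obtain ⟨a, b⟩ := Finset.mem_filter.1 he
    exact List.mem_toFinset.2 (hc e (List.mem_toFinset.1 a) b)
  have huniq : ∀ i < 6, ∀ j < 6, (∀ e ∈ row i, T e) → (∀ e ∈ row j, T e) → i = j := by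
    intro i hi j hj a b
    by_contra hne
    have h := List.all_eq_true.1 (List.all_eq_true.1 row_clash i (List.mem_range.2 hi)) j (List.mem_range.2 hj)
    rw [beq_eq_false_iff_ne.2 hne, Bool.false_or, List.any_eq_true] at h
    obtain ⟨c, hc, h⟩ := h
    obtain ⟨d, hd, h⟩ := List.any_eq_true.1 h
    simp only [Bool.and_eq_true, Bool.not_eq_true'] at h
    have := hT.adm _ (hT.sum _ _ (a c hc) (b d hd) h.1)
    rw [h.2] at this
    exact absurd this (by simp)
  by_cases hf : ∃ i < 6, ∀ e ∈ row i, T e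
  · obtain ⟨i, hi, hfull⟩ := hf
    rw [← Finset.add_sum_erase _ _ (Finset.mem_range.2 hi)]
    have : ∀ j ∈ (Finset.range 6).erase i, (R j).card ≤ 3 := fun j hj => by
      obtain ⟨hji, hj6⟩ := Finset.mem_erase.1 hj
      exact h3 j (Finset.mem_range.1 hj6) fun h => hji (huniq j (Finset.mem_range.1 hj6) i hi h hfull)
    have := Finset.sum_le_card_nsmul _ _ 3 this
    rw [Finset.card_erase_of_mem (Finset.mem_range.2 hi), Finset.card_range, smul_eq_mul] at this
    have := h15 i hi
    omega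
  · push Not at hf
    have := Finset.sum_le_card_nsmul (Finset.range 6) (fun i => (R i).card) 3 fun j hj =>
      h3 j (Finset.mem_range.1 hj) (by
        intro h
        obtain ⟨e, he, hn⟩ := hf j (Finset.mem_range.1 hj)
        exact hn (h e he))
    rw [Finset.card_range, smul_eq_mul] at this
    omega

/-- The isometries of the form. -/
def isoGroup (β : V →+ V →+ ZMod 2) : Subgroup (Equiv.Perm V) where
  carrier := {g | (∀ x y, g (x + y) = g x + g y) ∧ ∀ x y, β (g x) (g y) = β x y}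
  one_mem' := ⟨fun _ _ => rfl, fun _ _ => rfl⟩
  mul_mem' := fun {g g'} hg hg' => ⟨fun x y => by simp [hg'.1, hg.1], fun x y => by simp [hg.2, hg'.2]⟩
  inv_mem' := fun {g} hg => ⟨fun x y => by
      apply g.injective
      rw [hg.1]; simp, fun x y => by
      simpa using (hg.2 (g⁻¹ x) (g⁻¹ y)).symm⟩

theorem card_isoGroup (h : QuadSys V β S) (F : Frame β e₁ f₁ e₂ f₂) : Nat.card (isoGroup β) ≤ 720 := by
  classical
  haveI : Finite V := Nat.finite_of_card_ne_zero (by rw [h.card]; norm_num)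
  choose code hcode hvec using vec_surj h F
  let K : isoGroup β → ↥(frames.toFinset) := fun g =>
    ⟨(code ((g : Equiv.Perm V) e₁), code ((g : Equiv.Perm V) f₁), code ((g : Equiv.Perm V) e₂),
      code ((g : Equiv.Perm V) f₂)), by
      have key : ∀ x y (v : ℕ), v < 2 → β x y = (v : ZMod 2) →
          form (code ((g : Equiv.Perm V) x)) (code ((g : Equiv.Perm V) y)) = v := fun x y v hv e => by
        refine form_eq_of_cast (form_lt _ _) hv ?_
        rw [← beta_vec h F, hvec, hvec, g.2.2, e]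
      simp only [List.mem_toFinset, frames, List.mem_flatMap, List.mem_filter, List.mem_map, List.mem_range,
        beq_iff_eq, Bool.and_eq_true]
      exact ⟨_, hcode _, _, ⟨hcode _, key _ _ 1 one_lt_two (by rw [F.ef₁, Nat.cast_one])⟩, _,
        ⟨hcode _, key _ _ 0 two_pos (by rw [F.ee, Nat.cast_zero]), key _ _ 0 two_pos (by rw [F.fe, Nat.cast_zero])⟩,
        _, ⟨hcode _, ⟨key _ _ 1 one_lt_two (by rw [F.ef₂, Nat.cast_one]),
          key _ _ 0 two_pos (by rw [F.ef, Nat.cast_zero])⟩, key _ _ 0 two_pos (by rw [F.ff, Nat.cast_zero])⟩, rfl⟩⟩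
  have hK : Function.Injective K := by
    intro g g' e
    have e' := congrArg Subtype.val e
    simp only [K, Prod.mk.injEq] at e'
    obtain ⟨a, b, c, d⟩ := e'
    have lift : ∀ x, code ((g : Equiv.Perm V) x) = code ((g' : Equiv.Perm V) x) →
        (g : Equiv.Perm V) x = (g' : Equiv.Perm V) x := fun x he => by rw [← hvec ((g : Equiv.Perm V) x), he, hvec]
    let G₁ : V →+ V := AddMonoidHom.mk' (g : Equiv.Perm V) g.2.1
    let G₂ : V →+ V := AddMonoidHom.mk' (g' : Equiv.Perm V) g'.2.1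
    refine Subtype.ext (Equiv.ext fun x => ?_)
    obtain ⟨n, -, rfl⟩ := vec_surj h F x
    show G₁ _ = G₂ _
    simp only [vec, map_add, map_nsmul, show G₁ e₁ = G₂ e₁ from lift _ a, show G₁ f₁ = G₂ f₁ from lift _ b,
      show G₁ e₂ = G₂ e₂ from lift _ c, show G₁ f₂ = G₂ f₂ from lift _ d]
  have := Nat.card_le_card_of_injective K hK
  rw [Nat.card_eq_finsetCard] at this
  exact this.trans ((List.toFinset_card_le _).trans frames_length.le)

/-- A subgroup of index less than five contains the elements of order five. -/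
theorem mem_of_index_lt {G : Type*} [Group G] [Finite G] {R : Subgroup G} (hR : R.index < 5) {x : G}
    (hx : x ^ 5 = 1) : x ∈ R := by
  haveI : Fact (Nat.Prime 5) := ⟨by norm_num⟩
  have h1 : orderOf (MulAction.toPermHom G (G ⧸ R) x) ∣ Nat.card (Equiv.Perm (G ⧸ R)) := orderOf_dvd_natCard _
  rw [Nat.card_perm, ← Subgroup.index] at h1
  have h2 : orderOf (MulAction.toPermHom G (G ⧸ R) x) ∣ 5 :=
    orderOf_dvd_of_pow_eq_one (by rw [← map_pow, hx, map_one])
  rcases (Nat.dvd_prime (by norm_num)).1 h2 with h | h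
  · have h3 := congrArg (fun σ : Equiv.Perm (G ⧸ R) => σ ((1 : G) : G ⧸ R)) (orderOf_eq_one_iff.1 h)
    have h4 : ((x * 1 : G) : G ⧸ R) = ((1 : G) : G ⧸ R) := h3
    rw [mul_one, QuotientGroup.eq, mul_one] at h4
    exact inv_mem_iff.1 h4
  · rw [h, (by norm_num : Nat.Prime 5).dvd_factorial] at h1
    omega

end Quad

theorem QuadSys.ncard_le {V : Type*} [AddCommGroup V] {β : V →+ V →+ ZMod 2} {S : Set (V × V)}
    (h : QuadSys V β S) : S.ncard ≤ 30 := by
  obtain ⟨e₁, f₁, e₂, f₂, F⟩ := Quad.exists_frame h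
  have hT := Quad.closed_pairs h F
  refine le_trans ?_ hT.ncard_le
  have hsub : S ⊆ Quad.pairV e₁ f₁ e₂ f₂ '' {c | c < 256 ∧ Quad.pairV e₁ f₁ e₂ f₂ c ∈ S} := by
    rintro ⟨x, y⟩ hxy
    obtain ⟨a, ha, rfl⟩ := Quad.vec_surj h F x
    obtain ⟨b, hb, rfl⟩ := Quad.vec_surj h F y
    have e : Quad.pairV e₁ f₁ e₂ f₂ (a + 16 * b) =
        (Quad.vec e₁ f₁ e₂ f₂ a, Quad.vec e₁ f₁ e₂ f₂ b) := by
      rw [Quad.pairV, show (a + 16 * b) % 16 = a by omega, show (a + 16 * b) / 16 = b by omega]
    exact ⟨a + 16 * b, ⟨by omega, e.symm ▸ hxy⟩, e⟩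
  have hfin : {c | c < 256 ∧ Quad.pairV e₁ f₁ e₂ f₂ c ∈ S}.Finite :=
    (Set.finite_Iio 256).subset fun c hc => hc.1
  exact (Set.ncard_le_ncard hsub (hfin.image _)).trans (Set.ncard_image_le hfin)

theorem QuadSys.eq_empty {V : Type*} [AddCommGroup V] {β : V →+ V →+ ZMod 2} {S : Set (V × V)}
    (h : QuadSys V β S) {M : Type*} [Group M] (ρ : M →* Equiv.Perm V)
    (hadd : ∀ g x y, ρ g (x + y) = ρ g x + ρ g y)
    (hβ : ∀ g x y, β (ρ g x) (ρ g y) = β x y)
    (hS : ∀ g, ∀ c ∈ S, (ρ g c.1, ρ g c.2) ∈ S) (hM : 144 < Nat.card ρ.range) : S = ∅ := by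
  classical
  haveI : Finite V := Nat.finite_of_card_ne_zero (by rw [h.card]; norm_num)
  obtain ⟨e₁, f₁, e₂, f₂, F⟩ := Quad.exists_frame h
  choose code hcode hvec using Quad.vec_surj h F
  have hle : ρ.range ≤ Quad.isoGroup β := by rintro _ ⟨g, rfl⟩; exact ⟨hadd g, hβ g⟩
  have hidx : (ρ.range.subgroupOf (Quad.isoGroup β)).index < 5 := by
    have h1 := (ρ.range.subgroupOf (Quad.isoGroup β)).card_mul_index
    rw [Nat.card_congr (Subgroup.subgroupOfEquivOfLe hle).toEquiv] at h1
    have := Quad.card_isoGroup h F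
    by_contra hh
    push Not at hh
    nlinarith
  have gen : ∀ i ∈ [0, 1], ∃ g, ∀ a < 16, ρ g (Quad.vec e₁ f₁ e₂ f₂ a) =
      Quad.vec e₁ f₁ e₂ f₂ ((Quad.isoC i).getD a 0) := by
    intro i hi
    have hs := List.all_eq_true.1 Quad.iso_spec i hi
    simp only [List.all_eq_true, List.mem_range, Bool.and_eq_true, beq_iff_eq, decide_eq_true_eq] at hs
    set f : ℕ → ℕ := fun a => (Quad.isoC i).getD a 0
    have hf : ∀ a < 16, f a < 16 := fun a ha => (hs a ha).1.1
    have hf5 : ∀ a < 16, f (f (f (f (f a)))) = a := fun a ha => (hs a ha).1.2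
    let g : V → V := fun v => Quad.vec e₁ f₁ e₂ f₂ (f (code v))
    have hg : ∀ a < 16, g (Quad.vec e₁ f₁ e₂ f₂ a) = Quad.vec e₁ f₁ e₂ f₂ (f a) := fun a ha => by
      simp only [g, Quad.vec_inj h F (hcode _) ha (hvec _)]
    have hg5 : ∀ v, g (g (g (g (g v)))) = v := fun v => by
      obtain ⟨a, ha, rfl⟩ := Quad.vec_surj h F v
      rw [hg a ha, hg _ (hf a ha), hg _ (hf _ (hf a ha)), hg _ (hf _ (hf _ (hf a ha))),
        hg _ (hf _ (hf _ (hf _ (hf a ha)))), hf5 a ha]
    let σ : Equiv.Perm V := ⟨g, fun v => g (g (g (g v))), hg5, hg5⟩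
    have hσ : σ ∈ Quad.isoGroup β := by
      refine ⟨fun x y => ?_, fun x y => ?_⟩ <;> obtain ⟨a, ha, rfl⟩ := Quad.vec_surj h F x <;>
        obtain ⟨b, hb, rfl⟩ := Quad.vec_surj h F y
      · show g _ = g _ + g _
        rw [← Quad.vec_xor h ha hb, hg _ (Quad.code_xor a ha b hb).1, hg a ha, hg b hb,
          ← Quad.vec_xor h (hf a ha) (hf b hb), ← ((hs a ha).2 b hb).1]
      · show β (g _) (g _) = _
        rw [hg a ha, hg b hb, Quad.beta_vec h F, Quad.beta_vec h F, ((hs a ha).2 b hb).2]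
    have h5 : (⟨σ, hσ⟩ : Quad.isoGroup β) ^ 5 = 1 := Subtype.ext (Equiv.ext hg5)
    obtain ⟨m, hm⟩ := Quad.mem_of_index_lt hidx h5
    exact ⟨m, fun a ha => by rw [hm]; exact hg a ha⟩
  obtain ⟨u₀, hu₀⟩ := gen 0 (by simp)
  obtain ⟨u₁, hu₁⟩ := gen 1 (by simp)
  let T : ℕ → Prop := fun c => c < 256 ∧ Quad.pairV e₁ f₁ e₂ f₂ c ∈ S
  have hT : Quad.Closed T := Quad.closed_pairs h F
  have hlt : ∀ i < 2, ∀ c < 256, Quad.move i c < 256 := by decide +kernel
  have fwd : ∀ i < 2, ∀ c, T c → T (Quad.move i c) := by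
    intro i hi c hc
    refine ⟨hlt i hi c hc.1, ?_⟩
    have hlt' : ∀ a < 16, (Quad.isoC i).getD a 0 < 16 := by
      intro a ha
      have hs := List.all_eq_true.1 Quad.iso_spec i (by revert hi; simp; omega)
      simp only [List.all_eq_true, List.mem_range, Bool.and_eq_true, decide_eq_true_eq] at hs
      exact (hs a ha).1.1
    have h0 := hlt' (c % 16) (Nat.mod_lt _ (by norm_num))
    have h1 := hlt' (c / 16) (by have := hc.1; omega)
    have e1 : Quad.move i c % 16 = (Quad.isoC i).getD (c % 16) 0 := by simp only [Quad.move]; omega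
    have e2 : Quad.move i c / 16 = (Quad.isoC i).getD (c / 16) 0 := by simp only [Quad.move]; omega
    simp only [Quad.pairV, e1, e2]
    interval_cases i
    · rw [← hu₀ _ (Nat.mod_lt _ (by norm_num)), ← hu₀ _ (by have := hc.1; omega)]; exact hS _ _ hc.2
    · rw [← hu₁ _ (Nat.mod_lt _ (by norm_num)), ← hu₁ _ (by have := hc.1; omega)]; exact hS _ _ hc.2
  have hfive : ((List.range 256).all fun c => [0, 1].all fun i =>
      Quad.move i (Quad.move i (Quad.move i (Quad.move i (Quad.move i c)))) == c) = true := by decide +kernel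
  have step : ∀ i < 2, ∀ c < 256, T c ↔ T (Quad.move i c) := by
    intro i hi c hc
    refine ⟨fwd i hi c, fun h1 => ?_⟩
    have := fwd i hi _ (fwd i hi _ (fwd i hi _ (fwd i hi _ h1)))
    have e := List.all_eq_true.1 (List.all_eq_true.1 hfive c (List.mem_range.2 hc)) i (by revert hi; simp; omega)
    rwa [beq_iff_eq.1 e] at this
  obtain ⟨hlen, htree, hall⟩ := Quad.tree_spec
  have hnlt : ∀ n < 90, Quad.nodes.getD n 0 < 256 := by decide +kernel
  have conn : ∀ n < 90, T (Quad.nodes.getD n 0) ↔ T (Quad.nodes.getD 0 0) := by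
    intro n
    induction n using Nat.strong_induction_on with
    | _ n ih =>
      intro hn
      cases n with
      | zero => rfl
      | succ m =>
        have ht := List.all_eq_true.1 htree m (List.mem_range.2 (by omega))
        simp only [Bool.and_eq_true, decide_eq_true_eq, beq_iff_eq] at ht
        rw [ht.2, ← step _ (Nat.mod_lt _ two_pos) _ (hnlt _ (by omega))]
        exact ih _ (by omega) (by omega)
  by_contra hne
  obtain ⟨⟨x, y⟩, hxy⟩ := Set.nonempty_iff_ne_empty.2 hne
  obtain ⟨a, ha, rfl⟩ := Quad.vec_surj h F x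
  obtain ⟨b, hb, rfl⟩ := Quad.vec_surj h F y
  have hc : T (a + 16 * b) := ⟨by omega, by
    rw [Quad.pairV, show (a + 16 * b) % 16 = a by omega, show (a + 16 * b) / 16 = b by omega]; exact hxy⟩
  have every : ∀ c, Quad.adm c = true → ∃ n < 90, Quad.nodes.getD n 0 = c := by
    intro c hca
    have hlt : c < 256 := by
      simp only [Quad.adm, Bool.and_eq_true, decide_eq_true_eq] at hca
      exact hca.1.1.1.1
    have h1 := List.all_eq_true.1 hall c (List.mem_range.2 hlt)
    rw [hca, Bool.not_true, Bool.false_or, List.contains_iff_mem, List.mem_iff_getElem] at h1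
    obtain ⟨n, hn, e⟩ := h1
    exact ⟨n, hlen ▸ hn, by rw [List.getD_eq_getElem _ _ hn, e]⟩
  obtain ⟨n, hn, e⟩ := every _ (hT.adm _ hc)
  have h0 : T (Quad.nodes.getD 0 0) := (conn n hn).1 (e ▸ hc)
  have all : ∀ c, Quad.adm c = true → T c := fun c hca => by
    obtain ⟨m, hm, rfl⟩ := every c hca
    exact (conn m hm).2 h0
  obtain ⟨c, d, h1, h2, h3, h4⟩ := Quad.clash_free
  have := hT.adm _ (hT.sum c d (all c h1) (all d h2) h3)
  rw [h4] at this
  exact absurd this (by simp)

end Cfsg.Agent.J4Local
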