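import Mathlib
import Cfsg.Prelude.Def_TwoFusion
import Cfsg.Prelude.Def_CaseTheorems
import Cfsg.Agent.Lib.ZStar.InvariantSylow
import Cfsg.Agent.Lib.J4Local.Nonempty
import Cfsg.Agent.Lib.J4Local.Closure
import Cfsg.Agent.Lib.J4Local.Quad
import Cfsg.Agent.Lib.J4Local.LocMk

/-!
Some conjugate of `z` other than `z` centralises `z` and `P`.
-/

set_option autoImplicit false
set_option linter.style.haveILetI false
set_option linter.unusedSectionVars false

namespace Cfsg.Agent.J4Local

open Subgroup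

variable {G : Type*} [Group G] [Finite G] {z₀ z : G} {P : Subgroup G}

theorem exists_conj_in_HH [IsSimpleGroup G] (hG : ¬ IsMulCommutative G) (h : JType z P) :
    ∃ v ∈ HH z, v ≠ z ∧ IsConj z v := by
  by_contra hno
  push Not at hno
  have hiso : Cfsg.IsIsolatedInvolution z := ⟨h.two, fun g hg => by
    by_contra hne
    exact hno _ (mem_HH.2 hg.eq.symm) hne (isConj_iff.2 ⟨g, rfl⟩)⟩
  have htop := ZStar.InvariantSylow.oddCore_sup_centralizer hiso
  have hO : Cfsg.oddCore G = ⊥ := by
    rcases (ZStar.Main.oddCore_normal (G := G)).eq_bot_or_eq_top with e | e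
    · exact e
    · exfalso
      have h1 : Odd (Nat.card ↥(Cfsg.oddCore G)) := InvChar.Core.odd_card_oddCore
      have h2 : orderOf z ∣ Nat.card ↥(Cfsg.oddCore G) :=
        (Cfsg.oddCore G).orderOf_dvd_natCard (e ▸ mem_top z)
      rw [h.two] at h2
      exact Nat.not_even_iff_odd.2 h1 (even_iff_two_dvd.2 h2)
  rw [hO, bot_sup_eq] at htop
  have hzc : z ∈ center G := mem_center_iff.2 fun g =>
    mem_centralizer_singleton_iff.1 (htop ▸ mem_top g)
  rcases (inferInstance : (center G).Normal).eq_bot_or_eq_top with e | e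
  · rw [e, mem_bot] at hzc
    exact h.ctr.ne_one hzc
  · exact hG ⟨⟨fun a b => (mem_center_iff.1 (e ▸ mem_top b) a)⟩⟩

theorem Pt.quadSys (hX : Ctx z₀) (D : Pt z₀ z P) : QuadSys D.Ph D.beta D.SS :=
  ⟨D.card_Ph, D.Ph_two, D.beta_self, D.beta_nondeg, D.SS_mem, D.SS_rot, D.SS_sum hX⟩

/-- The contradiction from the absence of a further conjugate. -/
theorem false_of_ctx (hX : Ctx z₀) (hz : Good z₀ z P) (hex : ∃ v ∈ HH z, v ≠ z ∧ IsConj z₀ v) : False := by
  obtain ⟨D, hD⟩ := exists_RR hX hz hex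
  have h30 : ∀ D' : Pt z₀ z P, D'.SS.ncard ≤ 30 := fun D' => (D'.quadSys hX).ncard_le
  have h555 := D.ncard_KV_le hX h30 hD
  have hempty := (D.quadSys hX).eq_empty D.rho D.rho_add D.rho_beta D.rho_SS (D.card_range_rho h555)
  exact (D.SS_nonempty hD).ne_empty hempty

/-- Some conjugate of `z` other than `z` lies in `C`. -/
theorem exists_win [IsSimpleGroup G] (hG : ¬ IsMulCommutative G) (h : JType z P) :
    ∃ u ∈ CC z P, u ≠ z ∧ IsConj z u := by
  by_contra hno
  push Not at hno
  have hno' : ∀ u ∈ CC z P, IsConj z u → u = z := fun u hu hc => by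
    by_contra hne
    exact hno u hu hne hc
  exact false_of_ctx (ctx_of_noWin (fun z P h => loc_of_jtype h) h hno')
    ⟨loc_of_jtype h, IsConj.refl z, hno'⟩ (exists_conj_in_HH hG h)

end Cfsg.Agent.J4Local
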