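import Cfsg.Agent.Lib.J4Local.Three

/-!
# Janko four type: reductions of the local statements

The sixfold cover statement follows from `z ∈ C'` and `N(P) ≤ C(z)`; the Sylow 3-subgroup statement
follows from `N(P) ≤ C(z)`.
-/

set_option autoImplicit false
set_option linter.style.haveILetI false
set_option linter.unusedSectionVars false

namespace Cfsg.Agent.J4Local

open Subgroup

universe u

variable {G : Type u} [Group G] [Finite G]

theorem cover_of {z : G} {P : Subgroup G} (hJ : Cfsg.IsOfJankoFourTypeWith z P)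
    (hz : z ∈ ⁅CP z P, CP z P⁆) (hN : normalizer (P : Set G) ≤ Hz z) :
    ⁅CP z P, CP z P⁆ = CP z P ∧ IsCyclic ↥(center ↥(CP z P)) ∧
      Nat.card ↥(center ↥(CP z P)) = 6 ∧
      Cfsg.Spor.IsoM22 (↥(CP z P) ⧸ center ↥(CP z P)) ∧ normalizer (P : Set G) ≤ Hz z :=
  ⟨perfect_of_mem hJ hz, (isCyclic_center hJ).1, (isCyclic_center hJ).2, isoM22_quotient hJ, hN⟩

/-- The conjugate of a subgroup of order 27 of `C(z) ∩ C(P)` by an element `h` of `C(z)`. -/
theorem three_of {z : G} {P : Subgroup G} (hJ : Cfsg.IsOfJankoFourTypeWith z P)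
    (hN : normalizer (P : Set G) ≤ Hz z) [Fact (Nat.Prime 3)] (R : Sylow 3 G)
    (hR : (R : Subgroup G) ≤ Hz z) :
    Cfsg.IsExtraspecial 3 ↥(R : Subgroup G) ∧ Nat.card ↥(R : Subgroup G) = 27 ∧
      Monoid.exponent ↥(R : Subgroup G) = 3 ∧
      normalizer ((R : Subgroup G) : Set G) ≤ Hz z ∧
      Nat.card ↥(normalizer ((R : Subgroup G) : Set G)) = 864 := by
  obtain ⟨T, hT, hT27, h, hh, e⟩ := exists_conj_sylow hJ R hR
  let ε : ↥T ≃* ↥(R : Subgroup G) :=
    (T.equivMapOfInjective _ (MulAut.conj h).injective).trans (MulEquiv.subgroupCongr e.symm)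
  have hcard : Nat.card ↥(R : Subgroup G) = 27 := by rw [← Nat.card_congr ε.toEquiv, hT27]
  have hnT : normalizer (T : Set G) = NPz z P ⊓ normalizer (T : Set G) :=
    le_antisymm (le_inf (le_inf ((normalizer_T_le hJ hT hT27).trans hN) (normalizer_T_le hJ hT hT27))
      le_rfl) inf_le_right
  have hnR : normalizer ((R : Subgroup G) : Set G) =
      (normalizer (T : Set G)).map (MulAut.conj h).toMonoidHom := by
    rw [e]
    exact (map_equiv_normalizer_eq T (MulAut.conj h)).symm
  refine ⟨JankoTwo.extraspecial_of_card hcard fun hc => not_comm_T hJ hT hT27 fun a b =>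
    ε.injective (by rw [map_mul, map_mul, hc]), hcard, ?_, ?_, ?_⟩
  · rw [← Monoid.exponent_eq_of_mulEquiv ε]
    exact T_exponent hJ hT hT27
  · rw [hnR]
    rintro _ ⟨n, hn, rfl⟩
    exact mul_mem (mul_mem hh (hN (normalizer_T_le hJ hT hT27 hn))) (inv_mem hh)
  · rw [hnR, card_map_of_injective (MulAut.conj h).injective, hnT]
    exact card_normalizer_T hJ hT hT27

end Cfsg.Agent.J4Local
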