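import Mathlib
import Cfsg.Agent.Lib.J4Local.Endgame
import Cfsg.Agent.Lib.J4Local.Fusion
import Cfsg.Agent.Lib.J4Local.Reduce

/-!
`z` lies in the derived group of `C`, `C` is the centraliser of `P` and `N(P) ≤ C(z)`.
-/

set_option autoImplicit false
set_option linter.style.haveILetI false
set_option linter.unusedSectionVars false
set_option linter.unusedVariables false

namespace Cfsg.Agent.J4Local

open Subgroup
open scoped commutatorElement

variable {G : Type*} [Group G] [Finite G] {z : G} {P : Subgroup G}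

theorem six_cases (h : JType z P) {y : G} (hy : y ∈ P ⊔ zpowers z) : ∃ q ∈ P, y = q ∨ y = q * z := by
  have hn : P ≤ normalizer ((zpowers z : Subgroup G) : Set G) := fun q hq => by
    refine (centralizer_le_normalizer _) (mem_centralizer_iff.2 fun w hw => ?_)
    exact (six_central h (mem_sup_right hw) (P_le_CP h hq)).eq
  have hy' : y ∈ ((P ⊔ zpowers z : Subgroup G) : Set G) := hy
  rw [coe_mul_of_left_le_normalizer_right P _ hn] at hy'
  obtain ⟨q, hq, c, hc, rfl⟩ := hy'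
  rcases z_cases h hc with rfl | rfl
  · exact ⟨q, hq, Or.inl (mul_one q)⟩
  · exact ⟨q, hq, Or.inr rfl⟩

namespace Win

variable (W : Win z P)

theorem u_not_six : W.u ∉ P ⊔ zpowers z := by
  intro h
  have h3 := six_cube W.hJ h
  rw [pow_succ, pow_two, W.uu, one_mul] at h3
  rcases W.hJ.mem_zpowers h3 with e | e
  exacts [W.u_ne_one e, W.hne e]

theorem u_mem_Q2 : W.u ∈ W.Q2 := mem_inf.2 ⟨W.hJu.ctr.z_mem, W.u_mem_XX⟩

theorem fixed_inv {p q : G} (hp : p ∈ P) (hP : P = zpowers p) (hq : q ∈ W.Q) {w : VV W.u}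
    (hw : w ∈ imgV W.u W.Q2) : act W.u q w ∈ imgV W.u W.Q2 := by
  rw [← W.vk_fixed_iff hp hP, act_inner W.hJu (W.P_inner hp) hq, (W.vk_fixed_iff hp hP).2 hw]

theorem exists_noncomm (hk : 2 < Nat.card ↥W.Q2) : ∃ a ∈ W.Q2, ∃ b ∈ W.Q2, a * b ≠ b * a := by
  by_contra hno
  push Not at hno
  obtain ⟨p, hp, -, hP, -, -⟩ := W.exists_p
  have h0 : ∀ w ∈ imgV W.u W.Q2, w = 0 := fun w hw =>
    W.eq_zero_of_fixed hp hP ((W.vk_fixed_iff hp hP).2 hw) fun w' hw' => by
      obtain ⟨x, hx, hxE, rfl⟩ := hw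
      obtain ⟨y, hy, hyE, rfl⟩ := hw'
      rw [BB_vk W.hJu hxE hyE, cm_eq_zero]
      exact hno x hx y hy
  have h1 := card_two_mul W.hJu (inf_le_left : W.Q2 ≤ EE W.u) W.u_mem_Q2
  have h2 : imgV W.u W.Q2 = ⊥ := eq_bot_iff.2 fun w hw => AddSubgroup.mem_bot.2 (h0 w hw)
  rw [h2, AddSubgroup.card_bot] at h1
  have h3 : Nat.card ↥W.Q2 = 2 := h1
  omega

/-- The fixed points of `P` in `E_u` lie in the derived group of `C`. -/
theorem Q2_le_derived (hk : 2 < Nat.card ↥W.Q2) : W.Q2 ≤ ⁅CC z P, CC z P⁆ := by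
  have hJu := W.hJu
  obtain ⟨p, hp, -, hP, -, -⟩ := W.exists_p
  obtain ⟨q, hq, hq1, -, -⟩ := hJu.exists_gen
  have hqH := hJu.P_le_HH hq
  have hqN : q ∈ W.N := mem_sup_left hq
  -- a fixed point in the coset `q E`
  obtain ⟨e, he, heC⟩ := Coprime.exists_fixed_in_coset (A := P) (N := EE W.u) (k := q)
    (fun a ha => mem_normalizer_iff.2 fun x => ⟨fun hx => conj_mem_EE (W.P_le ha) hx, fun hx => by
      simpa [mul_assoc] using conj_mem_EE' (W.P_le ha) hx⟩)
    (by rw [W.hJ.cardP, hJu.cardE]; norm_num)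
    (Or.inl (by
      rw [hP]; exact Coprime.isSolvable_of_isMulCommutative _))
    (fun a ha => by
      have h1 := W.inner_comm_mod (W.P_inner ha) hqN
      have h2 := conj_mem_EE' hqH h1
      simpa [mul_assoc] using h2)
  set n := q * e with hn
  have hnH : n ∈ HH W.u := mul_mem hqH (EE_le_HH _ he)
  have hnC : n ∈ CC z P := W.cent_XX heC (mem_HH.1 hnH)
  have hact : ∀ w : VV W.u, act W.u n w = act W.u q w := fun w => act_mul_EE hJu hqH he w
  -- `act q + 1` is bijective on the fixed space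
  let Wv := imgV W.u W.Q2
  let f : ↥Wv → ↥Wv := fun w => ⟨act W.u q w + w, add_mem (W.fixed_inv hp hP hq w.2) w.2⟩
  have hinj : Function.Injective f := fun a b e => by
    have e1 : act W.u q (a : VV W.u) + a = act W.u q b + b := congrArg Subtype.val e
    refine Subtype.ext (VV.eq_of_add hJu (act_fpf hJu hq hq1 ?_))
    rw [map_add]
    refine VV.eq_of_add hJu ?_
    calc act W.u q (a : VV W.u) + act W.u q b + (a + b)
        = (act W.u q (a : VV W.u) + a) + (act W.u q b + b) := by abel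
      _ = 0 := by rw [e1, VV.two hJu]
  -- `u` is a commutator
  have huD : W.u ∈ ⁅CC z P, CC z P⁆ := by
    obtain ⟨a, ha, b, hb, hab⟩ := W.exists_noncomm hk
    have hc : ⁅a, b⁆ = W.u := (hJu.ctr.comm_cases (mem_inf.1 ha).1 (mem_inf.1 hb).1).resolve_left
      fun e => hab (commutatorElement_eq_one_iff_mul_comm.1 e)
    exact (congrArg (· ∈ ⁅CC z P, CC z P⁆) hc).mp
      (commutator_mem_commutator (W.Q2_le ha) (W.Q2_le hb))
  intro y hy
  have hyE := (mem_inf.1 hy).1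
  obtain ⟨⟨w, hw⟩, hfw⟩ := (Finite.injective_iff_surjective.1 hinj) ⟨vk W.u y, vk_mem_imgV hy hyE⟩
  have hfw' : act W.u q w + w = vk W.u y := congrArg Subtype.val hfw
  obtain ⟨x, hx, hxE, rfl⟩ := hw
  set d := n * x * n⁻¹ * x⁻¹ with hd
  have hdE : d ∈ EE W.u := mul_mem (conj_mem_EE hnH hxE) (inv_mem hxE)
  have hdD : d ∈ ⁅CC z P, CC z P⁆ := by
    have := commutator_mem_commutator hnC (W.Q2_le hx)
    rwa [commutatorElement_def] at this
  have e : vk W.u y = vk W.u d := by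
    rw [hd, vk_mul (conj_mem_EE hnH hxE) (inv_mem hxE), vk_inv hJu hxE, ← act_vk hnH hxE, hact, hfw']
  rcases (vk_eq_vk_iff hJu hyE hdE).1 e with rfl | rfl
  exacts [hdD, mul_mem hdD huD]

include W in
/-- `z` lies in the derived group of `C`. -/
theorem z_mem_derived : z ∈ ⁅CC z P, CC z P⁆ := by
  classical
  by_contra hzD
  have hJ := W.hJ
  have hJu := W.hJu
  set D := ⁅CC z P, CC z P⁆ with hD
  haveI := Cfsg.Agent.Golay.M22TwoBlock.isSimple
  have hM := Cfsg.Agent.Golay.M22Involution.card_M22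
  obtain ⟨π, hπ, hker⟩ := exists_pi hJ
  set U : ↥(CP z P) := ⟨W.u, W.huC⟩
  have hkerU : π U ≠ 1 := fun e => by
    rw [← MonoidHom.mem_ker, hker, mem_subgroupOf] at e
    exact W.u_not_six e
  haveI : Fact (Nat.Prime 2) := ⟨Nat.prime_two⟩
  have hu2 : orderOf (π U) = 2 := orderOf_eq_prime (by
    rw [pow_two, ← map_mul, show U * U = 1 from Subtype.ext W.uu, map_one]) hkerU
  -- the centraliser of `u` in `C`
  set K := CC z P ⊓ centralizer ({W.u} : Set G) with hK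
  have hlift : ∀ c : ↥(CP z P), π c * π U = π U * π c → (c : G) * W.u = W.u * c := by
    intro c hc
    have h1 : c * U * c⁻¹ * U⁻¹ ∈ π.ker := by
      rw [MonoidHom.mem_ker, map_mul, map_mul, map_mul, map_inv, map_inv, hc, mul_inv_cancel_right,
        mul_inv_cancel]
    rw [hker, mem_subgroupOf] at h1
    push_cast at h1
    have hcD : (c : G) * W.u * (c : G)⁻¹ * W.u⁻¹ ∈ D := by
      have := commutator_mem_commutator (H₁ := CC z P) (H₂ := CC z P) c.2 W.huC
      rwa [commutatorElement_def] at this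
    obtain ⟨q, hq, e | e⟩ := six_cases hJ h1
    · have hqu : q * W.u = W.u * q := mem_centralizer_iff.1 W.u_mem_XX q hq
      have e1 : (c : G) * W.u * (c : G)⁻¹ = q * W.u := by
        rw [← e, inv_mul_cancel_right]
      have e2 : q * q = 1 := by
        calc q * q = q * (W.u * W.u) * q := by rw [W.uu, mul_one]
          _ = (q * W.u) * (W.u * q) := by group
          _ = ((c : G) * W.u * (c : G)⁻¹) * ((c : G) * W.u * (c : G)⁻¹) := by rw [← hqu, e1]
          _ = (c : G) * (W.u * W.u) * (c : G)⁻¹ := by group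
          _ = 1 := by rw [W.uu, mul_one, mul_inv_cancel]
      have e3 := pow_three_eq_one hJ hq
      rw [pow_succ, pow_two, e2, one_mul] at e3
      rw [e3, one_mul] at e1
      exact mul_inv_eq_iff_eq_mul.1 e1
    · refine absurd ?_ hzD
      have h2 := mul_mem (inv_mem (hJ.P_le_derived hq)) hcD
      rwa [e, inv_mul_cancel_left] at h2
  have hKeq : K.subgroupOf (CP z P) = (centralizer ({π U} : Set ↥Spor.M22)).comap π := by
    ext c
    rw [mem_subgroupOf, mem_comap, mem_centralizer_singleton_iff]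
    refine ⟨fun hc => ?_, fun hc => mem_inf.2 ⟨c.2, mem_centralizer_singleton_iff.2 (hlift c hc)⟩⟩
    rw [← map_mul, ← map_mul]
    exact congrArg π (Subtype.ext (mem_centralizer_singleton_iff.1 (mem_inf.1 hc).2))
  have hKcard : Nat.card ↥K = 2304 := by
    have h1 : Nat.card ↥(centralizer ({π U} : Set ↥Spor.M22)) = 384 := M22Order.cen_involution hM hu2
    have h2 := (centralizer ({π U} : Set ↥Spor.M22)).card_mul_index
    rw [h1, hM] at h2
    have h3 := ((centralizer ({π U} : Set ↥Spor.M22)).comap π).card_mul_index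
    rw [index_comap_of_surjective _ hπ, card_CP hJ, ← hKeq,
      Nat.card_congr (subgroupOfEquivOfLe (inf_le_left : K ≤ CP z P)).toEquiv] at h3
    have h4 : (centralizer ({π U} : Set ↥Spor.M22)).index = 1155 := by omega
    rw [h4] at h3
    exact Nat.eq_of_mul_eq_mul_right (show 0 < 1155 by norm_num) (h3.trans (by norm_num))
  -- a Sylow 2-subgroup containing `z`
  have hzK : z ∈ K := mem_inf.2 ⟨z_mem_CC hJ, mem_centralizer_singleton_iff.2 (mem_HH.1 (mem_inf.1 W.huC).1).symm⟩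
  obtain ⟨S0⟩ := (inferInstance : Nonempty (Sylow 2 ↥K))
  have hzc : (⟨z, hzK⟩ : ↥K) ∈ center ↥K := mem_center_iff.2 fun k =>
    Subtype.ext (mem_HH.1 (mem_inf.1 (mem_inf.1 k.2).1).1)
  have hzS0 : (⟨z, hzK⟩ : ↥K) ∈ (S0 : Subgroup ↥K) := by
    haveI : (zpowers (⟨z, hzK⟩ : ↥K)).Normal := ⟨fun a ha k => by
      rw [mem_center_iff.1 ((zpowers_le.2 hzc) ha) k, mul_inv_cancel_right]; exact ha⟩
    have hp : IsPGroup 2 ↥(zpowers (⟨z, hzK⟩ : ↥K)) :=
      IsPGroup.of_card (n := 1) (by rw [Nat.card_zpowers, orderOf_mk, hJ.two, pow_one])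
    exact (SetLike.ext_iff.1 (S0.is_maximal' (hp.to_sup_of_normal_left S0.2) le_sup_right) _).1
      (mem_sup_left (mem_zpowers _))
  have hS0c : Nat.card ↥(S0 : Subgroup ↥K) = 256 := by
    have : (2304 : ℕ).factorization 2 = 8 := by
      rw [Nat.factorization_def _ Nat.prime_two, show (2304 : ℕ) = 2 ^ 8 * 9 by norm_num,
        padicValNat.mul (by norm_num) (by norm_num), padicValNat.prime_pow,
        padicValNat.eq_zero_of_not_dvd (by norm_num), add_zero]
    rw [S0.card_eq_multiplicity, hKcard, this]; norm_num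
  set S := (S0 : Subgroup ↥K).map K.subtype with hS
  have hScard : Nat.card ↥S = 256 := by rw [hS, card_map_of_injective K.subtype_injective, hS0c]
  have hSK : S ≤ K := map_subtype_le _
  have hzS : z ∈ S := ⟨⟨z, hzK⟩, hzS0, rfl⟩
  have hSH : S ≤ HH W.u := fun x hx => (mem_inf.1 (hSK hx)).2
  have hSX : S ≤ XX P := fun x hx => (mem_inf.1 (mem_inf.1 (hSK hx)).1).2
  let ψ : ↥S →* MulAut ↥Spor.M22 := W.Φ.comp (Subgroup.inclusion hSH)
  have hψ : ∀ s : ↥S, ψ s = W.Φ ⟨(s : G), hSH s.2⟩ := fun s => rfl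
  have hkerQ : ∀ s : ↥S, ψ s = 1 → (s : G) ∈ W.Q2 := by
    intro s hs
    rw [hψ, ← W.mem_N_iff] at hs
    refine mem_inf.2 ⟨W.mem_EE_of_two (k := 8) hs ?_, hSX s.2⟩
    have h1 : (s : ↥S) ^ Nat.card ↥S = 1 := pow_card_eq_one'
    rw [hScard] at h1
    rw [show (2 : ℕ) ^ 8 = 256 by norm_num, show ((s : G) ^ 256) = 1 from congrArg Subtype.val h1]
    exact one_mem _
  have hkle : Nat.card ↥ψ.ker ≤ Nat.card ↥W.Q2 :=
    Nat.card_le_card_of_injective (fun s => ⟨((s : ↥S) : G), hkerQ s.1 s.2⟩) fun a b e =>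
      Subtype.ext (Subtype.ext (congrArg (fun x : ↥W.Q2 => (x : G)) e))
  obtain ⟨p, hp, hp1, hP, hx3, hxin⟩ := W.exists_p
  have hT2 : IsPGroup 2 ↥ψ.range :=
    (IsPGroup.of_card (n := 8) (by rw [hScard]; norm_num) : IsPGroup 2 ↥S).of_surjective
      ψ.rangeRestrict ψ.rangeRestrict_surjective
  obtain ⟨hT8, hTnc⟩ := aut_three_two hxin hx3 ψ.range hT2 (by
    rintro _ ⟨s, rfl⟩
    rw [mem_centralizer_singleton_iff, hψ, ← map_mul, ← map_mul]
    exact congrArg W.Φ (Subtype.ext (mem_centralizer_iff.1 (hSX s.2) p hp).symm))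
  have hmul := ψ.ker.card_mul_index
  rw [index_ker, hScard] at hmul
  have h32 : 32 ≤ Nat.card ↥W.Q2 := by
    have := Nat.mul_le_mul hkle hT8
    rw [hmul] at this
    omega
  -- the image in M22
  let φ : ↥W.Q2 →* ↥Spor.M22 := π.comp (Subgroup.inclusion W.Q2_le)
  have hφ : Function.Injective φ := by
    refine (injective_iff_map_eq_one φ).2 fun x hx => ?_
    change π ⟨(x : G), W.Q2_le x.2⟩ = 1 at hx
    rw [← MonoidHom.mem_ker, hker, mem_subgroupOf] at hx
    have hz3 := six_cube hJ hx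
    have h4 := hJu.pow_four (mem_inf.1 x.2).1
    have hx' : (x : G) ∈ zpowers z := by
      have e : (x : G) = (x : G) ^ 4 * ((x : G) ^ 3)⁻¹ := by group
      rw [e, h4, one_mul]
      exact inv_mem hz3
    rcases hJ.mem_zpowers hx' with e | e
    · exact Subtype.ext e
    · exact absurd ((congrArg (· ∈ W.Q2) e).mp x.2) W.z_not_Q2
  obtain ⟨q, hq, hq1, -, -⟩ := hJu.exists_gen
  obtain ⟨k, -, hk⟩ := card_invariant hJu hq hq1 (W := imgV W.u W.Q2) fun w hw => W.fixed_inv hp hP hq hw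
  have hQc := card_two_mul hJu (inf_le_left : W.Q2 ≤ EE W.u) W.u_mem_Q2
  rw [hk] at hQc
  have hdvd : Nat.card ↥W.Q2 ∣ 443520 := hM ▸ card_dvd_of_injective φ hφ
  have hk3 : k < 4 := by
    by_contra hk4
    rw [hQc] at hdvd
    have h512 : 2 * 4 ^ 4 ∣ 443520 := (mul_dvd_mul_left 2 (pow_dvd_pow 4 (show 4 ≤ k by omega))).trans hdvd
    norm_num at h512
  have h128 : Nat.card ↥W.Q2 ≠ 128 := fun h128 => by
    refine no_normal_sylow hM hu2 φ.range ?_ ?_ ?_
    · rintro _ ⟨x, rfl⟩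
      rw [mem_centralizer_singleton_iff]
      show π ⟨(x : G), W.Q2_le x.2⟩ * π U = π U * π ⟨(x : G), W.Q2_le x.2⟩
      rw [← map_mul, ← map_mul]
      exact congrArg π (Subtype.ext (hJu.ctr.comm (mem_inf.1 x.2).1))
    · rw [← h128]
      exact (Nat.card_congr (MonoidHom.ofInjective hφ).toEquiv).symm
    · rintro g hg _ ⟨x, rfl⟩
      obtain ⟨c, rfl⟩ := hπ g
      have hcu := hlift c (mem_centralizer_singleton_iff.1 hg)
      have hcQ : (c : G) * x * (c : G)⁻¹ ∈ W.Q2 :=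
        mem_inf.2 ⟨conj_mem_EE (mem_HH.2 hcu) (mem_inf.1 x.2).1,
          mul_mem (mul_mem (mem_inf.1 c.2).2 (mem_inf.1 x.2).2) (inv_mem (mem_inf.1 c.2).2)⟩
      refine ⟨⟨_, hcQ⟩, ?_⟩
      show π ⟨(c : G) * x * (c : G)⁻¹, W.Q2_le hcQ⟩ = π c * π ⟨(x : G), W.Q2_le x.2⟩ * (π c)⁻¹
      rw [← map_mul, ← map_inv, ← map_mul]
      rfl
  have hQ32 : Nat.card ↥W.Q2 = 32 := by
    have hQc' : Nat.card ↥W.Q2 = 2 * 4 ^ k := hQc
    have hcases : Nat.card ↥W.Q2 = 2 ∨ Nat.card ↥W.Q2 = 8 ∨ Nat.card ↥W.Q2 = 32 ∨ Nat.card ↥W.Q2 = 128 := by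
      rw [hQc']; interval_cases k <;> simp
    rcases hcases with e | e | e | e
    · rw [e] at h32; exact absurd h32 (by norm_num)
    · rw [e] at h32; exact absurd h32 (by norm_num)
    · exact e
    · exact absurd e h128
  have hT : Nat.card ↥ψ.range = 8 := by
    refine le_antisymm hT8 ?_
    have := Nat.mul_le_mul_right (Nat.card ↥ψ.range) hkle
    rw [hmul, hQ32] at this
    omega
  obtain ⟨a, ha, b, hb, hab⟩ := hTnc hT
  set T := ψ.range
  -- the centre of the image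
  set Zc := Subgroup.center ↥T
  let tz : ↥T := ⟨ψ ⟨z, hzS⟩, ⟨_, rfl⟩⟩
  have htz : tz ∈ Zc := by
    refine mem_center_iff.2 fun g => Subtype.ext ?_
    obtain ⟨s, hs⟩ := g.2
    show (g : MulAut ↥Spor.M22) * ψ ⟨z, hzS⟩ = ψ ⟨z, hzS⟩ * g
    rw [← hs, ← map_mul, ← map_mul]
    exact congrArg ψ (Subtype.ext (mem_HH.1 (mem_inf.1 (mem_inf.1 (hSK s.2)).1).1))
  have htz1 : tz ≠ 1 := fun e => W.z_not_Q2 (hkerQ ⟨z, hzS⟩ (congrArg Subtype.val e))
  have hnotc : ∀ (hc : ∀ x y : ↥T, x * y = y * x), False := fun hc =>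
    hab (congrArg Subtype.val (hc ⟨a, ha⟩ ⟨b, hb⟩))
  have hZ2 : Nat.card ↥Zc = 2 := by
    obtain ⟨i, hi, hi'⟩ := (Nat.dvd_prime_pow Nat.prime_two).1
      (show Nat.card ↥Zc ∣ 2 ^ 3 by rw [show (2 : ℕ) ^ 3 = 8 by norm_num, ← hT]; exact Zc.card_subgroup_dvd_card)
    interval_cases i
    · exact absurd ((Subgroup.mem_bot).1 (Subgroup.eq_bot_of_card_eq _ hi' ▸ htz)) htz1
    · rw [hi']; norm_num
    · exfalso
      refine hnotc ?_
      have hidx := Zc.card_mul_index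
      rw [hi', hT] at hidx
      haveI : IsCyclic (↥T ⧸ Zc) := isCyclic_of_prime_card (p := 2) (by
        rw [← Subgroup.index_eq_card]
        exact Nat.eq_of_mul_eq_mul_left (by norm_num) (hidx.trans (by norm_num)))
      exact fun x y => ((QuotientGroup.mk' Zc).isMulCommutative_of_isCyclic_of_ker_le_center
        (by rw [QuotientGroup.ker_mk'])).is_comm.comm x y
    · exfalso
      refine hnotc fun x y => ?_
      have htop : Zc = ⊤ := Subgroup.eq_top_of_card_eq _ (by rw [hi', hT]; norm_num)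
      exact mem_center_iff.1 (show y ∈ Zc from htop ▸ mem_top y) x
  set c0 : ↥T := ⁅(⟨a, ha⟩ : ↥T), ⟨b, hb⟩⁆ with hc0
  have hc0Z : c0 ∈ Zc := by
    have hq4 : Nat.card (↥T ⧸ Zc) = 2 ^ 2 := by
      have hidx := Zc.card_mul_index
      rw [hZ2, hT, Subgroup.index_eq_card] at hidx
      omega
    letI := IsPGroup.commGroupOfCardEqPrimeSq hq4
    rw [← QuotientGroup.eq_one_iff, hc0]
    show QuotientGroup.mk' Zc _ = 1
    rw [map_commutatorElement, commutatorElement_eq_one_iff_mul_comm]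
    exact mul_comm _ _
  have hc01 : c0 ≠ 1 := fun e => hab (congrArg Subtype.val (commutatorElement_eq_one_iff_mul_comm.1 e))
  have heq : c0 = tz := by
    by_contra hne
    haveI : Fintype ↥Zc := Fintype.ofFinite _
    have h3 : ({1, ⟨c0, hc0Z⟩, ⟨tz, htz⟩} : Finset ↥Zc).card ≤ Fintype.card ↥Zc := Finset.card_le_univ _
    rw [Finset.card_insert_of_notMem, Finset.card_insert_of_notMem, Finset.card_singleton,
      ← Nat.card_eq_fintype_card, hZ2] at h3
    · omega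
    · rw [Finset.mem_singleton]; exact fun e => hne (congrArg Subtype.val e)
    · simp only [Finset.mem_insert, Finset.mem_singleton, not_or]
      exact ⟨fun e => hc01 (congrArg Subtype.val e).symm, fun e => htz1 (congrArg Subtype.val e).symm⟩
  obtain ⟨s, hs⟩ := ha
  obtain ⟨r, hr⟩ := hb
  have hker' : ψ (⁅s, r⁆⁻¹ * ⟨z, hzS⟩) = 1 := by
    rw [map_mul, map_inv, inv_mul_eq_one, map_commutatorElement, hs, hr]
    exact congrArg Subtype.val heq
  have hQD := W.Q2_le_derived (by omega) (hkerQ _ hker')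
  have hsr : ((⁅s, r⁆ : ↥S) : G) ∈ D := by
    have := commutator_mem_commutator (H₁ := CC z P) (H₂ := CC z P) (mem_inf.1 (hSK s.2)).1 (mem_inf.1 (hSK r.2)).1
    simpa [commutatorElement_def] using this
  refine hzD ?_
  have hmem := mul_mem hsr hQD
  push_cast at hmem
  simpa [commutatorElement_def, mul_assoc] using hmem

end Win

/-- An involution of `X` centralising only `P` in `O(X)` inverts `O(X)` modulo `P`. -/
theorem inverts (h : JType z P) {u : G} (hu : u ∈ XX P) (hu2 : orderOf u = 2)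
    (hcent : ∀ o ∈ OO P, o * u = u * o → o ∈ P) {o : G} (ho : o ∈ OO P) : u * o * u⁻¹ * o ∈ P := by
  haveI hn : (P.subgroupOf (OO P)).Normal := ⟨fun x hx y => by
    rw [mem_subgroupOf] at hx ⊢
    push_cast
    rw [← mem_centralizer_iff.1 (OO_le P y.2) _ hx, mul_inv_cancel_right]
    exact hx⟩
  have huu : u * u = 1 := by rw [← pow_two, ← hu2, pow_orderOf_eq_one]
  have hfix : ∀ a ∈ OO P, u * a * u⁻¹ * a⁻¹ ∈ P → a ∈ P := fun a ha e => by
    obtain ⟨c, hc, hcu, e'⟩ := fixed_mod_P h hu hu2 ha e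
    simpa using mul_mem (hcent c hc hcu) (inv_mem e')
  let φ : ↥(OO P) ⧸ P.subgroupOf (OO P) →* ↥(OO P) ⧸ P.subgroupOf (OO P) := QuotientGroup.map _ _
    ({ toFun := fun a => ⟨u * a * u⁻¹, OO_normal hu a.2⟩
       map_one' := Subtype.ext (by simp)
       map_mul' := fun a b => Subtype.ext (by push_cast; group) } : ↥(OO P) →* ↥(OO P))
    (fun a ha => by
      rw [mem_comap, mem_subgroupOf] at *
      show u * (a : G) * u⁻¹ ∈ P
      rw [← mem_centralizer_iff.1 hu _ ha, mul_inv_cancel_right]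
      exact ha)
  have hφ : ∀ a : ↥(OO P), φ (QuotientGroup.mk a) = QuotientGroup.mk ⟨u * a * u⁻¹, OO_normal hu a.2⟩ :=
    fun a => rfl
  have hFPF : MonoidHom.FixedPointFree φ := by
    intro w hw
    obtain ⟨a, rfl⟩ := QuotientGroup.mk_surjective w
    rw [hφ, QuotientGroup.eq, mem_subgroupOf] at hw
    refine (QuotientGroup.eq_one_iff a).2 (mem_subgroupOf.2 (hfix _ a.2 ?_))
    push_cast at hw
    have e : u * (a : G) * u⁻¹ * (a : G)⁻¹ = ((u * (a : G) * u⁻¹)⁻¹ * (a : G))⁻¹ := by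
      calc u * (a : G) * u⁻¹ * (a : G)⁻¹
          = (a : G) * ((u * (a : G) * u⁻¹)⁻¹ * (a : G))⁻¹ * (a : G)⁻¹ := by group
        _ = _ := by
          rw [← mem_centralizer_iff.1 (OO_le P a.2) _ (inv_mem hw), mul_inv_cancel_right]
    rw [e]; exact inv_mem hw
  have hinv : Function.Involutive φ := fun w => by
    obtain ⟨a, rfl⟩ := QuotientGroup.mk_surjective w
    rw [hφ, hφ]
    refine congrArg _ (Subtype.ext ?_)
    show u * (u * (a : G) * u⁻¹) * u⁻¹ = a
    calc u * (u * (a : G) * u⁻¹) * u⁻¹ = (u * u) * a * (u * u)⁻¹ := by group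
      _ = a := by rw [huu]; group
  have e := congrFun (hFPF.coe_eq_inv_of_involutive hinv) (QuotientGroup.mk ⟨o, ho⟩)
  rw [hφ, ← QuotientGroup.mk_inv, QuotientGroup.eq, mem_subgroupOf] at e
  push_cast at e
  have e2 : u * o * u⁻¹ * o = o⁻¹ * ((u * o * u⁻¹)⁻¹ * o⁻¹)⁻¹ * o := by group
  rw [e2, ← mem_centralizer_iff.1 (inv_mem (OO_le P ho)) _ (inv_mem e), inv_mul_cancel_right]
  exact inv_mem e

/-- `O(X) = P`. -/
theorem Win.OO_le_P (W : Win z P) : OO P ≤ P := by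
  have hJ := W.hJ
  have hperf := perfect_of_mem hJ W.z_mem_derived
  have hPO := P_le_OO hJ
  haveI : Fact (Nat.Prime 2) := ⟨Nat.prime_two⟩
  have huI : ∀ o ∈ OO P, W.u * o * W.u⁻¹ * o ∈ P := fun o ho =>
    inverts hJ W.u_mem_XX (orderOf_eq_prime (by rw [pow_two]; exact W.uu) W.u_ne_one)
      (fun o ho e => W.cent_OO ho e) ho
  have hzI : ∀ o ∈ OO P, z * o * z⁻¹ * o ∈ P := fun o ho => z_inverts (fun z P h => loc_of_jtype h) hJ ho
  let K : Subgroup G :=
    { carrier := {c | c ∈ CC z P ∧ ∀ o ∈ OO P, c * o * c⁻¹ * o⁻¹ ∈ P}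
      one_mem' := ⟨one_mem _, fun o _ => by simp⟩
      mul_mem' := fun {a b} ha hb => ⟨mul_mem ha.1 hb.1, fun o ho => by
        have hbo : b * o * b⁻¹ ∈ OO P := OO_normal (mem_inf.1 hb.1).2 ho
        have e : a * b * o * (a * b)⁻¹ * o⁻¹ = (a * (b * o * b⁻¹) * a⁻¹ * (b * o * b⁻¹)⁻¹) * (b * o * b⁻¹ * o⁻¹) := by
          group
        rw [e]; exact mul_mem (ha.2 _ hbo) (hb.2 o ho)⟩
      inv_mem' := fun {a} ha => ⟨inv_mem ha.1, fun o ho => by
        have hao : a⁻¹ * o * a⁻¹⁻¹ ∈ OO P := OO_normal (inv_mem (mem_inf.1 ha.1).2) ho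
        have h1 := inv_mem (ha.2 _ hao)
        have e : a⁻¹ * o * a⁻¹⁻¹ * o⁻¹ = (a * (a⁻¹ * o * a⁻¹⁻¹) * a⁻¹ * (a⁻¹ * o * a⁻¹⁻¹)⁻¹)⁻¹ := by group
        rw [e]; exact h1⟩ }
  have hKn : ∀ c ∈ CC z P, ∀ k ∈ K, c * k * c⁻¹ ∈ K := fun c hc k hk =>
    ⟨mul_mem (mul_mem hc hk.1) (inv_mem hc), fun o ho => by
      have hcX := (mem_inf.1 hc).2
      have ho' : c⁻¹ * o * c⁻¹⁻¹ ∈ OO P := OO_normal (inv_mem hcX) ho
      have h1 := hk.2 _ ho'
      have e : c * k * c⁻¹ * o * (c * k * c⁻¹)⁻¹ * o⁻¹ =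
          c * (k * (c⁻¹ * o * c⁻¹⁻¹) * k⁻¹ * (c⁻¹ * o * c⁻¹⁻¹)⁻¹) * c⁻¹ := by group
      rw [e, ← mem_centralizer_iff.1 hcX _ h1, mul_inv_cancel_right]
      exact h1⟩
  have huz : W.u * z ∈ K := ⟨mul_mem W.huC (z_mem_CC hJ), fun o ho => by
    have hzo : z * o * z⁻¹ ∈ OO P := OO_normal (z_mem_XX hJ) ho
    have e : W.u * z * o * (W.u * z)⁻¹ * o⁻¹ =
        (W.u * (z * o * z⁻¹) * W.u⁻¹ * (z * o * z⁻¹)) * (o * (z * o * z⁻¹))⁻¹ := by group
    rw [e]
    refine mul_mem (huI _ hzo) (inv_mem ?_)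
    have h1 := hzI o ho
    have e1 : o * (z * o * z⁻¹) = o * (z * o * z⁻¹ * o) * o⁻¹ := by group
    rw [e1, ← mem_centralizer_iff.1 (OO_le P ho) _ h1, mul_inv_cancel_right]
    exact h1⟩
  obtain ⟨π, hπ, hker⟩ := exists_pi hJ
  haveI := Cfsg.Agent.Golay.M22TwoBlock.isSimple
  let K' : Subgroup ↥(CP z P) := K.subgroupOf (CP z P)
  haveI hK' : K'.Normal := ⟨fun k hk c => by
    rw [mem_subgroupOf] at hk ⊢
    exact hKn c c.2 k hk⟩
  have htop : K'.map π = ⊤ := by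
    rcases (hK'.map π hπ).eq_bot_or_eq_top with e | e
    · exfalso
      have h1 : π ⟨W.u * z, mul_mem W.huC (z_mem_CC hJ)⟩ ∈ K'.map π := ⟨_, mem_subgroupOf.2 huz, rfl⟩
      rw [e, mem_bot, ← MonoidHom.mem_ker, hker, mem_subgroupOf] at h1
      refine W.u_not_six ?_
      simpa using mul_mem h1 (inv_mem (mem_sup_right (mem_zpowers z) : z ∈ P ⊔ zpowers z))
    · exact e
  have hdec : ∀ c ∈ CC z P, ∃ k ∈ K, ∃ s ∈ P ⊔ zpowers z, c = k * s := by
    intro c hc
    obtain ⟨k, hk, e⟩ := (htop ▸ mem_top (π ⟨c, hc⟩) : π ⟨c, hc⟩ ∈ K'.map π)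
    refine ⟨k, mem_subgroupOf.1 hk, (k : G)⁻¹ * c, ?_, by group⟩
    have h1 : k⁻¹ * (⟨c, hc⟩ : ↥(CP z P)) ∈ π.ker := by
      rw [MonoidHom.mem_ker, map_mul, map_inv, e, inv_mul_cancel]
    rw [hker, mem_subgroupOf] at h1
    simpa using h1
  have hDK : ⁅CC z P, CC z P⁆ ≤ K := by
    rw [commutator_le]
    intro a ha b hb
    obtain ⟨k, hk, s, hs, rfl⟩ := hdec a ha
    obtain ⟨l, hl, t, ht, rfl⟩ := hdec b hb
    have hsC := six_le hJ hs
    have htC := six_le hJ ht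
    have e : ⁅k * s, l * t⁆ = ⁅k, l⁆ := by
      rw [commutatorElement_def, commutatorElement_def]
      have c1 : Commute s (l * t) := six_central hJ hs (mul_mem hl.1 htC)
      have c2 : Commute t k⁻¹ := six_central hJ ht (inv_mem hk.1)
      calc k * s * (l * t) * (k * s)⁻¹ * (l * t)⁻¹ = k * (s * (l * t) * s⁻¹) * k⁻¹ * (l * t)⁻¹ := by group
        _ = k * l * (t * k⁻¹) * t⁻¹ * l⁻¹ := by rw [c1.eq, mul_inv_cancel_right]; group
        _ = _ := by rw [c2.eq]; group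
    rw [e, commutatorElement_def]
    exact mul_mem (mul_mem (mul_mem hk hl) (inv_mem hk)) (inv_mem hl)
  have hzK : z ∈ K := hDK W.z_mem_derived
  intro o ho
  have h1 := hzK.2 o ho
  have h2 := hzI o ho
  have h3 : o⁻¹ * o⁻¹ ∈ P := by
    have e : o⁻¹ * o⁻¹ = (z * o * z⁻¹ * o)⁻¹ * (z * o * z⁻¹ * o⁻¹) := by group
    rw [e]; exact mul_mem (inv_mem h2) h1
  obtain ⟨m, hm⟩ := (OO_odd P).of_dvd_nat ((OO P).orderOf_dvd_natCard ho)
  have e : o = (o⁻¹ * o⁻¹)⁻¹ ^ (m + 1) := by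
    have h4 : o ^ (2 * m + 1) = 1 := by rw [← hm, pow_orderOf_eq_one]
    calc o = o ^ (2 * m + 1) * o := by rw [h4, one_mul]
      _ = _ := by rw [← pow_succ, mul_inv_rev, inv_inv, ← pow_two, ← pow_mul]; congr 1
  rw [e]
  exact pow_mem (inv_mem h3) _

variable [IsSimpleGroup G]

theorem exists_Win (hG : ¬ IsMulCommutative G) (h : JType z P) : Nonempty (Win z P) := by
  obtain ⟨u, hu, hne, hc⟩ := exists_win hG h
  exact exists_win_data h hu hne hc

/-- The centraliser of `P` lies in `C(z)`. -/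
theorem XX_le_CC (hG : ¬ IsMulCommutative G) (h : JType z P) : XX P ≤ CC z P := by
  obtain ⟨W⟩ := exists_Win hG h
  intro x hx
  obtain ⟨o, ho, c, hc, rfl⟩ := XX_dec (fun z P h => loc_of_jtype h) h hx
  exact mul_mem (h.P_le_CC (W.OO_le_P ho)) hc

/-- The normalizer of `P` lies in `C(z)`. -/
theorem normalizer_P_le (hG : ¬ IsMulCommutative G) (h : JType z P) :
    Subgroup.normalizer (P : Set G) ≤ HH z := by
  intro g hg
  have hcj : ∀ x ∈ CC z P, ∀ k ∈ normalizer (P : Set G), k * x * k⁻¹ ∈ CC z P := by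
    intro x hx k hk
    refine XX_le_CC hG h (mem_centralizer_iff.2 fun q hq => ?_)
    have hq' : k⁻¹ * q * k ∈ P := (mem_normalizer_iff.1 hk _).2 (by simpa [mul_assoc] using hq)
    have h1 := mem_centralizer_iff.1 (mem_inf.1 hx).2 _ hq'
    calc q * (k * x * k⁻¹) = k * ((k⁻¹ * q * k) * x) * k⁻¹ := by group
      _ = _ := by rw [h1]; group
  set v := g * z * g⁻¹ with hv
  have hvC : v ∈ CC z P := hcj z (z_mem_CC h) g hg
  have hcen : (⟨v, hvC⟩ : ↥(CP z P)) ∈ center ↥(CP z P) := by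
    refine mem_center_iff.2 fun c => Subtype.ext ?_
    show (c : G) * v = v * c
    have h1 : g⁻¹ * c * g ∈ HH z := by
      simpa using (mem_inf.1 (hcj c c.2 g⁻¹ (inv_mem hg))).1
    calc (c : G) * v = g * ((g⁻¹ * c * g) * z) * g⁻¹ := by rw [hv]; group
      _ = _ := by rw [mem_HH.1 h1, hv]; group
  rw [center_CP h, mem_subgroupOf] at hcen
  have hvv : v * v = 1 := by
    rw [hv]
    calc g * z * g⁻¹ * (g * z * g⁻¹) = g * (z * z) * g⁻¹ := by group
      _ = 1 := by rw [h.ctr.zz]; group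
  have h3 : v ^ 3 ∈ zpowers z := six_cube h hcen
  rw [pow_succ, pow_two, hvv, one_mul] at h3
  rcases h.mem_zpowers h3 with e | e
  · exact absurd e (conj_ne_one h g)
  · rw [mem_HH]
    exact mul_inv_eq_iff_eq_mul.1 e

theorem z_mem_derived_CC (hG : ¬ IsMulCommutative G) (h : JType z P) : z ∈ ⁅CC z P, CC z P⁆ := by
  obtain ⟨W⟩ := exists_Win hG h
  exact W.z_mem_derived

end Cfsg.Agent.J4Local
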