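import Cfsg.Agent.Lib.J4Local.Three

/-!
Groups of Janko-four type: the elements of order three form one class, given that `N(P)` lies in the
centralizer of `z` and that `C(P)` has a second conjugate of `z` in that centralizer.
-/

set_option autoImplicit false

namespace Cfsg.Agent.J4Local

open Subgroup

universe u

variable {G : Type u} [Group G] [Finite G] {z : G} {P T : Subgroup G}
  (hJ : Cfsg.IsOfJankoFourTypeWith z P) (hT : T ≤ CP z P) (hT27 : Nat.card T = 27)

include hJ hT hT27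

/-- The subgroup of order 27 is a Sylow 3-subgroup of the group. -/
theorem exists_sylow_T (hN : normalizer (P : Set G) ≤ Hz z) [Fact (Nat.Prime 3)] :
    ∃ R : Sylow 3 G, (R : Subgroup G) = T := by
  have hTp : IsPGroup 3 T := IsPGroup.of_card (n := 3) (by rw [hT27]; norm_num)
  obtain ⟨R, hR⟩ := hTp.exists_le_sylow
  refine ⟨R, by_contra fun hne => ?_⟩
  obtain ⟨n, hn⟩ := IsPGroup.iff_card.1 R.isPGroup'
  have hlt : T < (R : Subgroup G) := lt_of_le_of_ne hR (Ne.symm hne)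
  -- normalizers grow
  haveI := R.isPGroup'.isNilpotent
  have hT' : T.subgroupOf (R : Subgroup G) < ⊤ := lt_top_iff_ne_top.2 fun h =>
    hne (le_antisymm (subgroupOf_eq_top.1 h) hR)
  have hgrow := Group.normalizerCondition_of_isNilpotent (T.subgroupOf (R : Subgroup G)) hT'
  obtain ⟨g, hg, hgT⟩ := SetLike.exists_of_lt hgrow
  have hgn : (g : G) ∈ normalizer (T : Set G) := by
    refine mem_normalizer_iff.2 fun x => ?_
    constructor
    · intro hx
      exact (mem_normalizer_iff.1 hg ⟨x, hR hx⟩).1 hx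
    · intro hx
      have hxR : x ∈ (R : Subgroup G) := by
        have e : x = (g : G)⁻¹ * ((g : G) * x * (g : G)⁻¹) * (g : G) := by group
        rw [e]; exact mul_mem (mul_mem (inv_mem g.2) (hR hx)) g.2
      exact (mem_normalizer_iff.1 hg ⟨x, hxR⟩).2 hx
  have hgH := hN (normalizer_T_le hJ hT hT27 hgn)
  set U := (normalizer (T : Set G)) ⊓ (R : Subgroup G) with hU
  have hTU : T ≤ U := le_inf le_normalizer hR
  have hUH : U ≤ NPz z P ⊓ normalizer (T : Set G) := fun x hx =>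
    ⟨⟨hN (normalizer_T_le hJ hT hT27 hx.1), normalizer_T_le hJ hT hT27 hx.1⟩, hx.1⟩
  obtain ⟨k, hk⟩ := IsPGroup.iff_card.1 (R.isPGroup'.to_le (inf_le_right : U ≤ (R : Subgroup G)))
  have hlt' : T < U := lt_of_le_of_ne hTU fun h => hgT (by
    have : (g : G) ∈ U := ⟨hgn, g.2⟩
    rw [← h] at this
    exact this)
  have h27 : 27 < 3 ^ k := hk ▸ hT27 ▸ lt_of_le_of_ne (card_le_of_le hTU) fun h =>
    hlt'.ne (eq_of_le_of_card_ge hTU h.ge)
  have hd := card_dvd_of_le hUH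
  rw [hk, card_normalizer_T hJ hT hT27] at hd
  have hk4 : 4 ≤ k := by
    by_contra h
    have : 3 ^ k ≤ 3 ^ 3 := Nat.pow_le_pow_right (by norm_num) (by omega)
    omega
  have := (Nat.pow_dvd_pow 3 hk4).trans hd
  norm_num at this

omit hT hT27

/-- Some element of `C(z)` inverts `P`. -/
theorem exists_invert_P : ∃ n : G, ∀ p ∈ P, n * p * n⁻¹ = p⁻¹ := by
  obtain ⟨g, hg, hgP⟩ := exists_gen hJ
  have hgm : g ∈ P := hgP ▸ mem_zpowers g
  obtain ⟨n, hn, hnC⟩ : ∃ n ∈ NPz z P, n ∉ CP z P := by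
    by_contra h
    push Not at h
    have := index_CP hJ
    rw [show (CP z P).subgroupOf (NPz z P) = ⊤ from subgroupOf_eq_top.2 h, index_top] at this
    omega
  refine ⟨n, ?_⟩
  have hn' : n * g * n⁻¹ ∈ P := (mem_normalizer_iff.1 hn.2 g).1 hgm
  have hgen : n * g * n⁻¹ = g⁻¹ := by
    obtain ⟨i, hi⟩ := mem_zpowers_iff.1 (hgP.symm ▸ hn' : n * g * n⁻¹ ∈ zpowers g)
    rw [← zpow_mod_orderOf, hg] at hi
    have h0 : 0 ≤ i % (3 : ℕ) := Int.emod_nonneg _ (by norm_num)
    have h3 : i % (3 : ℕ) < 3 := Int.emod_lt_of_pos _ (by norm_num)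
    interval_cases hj : i % (3 : ℕ)
    · rw [zpow_zero, eq_comm, conj_eq_one_iff] at hi
      rw [hi, orderOf_one] at hg
      omega
    · exfalso
      rw [zpow_one] at hi
      refine hnC ⟨hn.1, mem_centralizer_iff.2 fun p hp => ?_⟩
      rw [SetLike.mem_coe, ← hgP, mem_zpowers_iff] at hp
      obtain ⟨j, rfl⟩ := hp
      exact (((show Commute n g from mul_inv_eq_iff_eq_mul.1 hi.symm).zpow_right j).eq).symm
    · rw [← hi, eq_comm, inv_eq_iff_mul_eq_one, zpow_ofNat, ← pow_succ', show 2 + 1 = 3 from rfl, ← hg,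
        pow_orderOf_eq_one]
  intro p hp
  rw [← hgP, mem_zpowers_iff] at hp
  obtain ⟨j, rfl⟩ := hp
  rw [← conj_zpow, hgen, inv_zpow]

include hT hT27

/-- The elements of the subgroup of order 27 outside `P` are conjugate. -/
theorem isConj_of_not_mem {r s : G} (hr : r ∈ T) (hrP : r ∉ P) (hs : s ∈ T) (hsP : s ∉ P) :
    IsConj r s := by
  haveI := Cfsg.Agent.Golay.M22TwoBlock.isSimple
  obtain ⟨π, hπ, hker⟩ := exists_pi hJ
  have hord : ∀ x, ∀ hx : x ∈ T, x ∉ P → orderOf (π ⟨x, hT hx⟩) = 3 := by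
    intro x hx hxP
    haveI : Fact (Nat.Prime 3) := ⟨Nat.prime_three⟩
    refine orderOf_eq_prime ?_ fun e => hxP ?_
    · rw [← map_pow, show (⟨x, hT hx⟩ : ↥(CP z P)) ^ 3 = 1 from Subtype.ext (T_pow_three hJ hT hT27 hx),
        map_one]
    · have h : (⟨x, hT hx⟩ : ↥(CP z P)) ∈ π.ker := e
      rw [hker, mem_subgroupOf] at h
      exact six_inf_T hJ hT hT27 h hx
  obtain ⟨m, hm⟩ := isConj_iff.1 (M22Order.isConj_three Cfsg.Agent.Golay.M22Involution.card_M22
    (hord r hr hrP) (hord s hs hsP))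
  obtain ⟨c, rfl⟩ := hπ m
  have hk : c * ⟨r, hT hr⟩ * c⁻¹ * (⟨s, hT hs⟩ : ↥(CP z P))⁻¹ ∈ π.ker := by
    rw [MonoidHom.mem_ker, map_mul, map_mul, map_mul, map_inv, map_inv, hm, mul_inv_cancel]
  rw [hker, mem_subgroupOf] at hk
  simp only [coe_mul, InvMemClass.coe_inv] at hk
  set k := (c : G) * r * (c : G)⁻¹ * s⁻¹ with hk'
  have hks : Commute k s := six_central hJ hk (hT hs)
  have hk3 : k ^ 3 = 1 := by
    have h : (k * s) ^ 3 = 1 := by
      rw [hk', inv_mul_cancel_right, conj_pow, T_pow_three hJ hT hT27 hr, mul_one, mul_inv_cancel]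
    rwa [hks.mul_pow, T_pow_three hJ hT hT27 hs, mul_one] at h
  have hkP : k ∈ P := by
    have hn : zpowers z ≤ centralizer (P : Set G) := zpowers_le.2 (z_mem_CP hJ).2
    have hk2 : k ∈ ((P ⊔ zpowers z : Subgroup G) : Set G) := hk
    rw [coe_mul_of_right_le_normalizer_left P _ (hn.trans (centralizer_le_normalizer _))] at hk2
    obtain ⟨p, hp, e, he, hpe⟩ := hk2
    have hpe' : p * e = k := hpe
    rcases z_cases hJ he with rfl | rfl
    · rw [← hpe', mul_one]; exact hp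
    · exfalso
      rw [← hpe', (show Commute p e from mem_centralizer_iff.1 (hn he) p hp).mul_pow,
        T_pow_three hJ hT hT27 (P_le_T hJ hT hT27 hp), one_mul] at hk3
      have := orderOf_dvd_of_pow_eq_one hk3
      rw [orderOf_z hJ] at this
      norm_num at this
  -- commutators with `s` fill `P`
  obtain ⟨t, ht, htne⟩ : ∃ t ∈ T, t * s * t⁻¹ * s⁻¹ ≠ 1 := by
    by_contra h
    push Not at h
    apply hsP
    have hc : (⟨s, hs⟩ : ↥T) ∈ center ↥T := mem_center_iff.2 fun y => Subtype.ext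
      (mul_inv_eq_iff_eq_mul.1 (mul_inv_eq_one.1 (h y y.2)))
    rw [center_T hJ hT hT27, mem_subgroupOf] at hc
    exact hc
  have hwP : t * s * t⁻¹ * s⁻¹ ∈ P := by
    haveI : Fact (Nat.Prime 3) := ⟨Nat.prime_three⟩
    have hcomm : commutator ↥T ≤ center ↥T := by
      have h := (T_extraspecial hJ hT hT27).1
      exact le_of_eq h.2.2
    have h1 : (⟨t, ht⟩ : ↥T) * ⟨s, hs⟩ * (⟨t, ht⟩ : ↥T)⁻¹ * (⟨s, hs⟩ : ↥T)⁻¹ ∈ center ↥T :=
      hcomm (commutator_mem_commutator (mem_top _) (mem_top _))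
    rw [center_T hJ hT hT27, mem_subgroupOf] at h1
    exact h1
  set w := t * s * t⁻¹ * s⁻¹ with hw
  have hwt : ∀ y ∈ T, Commute w y := fun y hy => six_central hJ (mem_sup_left hwP) (hT hy)
  have hpow : ∀ i : ℕ, t ^ i * s * (t ^ i)⁻¹ = w ^ i * s := by
    intro i
    induction i with
    | zero => simp
    | succ i ih =>
      have e : t ^ (i + 1) * s * (t ^ (i + 1))⁻¹ = t * (t ^ i * s * (t ^ i)⁻¹) * t⁻¹ := by
        rw [pow_succ']; group
      rw [e, ih, ← mul_assoc t, ← ((hwt t ht).pow_left i).eq,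
        show w ^ i * t * s * t⁻¹ = w ^ i * (t * s * t⁻¹) by group, show t * s * t⁻¹ = w * s by rw [hw]; group,
        ← mul_assoc, ← pow_succ]
  obtain ⟨i, hi⟩ : k ∈ Submonoid.powers w := by
    haveI : Fact (Nat.Prime 3) := ⟨Nat.prime_three⟩
    rw [(isOfFinOrder_of_finite w).mem_powers_iff_mem_zpowers]
    have : zpowers w = P := eq_of_le_of_card_ge (zpowers_le.2 hwP) (by
      rw [card_P hJ, Nat.card_zpowers, orderOf_eq_prime (T_pow_three hJ hT hT27 (P_le_T hJ hT hT27 hwP)) htne])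
    rw [this]; exact hkP
  have e2 : (c : G) * r * (c : G)⁻¹ = k * s := by rw [hk', inv_mul_cancel_right]
  refine (isConj_iff.2 ⟨(c : G), e2⟩).trans ?_
  rw [← hi, ← hpow i]
  exact (isConj_iff.2 ⟨t ^ i, rfl⟩).symm

omit hT hT27

/-- One class of elements of order three. -/
theorem isConj_three_class (hN : normalizer (P : Set G) ≤ Hz z) {u : G} (hu : u ∈ CP z P) (huz : u ≠ z)
    (hzu : IsConj z u) {x y : G} (hx : orderOf x = 3) (hy : orderOf y = 3) : IsConj x y := by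
  haveI : Fact (Nat.Prime 3) := ⟨Nat.prime_three⟩
  obtain ⟨T, hT, hT27⟩ := exists_twenty_seven hJ
  obtain ⟨R, hR⟩ := exists_sylow_T hJ hT hT27 hN
  obtain ⟨p, hp, hpP⟩ := exists_gen hJ
  have hpm : p ∈ P := hpP ▸ mem_zpowers p
  obtain ⟨n, hn⟩ := exists_invert_P hJ
  obtain ⟨g, hg⟩ := isConj_iff.1 hzu
  have hRH : (R : Subgroup G) ≤ Hz z := hR ▸ hT.trans inf_le_left
  -- the conjugate of `p` at `z`
  have hgp : g⁻¹ * p * g ∈ Hz z := by
    have hc : Commute p u := mem_centralizer_iff.1 hu.2 p hpm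
    refine mem_centralizer_singleton_iff.2 ?_
    have := (hc.map (MulAut.conj g⁻¹).toMonoidHom).eq
    simp only [MulEquiv.coe_toMonoidHom, MulAut.conj_apply, inv_inv] at this
    rwa [show g⁻¹ * u * g = z by rw [← hg]; group] at this
  obtain ⟨h, hh, hhT⟩ : ∃ h ∈ Hz z, h * (g⁻¹ * p * g) * h⁻¹ ∈ T := by
    let R' : Sylow 3 ↥(Hz z) := R.subtype hRH
    have hp3 : IsPGroup 3 (zpowers (⟨g⁻¹ * p * g, hgp⟩ : ↥(Hz z))) := by
      refine IsPGroup.of_card (n := 1) ?_
      rw [Nat.card_zpowers, Subgroup.orderOf_mk, pow_one,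
        show g⁻¹ * p * g = MulAut.conj g⁻¹ p by simp, MulEquiv.orderOf_eq, hp]
    obtain ⟨S, hS⟩ := hp3.exists_le_sylow
    obtain ⟨h, hh⟩ := MulAction.exists_smul_eq ↥(Hz z) S R'
    refine ⟨h, h.2, ?_⟩
    have h1 : h * ⟨g⁻¹ * p * g, hgp⟩ * h⁻¹ ∈ (R' : Subgroup ↥(Hz z)) := by
      rw [← hh, Sylow.coe_subgroup_smul, ← MulAut.conj_apply]
      exact Subgroup.smul_mem_pointwise_smul _ _ _ (hS (mem_zpowers _))
    rw [← hR]
    exact h1
  set t₀ := h * (g⁻¹ * p * g) * h⁻¹ with ht₀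
  have hpt : IsConj p t₀ := isConj_iff.2 ⟨h * g⁻¹, by rw [ht₀]; group⟩
  have ht₀P : t₀ ∉ P := by
    intro hm
    have key : ∀ q ∈ P, (h * g⁻¹) * q * (h * g⁻¹)⁻¹ ∈ P := by
      intro q hq
      rw [← hpP, mem_zpowers_iff] at hq
      obtain ⟨j, rfl⟩ := hq
      rw [← conj_zpow, show h * g⁻¹ * p * (h * g⁻¹)⁻¹ = t₀ by rw [ht₀]; group]
      exact P.zpow_mem hm j
    have hnorm : h * g⁻¹ ∈ normalizer (P : Set G) := by
      have hle : P.map (MulAut.conj (h * g⁻¹)).toMonoidHom ≤ P := by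
        rintro _ ⟨q, hq, rfl⟩
        exact key q hq
      have heq := eq_of_le_of_card_ge hle (le_of_eq (card_map_of_injective (MulAut.conj _).injective).symm)
      refine mem_normalizer_iff.2 fun q => ⟨key q, fun hq => ?_⟩
      rw [← heq] at hq
      obtain ⟨q', hq', e⟩ := hq
      rwa [← (MulAut.conj (h * g⁻¹)).injective (e : MulAut.conj (h * g⁻¹) q' = MulAut.conj (h * g⁻¹) q)]
    have hgH : g ∈ Hz z := by
      have := mul_mem (inv_mem hh) (hN hnorm)
      rw [inv_mul_cancel_left] at this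
      exact inv_mem_iff.1 this
    exact huz (by rw [← hg, mem_centralizer_singleton_iff.1 hgH, mul_inv_cancel_right])
  have main : ∀ x : G, orderOf x = 3 → IsConj p x := by
    intro x hx
    obtain ⟨S, hS⟩ := (IsPGroup.of_card (p := 3) (n := 1) (by rw [Nat.card_zpowers, hx, pow_one]) :
      IsPGroup 3 (zpowers x)).exists_le_sylow
    obtain ⟨f, hf⟩ := MulAction.exists_smul_eq G S R
    have hm : f * x * f⁻¹ ∈ T := by
      rw [← hR, ← hf, Sylow.coe_subgroup_smul, ← MulAut.conj_apply]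
      exact Subgroup.smul_mem_pointwise_smul _ _ _ (hS (mem_zpowers x))
    refine IsConj.trans ?_ (isConj_iff.2 ⟨f, rfl⟩).symm
    by_cases hmP : f * x * f⁻¹ ∈ P
    · obtain ⟨j, hj⟩ := mem_zpowers_iff.1 (hpP.symm ▸ hmP : f * x * f⁻¹ ∈ zpowers p)
      rw [← zpow_mod_orderOf, hp] at hj
      have h0 : 0 ≤ j % (3 : ℕ) := Int.emod_nonneg _ (by norm_num)
      have h3 : j % (3 : ℕ) < 3 := Int.emod_lt_of_pos _ (by norm_num)
      rw [← hj]
      interval_cases j % (3 : ℕ)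
      · exfalso
        rw [zpow_zero, eq_comm, conj_eq_one_iff] at hj
        rw [hj, orderOf_one] at hx
        omega
      · rw [zpow_one]
      · refine isConj_iff.2 ⟨n, ?_⟩
        rw [hn p hpm, inv_eq_iff_mul_eq_one, zpow_ofNat, ← pow_succ', show 2 + 1 = 3 from rfl, ← hp,
          pow_orderOf_eq_one]
    · exact hpt.trans (isConj_of_not_mem hJ hT hT27 hhT ht₀P hm hmP)
  exact (main x hx).symm.trans (main y hy)

end Cfsg.Agent.J4Local
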